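import Cfsg.Agent.Lib.SympCent35.QuatMain
import Cfsg.Agent.Lib.TensorForm.SympMain

/-!
An overgroup of the normaliser containing the centralisers of all quaternion pairs contains every transvection
of both factors of a tensor decomposition which it does not stabilise, so it is the whole derived group.
-/

set_option autoImplicit false
set_option linter.unusedSectionVars false
set_option linter.style.haveILetI false

namespace Cfsg.Agent.Lib.SympCent35

open Module Matrix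
open Cfsg.Agent.Lib.TensorMax Cfsg.Agent.Lib.TensorForm

variable {F : Type*} [Field F] [Fintype F] {n : ℕ} [Nontrivial (Fin n → F)] [Finite (Module.End F (Fin n → F))ˣ]

/-- The subgroup of the units of the endomorphism ring corresponding to a subgroup of the matrix group. -/
noncomputable def endImage (H : Subgroup (GL (Fin n) F)) : Subgroup (Module.End F (Fin n → F))ˣ :=
  H.map Matrix.GeneralLinearGroup.toLin.toMonoidHom

theorem mem_endImage_iso {Q : QuadraticForm F (Fin n → F)} (h2 : (2 : F) ≠ 0) (g : (Module.End F (Fin n → F))ˣ) :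
    g ∈ endImage (Cfsg.isometryGroup F ⇑Q) ↔
      ∀ u v, QuadraticMap.polarBilin Q ((g : Module.End F (Fin n → F)) u) ((g : Module.End F (Fin n → F)) v)
        = QuadraticMap.polarBilin Q u v := by
  obtain ⟨g, rfl⟩ := Matrix.GeneralLinearGroup.toLin.surjective g
  rw [endImage, Subgroup.mem_map_equiv, MulEquiv.symm_apply_apply, Orth.mem_isometryGroup_iff]
  show (∀ v, Q ((g : Matrix (Fin n) (Fin n) F) *ᵥ v) = Q v) ↔
    ∀ u v, QuadraticMap.polar Q ((g : Matrix (Fin n) (Fin n) F) *ᵥ u) ((g : Matrix (Fin n) (Fin n) F) *ᵥ v)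
      = QuadraticMap.polar Q u v
  constructor
  · intro hg u v
    rw [QuadraticMap.polar, ← mulVec_add, hg, hg, hg]; rfl
  · intro hg v
    have e := hg v v
    rw [QuadraticMap.polar_self, QuadraticMap.polar_self, two_nsmul, two_nsmul, ← two_mul, ← two_mul] at e
    exact mul_left_cancel₀ h2 e

variable {Q : QuadraticForm F (Fin n → F)} {R : Subgroup (Module.End F (Fin n → F))ˣ}
  {adj : Module.End F (Fin n → F) → Module.End F (Fin n → F)}
  {U G₀ : Subgroup (Module.End F (Fin n → F))ˣ} {j : ℕ}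

/-- Containing the centralisers of all pairs gives the whole derived group. -/
theorem OrthAmb.omega_le (h : OrthAmb (QuadraticMap.polarBilin Q) R adj U G₀ j) (hj : 3 ≤ j)
    (hU : U = endImage (Cfsg.isometryGroup F ⇑Q)) (hG : G₀ = endImage (Cfsg.Geo.omegaGL ⇑Q))
    {x y : F} (hxy : x * x + y * y = -1) {M : Subgroup (Module.End F (Fin n → F))ˣ} (hMG : M ≤ G₀)
    (hN : ∀ g ∈ G₀, g ∈ Subgroup.normalizer (R : Set (Module.End F (Fin n → F))ˣ) → g ∈ M)
    (hcent : ∀ b₁ b₂, QPair R b₁ b₂ → CentIn U M b₁ b₂) : G₀ ≤ M := by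
  classical
  obtain ⟨b₁, b₂, hb⟩ := h.exists_qpair
  obtain ⟨c₁, c₂, hc, e11, e12, e21, e22⟩ := h.exists_inner hb
  obtain ⟨σ, k, D⟩ := h.exists_adapted hb hxy
  haveI : Module.Finite F (Fin n → F) := inferInstance
  obtain ⟨m, hm⟩ : ∃ m, finrank F D.fr.W = m := ⟨_, rfl⟩
  have hnm : n = 2 * m := by rw [← hm, ← D.fr.finrank_eq, finrank_fin_fun]
  have hm8 : 8 ≤ m := by
    have e := h.dim
    rw [finrank_fin_fun, hnm, pow_succ] at e
    have : 2 ^ 3 ≤ 2 ^ j := Nat.pow_le_pow_right (by norm_num) hj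
    omega
  obtain ⟨e⟩ : Nonempty ((Fin m → F) ≃ₗ[F] D.fr.W) :=
    ⟨LinearEquiv.ofFinrankEq _ _ (by rw [finrank_fin_fun, hm])⟩
  obtain ⟨L, hL⟩ : ∃ L : (Fin 2 × Fin m → F) ≃ₗ[F] (Fin n → F), ∀ X : Matrix (Fin 2) (Fin m) F,
      L (ev X) = (e (X 0) : Fin n → F) + k (e (X 1) : Fin n → F) :=
    ⟨((LinearEquiv.curry F F (Fin 2) (Fin m)).trans (LinearEquiv.piFinTwo F fun _ => Fin m → F)).trans
      ((e.prodCongr e).trans D.fr.prodEquiv.symm), fun X => rfl⟩
  let ℓ : Matrix (Fin 2) (Fin m) F → (Fin n → F) := fun X => L (ev X)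
  have hℓ : ∀ X, ℓ X = (e (X 0) : Fin n → F) + k (e (X 1) : Fin n → F) := hL
  have hℓsur : Function.Surjective ℓ := fun v => by
    obtain ⟨w, rfl⟩ := L.surjective v
    obtain ⟨X, rfl⟩ := ev_surjective w
    exact ⟨X, rfl⟩
  have hprℓ : ∀ X, D.fr.pr (ℓ X) = e (X 0) ∧ D.fr.pr' (ℓ X) = e (X 1) := fun X => by
    rw [hℓ, map_add, map_add, D.fr.pr_coe, D.fr.pr'_coe, D.fr.pr_k, D.fr.pr'_k, D.fr.pr'_coe, D.fr.pr_coe,
      neg_zero, add_zero, zero_add]
    exact ⟨rfl, rfl⟩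
  -- the forms
  obtain ⟨f₁, hf₁⟩ : ∃ f : (Fin 2 → F) → (Fin 2 → F) → F, ∀ u v, f u v = u 0 * v 1 - u 1 * v 0 :=
    ⟨_, fun _ _ => rfl⟩
  obtain ⟨f₂, hf₂⟩ : ∃ f : (Fin m → F) → (Fin m → F) → F, ∀ u v, f u v = D.fr.form (e u) (e v) :=
    ⟨_, fun _ _ => rfl⟩
  have g₁ : IsAlt f₁ :=
    ⟨⟨fun u u' v => by simp only [hf₁, Pi.add_apply]; ring,
      fun r u v => by simp only [hf₁, Pi.smul_apply, smul_eq_mul]; ring,
      fun u v => by simp only [hf₁, RingHom.id_apply]; ring,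
      fun v hv => by
        by_cases h0 : v 0 = 0
        · refine ⟨Pi.single 0 1, ?_⟩
          have h1 : v 1 ≠ 0 := fun h1 => hv (funext fun i => by
            fin_cases i
            · exact h0
            · exact h1)
          simpa [hf₁] using h1
        · exact ⟨Pi.single 1 1, by simpa [hf₁] using h0⟩,
      fun s => rfl, by simp⟩, fun v => by simp only [hf₁]; ring⟩
  have g₂ : IsAlt f₂ :=
    ⟨⟨fun u u' v => by simp only [hf₂, map_add, LinearMap.add_apply],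
      fun r u v => by simp only [hf₂, map_smul, LinearMap.smul_apply, smul_eq_mul],
      fun u v => by
        simp only [hf₂, RingHom.id_apply]
        rw [Sym78.skew_of_alt _ D.fr.form_alt (e v) (e u), neg_one_mul, neg_neg],
      fun v hv => by
        obtain ⟨w, hw⟩ := D.fr.form_nd (e v) fun e0 => hv (e.map_eq_zero_iff.mp e0)
        exact ⟨e.symm w, by simpa [hf₂] using hw⟩,
      fun s => rfl, by simp⟩, fun v => by rw [hf₂]; exact D.fr.form_alt _⟩
  obtain ⟨Q', hQ'⟩ : ∃ Q' : QuadraticForm F (Fin 2 × Fin m → F), ∀ v, Q' v = Q (L v) :=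
    ⟨Q.comp L.toLinearMap, fun _ => rfl⟩
  have hpol : ∀ X Y, QuadraticMap.polar ⇑Q' (ev X) (ev Y) = tB f₁ f₂ X Y := fun X Y => by
    have e0 : QuadraticMap.polar ⇑Q' (ev X) (ev Y) = QuadraticMap.polarBilin Q (ℓ X) (ℓ Y) := by
      simp only [QuadraticMap.polarBilin_apply_apply, QuadraticMap.polar, hQ', map_add, ℓ]
    rw [e0, D.fr.B_eq, (hprℓ X).1, (hprℓ X).2, (hprℓ Y).1, (hprℓ Y).2, tB, Fin.sum_univ_two]
    have hrow : ∀ i c, (X *ᵥ cov f₂ c) i = f₂ (X i) c := fun i c => g₂.form.dot_cov (X i) c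
    simp only [hf₁, hrow, Pi.single_eq_same, Pi.single_eq_of_ne (show (1 : Fin 2) ≠ 0 by decide),
      Pi.single_eq_of_ne (show (0 : Fin 2) ≠ 1 by decide), hf₂]
    ring
  have hnd : (QuadraticMap.polarBilin Q').Nondegenerate := by
    have hp : ∀ v w, QuadraticMap.polar ⇑Q' v w = QuadraticMap.polarBilin Q (L v) (L w) := fun v w => by
      simp only [QuadraticMap.polarBilin_apply_apply, QuadraticMap.polar, hQ', map_add]
    constructor
    · intro v hv
      by_contra h0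
      obtain ⟨w, hw⟩ := h.nd (L v) fun e0 => h0 (L.map_eq_zero_iff.mp e0)
      obtain ⟨w', rfl⟩ := L.surjective w
      exact hw ((hp v w').symm.trans (hv w'))
    · intro w hw
      by_contra h0
      obtain ⟨v, hv⟩ := h.nd (L w) fun e0 => h0 (L.map_eq_zero_iff.mp e0)
      obtain ⟨v', rfl⟩ := L.surjective v
      rw [h.sym] at hv
      exact hv ((hp v' w).symm.trans (hw v'))
  have O : OSetup f₁ f₂ Q' := ⟨g₁, g₂, fun u w => by
      have e0 := hpol (vecMulVec u w) (vecMulVec u w)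
      rw [tB_pure_pure g₁.form g₂.form, g₁.self, mul_zero, QuadraticMap.polar_self, two_nsmul, ← two_mul] at e0
      exact (mul_eq_zero.mp e0).resolve_left h.amb.frame.two,
    hpol, hnd, le_rfl, by omega, by omega⟩
  -- transport of the groups
  obtain ⟨Ψ, hΨ₀⟩ : ∃ Ψ : GL (Fin 2 × Fin m) F ≃* (Module.End F (Fin n → F))ˣ, ∀ g v,
      (Ψ g : Module.End F (Fin n → F)) v = L ((g : Matrix (Fin 2 × Fin m) (Fin 2 × Fin m) F) *ᵥ L.symm v) :=
    ⟨Matrix.GeneralLinearGroup.toLin.trans (LinearMap.GeneralLinearGroup.congrLinearEquiv L), fun _ _ => rfl⟩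
  have hΨ : ∀ g X, (Ψ g : Module.End F (Fin n → F)) (ℓ X) = ℓ (op g X) := fun g X => by
    simp only [ℓ]
    rw [hΨ₀, L.symm_apply_apply, ev_op]
  have hΩ : (Cfsg.Geo.omegaGL ⇑Q').map Ψ.toMonoidHom = G₀ := by
    have hmap := map_omegaGL (Q₁ := ⇑Q') (Q₂ := ⇑Q) (Ψ.trans Matrix.GeneralLinearGroup.toLin.symm) fun g => by
      have hv : ∀ v, Matrix.mulVec (((Ψ.trans Matrix.GeneralLinearGroup.toLin.symm) g : GL (Fin n) F) :
          Matrix (Fin n) (Fin n) F) (L v) = L ((g : Matrix (Fin 2 × Fin m) (Fin 2 × Fin m) F) *ᵥ v) := fun v => by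
        have e0 : Matrix.GeneralLinearGroup.toLin ((Ψ.trans Matrix.GeneralLinearGroup.toLin.symm) g) = Ψ g :=
          MulEquiv.apply_symm_apply _ _
        show (Matrix.GeneralLinearGroup.toLin ((Ψ.trans Matrix.GeneralLinearGroup.toLin.symm) g) :
          Module.End F (Fin n → F)) (L v) = _
        rw [e0, hΨ₀, L.symm_apply_apply]
      rw [Orth.mem_isometryGroup_iff, Orth.mem_isometryGroup_iff]
      refine ⟨fun hg v => ?_, fun hg v => ?_⟩
      · obtain ⟨w, rfl⟩ := L.surjective v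
        rw [hv, ← hQ', ← hQ']; exact hg w
      · rw [hQ', hQ', ← hv]; exact hg _
    rw [hG, endImage, ← hmap, Subgroup.map_map]
    congr 1
    exact MonoidHom.ext fun g => (MulEquiv.apply_symm_apply Matrix.GeneralLinearGroup.toLin (Ψ g)).symm
  -- the two kinds of action
  have hleft : ∀ A : Matrix (Fin 2) (Fin 2) F, ∀ t : Module.End F (Fin n → F), (∀ X, t (ℓ X) = ℓ (A * X)) →
      ∀ (S : Matrix (Fin m) (Fin m) F) (s : Module.End F (Fin n → F)), (∀ X, s (ℓ X) = ℓ (X * S)) →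
        t * s = s * t := fun A t ht S s hs => LinearMap.ext fun v => by
    obtain ⟨X, rfl⟩ := hℓsur v
    rw [Module.End.mul_apply, Module.End.mul_apply, hs, ht, ht, hs, Matrix.mul_assoc]
  have hσ : ∀ X, σ (ℓ X) = ℓ ((!![1, 0; 0, -1] : Matrix (Fin 2) (Fin 2) F) * X) := fun X => by
    have r0 : ((!![1, 0; 0, -1] : Matrix (Fin 2) (Fin 2) F) * X) 0 = X 0 := funext fun i => by simp [Matrix.mul_apply, Fin.sum_univ_two]
    have r1 : ((!![1, 0; 0, -1] : Matrix (Fin 2) (Fin 2) F) * X) 1 = -X 1 := funext fun i => by simp [Matrix.mul_apply, Fin.sum_univ_two]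
    rw [hℓ, hℓ, r0, r1, map_add, D.fr.sk, D.fr.fix, D.fr.fix, map_neg, Submodule.coe_neg, map_neg]
  have hk : ∀ X, k (ℓ X) = ℓ ((!![0, -1; 1, 0] : Matrix (Fin 2) (Fin 2) F) * X) := fun X => by
    have r0 : ((!![0, -1; 1, 0] : Matrix (Fin 2) (Fin 2) F) * X) 0 = -X 1 := funext fun i => by simp [Matrix.mul_apply, Fin.sum_univ_two]
    have r1 : ((!![0, -1; 1, 0] : Matrix (Fin 2) (Fin 2) F) * X) 1 = X 0 := funext fun i => by simp [Matrix.mul_apply, Fin.sum_univ_two]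
    rw [hℓ, hℓ, r0, r1, map_add, D.fr.kk, map_neg, Submodule.coe_neg]
    abel
  have hext : ∀ c : Module.End F D.fr.W, ∃ S : Matrix (Fin m) (Fin m) F, ∀ X, D.fr.ext c (ℓ X) = ℓ (X * S) := by
    intro c
    let S := LinearMap.toMatrix' (e.symm.toLinearMap ∘ₗ c ∘ₗ e.toLinearMap)
    have hrow : ∀ (X : Matrix (Fin 2) (Fin m) F) i, e ((X * Sᵀ) i) = c (e (X i)) := fun X i => by
      have e0 : (X * Sᵀ) i = S *ᵥ X i := by
        funext p
        simp [Matrix.mul_apply, mulVec, dotProduct, mul_comm]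
      rw [e0]
      show e (Matrix.toLin' (LinearMap.toMatrix' _) (X i)) = _
      rw [Matrix.toLin'_toMatrix']
      show e (e.symm (c (e (X i)))) = _
      rw [e.apply_symm_apply]
    refine ⟨Sᵀ, fun X => ?_⟩
    rw [D.fr.ext_apply, (hprℓ X).1, (hprℓ X).2, hℓ, hrow, hrow]
  -- what acts on the right commutes with the pair
  have hright : ∀ g : (Module.End F (Fin n → F))ˣ, ∀ S : Matrix (Fin m) (Fin m) F,
      (∀ X, (g : Module.End F (Fin n → F)) (ℓ X) = ℓ (X * S)) → g * b₁ = b₁ * g ∧ g * b₂ = b₂ * g := by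
    intro g S hg
    obtain ⟨a1, a2⟩ := (D.comm (g : Module.End F (Fin n → F))).mp
      ⟨(hleft _ _ hσ S _ hg).symm, (hleft _ _ hk S _ hg).symm⟩
    exact ⟨Units.ext a1, Units.ext a2⟩
  -- the transvections of both factors
  set M' := M.comap Ψ.toMonoidHom with hM'
  have hΨU : ∀ g ∈ Cfsg.Geo.omegaGL ⇑Q', Ψ g ∈ U := fun g hg => h.amb.le_U (hΩ ▸ ⟨g, hg, rfl⟩)
  have htrans : factorTrans f₁ f₂ Q' ≤ M' := by
    refine (Subgroup.closure_le _).mpr fun g hg => ?_
    obtain ⟨⟨-, hgΩ⟩, hshape⟩ := hg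
    show Ψ g ∈ M
    rcases hshape with ⟨c, l, hX⟩ | ⟨z, l, hX⟩
    · obtain ⟨a1, a2⟩ := hright (Ψ g) (1 + l • vecMulVec (cov f₂ c) c) fun X => by
        rw [hΨ, hX, Matrix.mul_add, Matrix.mul_one, Matrix.mul_smul, mul_vecMulVec]
      exact hcent b₁ b₂ hb _ (hΨU g hgΩ) a1 a2
    · have hA : ∀ X, (Ψ g : Module.End F (Fin n → F)) (ℓ X) = ℓ ((1 + l • vecMulVec z (cov f₁ z)) * X) :=
        fun X => by rw [hΨ, hX, Matrix.add_mul, Matrix.one_mul, Matrix.smul_mul, vecMulVec_mul]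
      have hcomm : ∀ c : (Module.End F (Fin n → F))ˣ, c * b₁ = b₁ * c → c * b₂ = b₂ * c → Ψ g * c = c * Ψ g := by
        intro c ec1 ec2
        obtain ⟨d, hd⟩ := h.exists_pre hb D ec1 ec2
        obtain ⟨S, hS⟩ := hext (d : Module.End F D.fr.W)
        refine Units.ext ?_
        rw [Units.val_mul, Units.val_mul]
        exact hleft _ _ hA S _ fun X => by rw [← hd, QFrame.Φ_val]; exact hS X
      exact hcent c₁ c₂ hc _ (hΨU g hgΩ) (hcomm c₁ e11 e12) (hcomm c₂ e21 e22)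
  -- an element moving the pair
  have hnot : ¬ M' ≤ Cfsg.Geo.kroneckerSubgroup 2 m F := by
    intro hle
    obtain ⟨u, huG, huN, hu1, -⟩ :=
      h.amb.exists_conj_pair hb.m₁ hb.m₂ hc.m₁ hc.m₂ hb.s₁ hb.s₂ hc.s₁ hc.s₂ hb.ac hc.ac
    obtain ⟨g, rfl⟩ := Ψ.surjective u
    obtain ⟨A, C, hAC⟩ := hle (show g ∈ M' from hN _ huG huN)
    obtain ⟨d, hd⟩ := h.exists_pre hb D e21 e22
    obtain ⟨S, hS⟩ := hext (d : Module.End F D.fr.W)
    have hd' : ∀ X, (c₂ : Module.End F (Fin n → F)) (ℓ X) = ℓ (X * S) := fun X => by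
      rw [← hd, QFrame.Φ_val]; exact hS X
    have hCC : ((C⁻¹ : GL (Fin m) F) : Matrix (Fin m) (Fin m) F)ᵀ * (C : Matrix (Fin m) (Fin m) F)ᵀ = 1 := by
      rw [← transpose_mul, ← Units.val_mul, mul_inv_cancel, Units.val_one, transpose_one]
    obtain ⟨a1, -⟩ := hright ((Ψ g)⁻¹ * c₂ * Ψ g)
      ((C : Matrix (Fin m) (Fin m) F)ᵀ * S * ((C⁻¹ : GL (Fin m) F) : Matrix (Fin m) (Fin m) F)ᵀ) fun X => by
        have e0 : ((Ψ g)⁻¹ : (Module.End F (Fin n → F))ˣ) = Ψ g⁻¹ := (map_inv Ψ g).symm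
        rw [Units.val_mul, Units.val_mul, Module.End.mul_apply, Module.End.mul_apply, hΨ, hd', e0, hΨ]
        refine congrArg ℓ (op_injective g ?_)
        rw [op_op_inv, op_kron hAC, op_kron hAC]
        simp only [Matrix.mul_assoc, hCC, Matrix.mul_one]
    have key : c₂ * (Ψ g * b₁ * (Ψ g)⁻¹) = Ψ g * b₁ * (Ψ g)⁻¹ * c₂ := by
      calc c₂ * (Ψ g * b₁ * (Ψ g)⁻¹) = Ψ g * ((Ψ g)⁻¹ * c₂ * Ψ g * b₁) * (Ψ g)⁻¹ := by group
        _ = Ψ g * b₁ * (Ψ g)⁻¹ * c₂ := by rw [a1]; group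
    have hmem := (Subgroup.mem_normalizer_iff.mp huN b₁).mp hb.m₁
    rcases (h.amb.frame.cls_eq_iff hmem hc.m₁).mp hu1 with e0 | e0 <;> rw [e0] at key
    · exact zero_ne_one ((anti_eq_zero.mpr key.symm).symm.trans hc.ac)
    · have key' : c₁ * c₂ = c₂ * c₁ := Units.ext (by
        have e1 := congrArg Units.val key
        simp only [Units.val_mul, Units.val_neg] at e1 ⊢
        rw [mul_neg, neg_mul, neg_inj] at e1
        exact e1.symm)
      exact zero_ne_one ((anti_eq_zero.mpr key').symm.trans hc.ac)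
  have hM'Ω : M' ≤ Cfsg.Geo.omegaGL ⇑Q' := fun g hg => by
    obtain ⟨g', hg', e0⟩ := (hΩ.symm ▸ hMG hg : Ψ g ∈ (Cfsg.Geo.omegaGL ⇑Q').map Ψ.toMonoidHom)
    exact Ψ.injective e0 ▸ hg'
  have hall := omega_le_of_trans O (fun _ h20 => absurd h20 h.amb.frame.two) hM'Ω htrans hnot
  rw [← hΩ]
  exact Subgroup.map_le_iff_le_comap.mpr hall

end Cfsg.Agent.Lib.SympCent35
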