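import Mathlib

/-!
Quadratic spaces over the field with two elements: anisotropic vectors with prescribed products, and the
isometries commuting with products of two transvections.
-/

set_option autoImplicit false
set_option linter.unusedSectionVars false

namespace Cfsg.Agent.Lib.SympCent35

open Module

variable {V : Type*} [AddCommGroup V] [Module (ZMod 2) V] [FiniteDimensional (ZMod 2) V]

theorem two_cases (a : ZMod 2) : a = 0 ∨ a = 1 := by
  revert a; decide

/-- The hypotheses: a non-degenerate quadratic form. -/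
structure QSpace (q : QuadraticForm (ZMod 2) V) : Prop where
  nd : ∀ x, (∀ y, QuadraticMap.polar q x y = 0) → x = 0

namespace QSpace

variable {q : QuadraticForm (ZMod 2) V} (hQ : QSpace q)

local notation "B" => QuadraticMap.polarBilin q

omit [FiniteDimensional (ZMod 2) V] in
theorem bil (x y : V) : B x y = QuadraticMap.polar q x y := rfl

omit [FiniteDimensional (ZMod 2) V] in
theorem bil_comm (x y : V) : B x y = B y x := QuadraticMap.polar_comm _ x y

omit [FiniteDimensional (ZMod 2) V] in
theorem bil_self (x : V) : B x x = 0 := by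
  rw [bil, QuadraticMap.polar_self]
  exact ZModModule.add_self _ |> fun h => by rw [two_nsmul]; exact h

omit [FiniteDimensional (ZMod 2) V] in
theorem map_add' (x y : V) : q (x + y) = q x + q y + B x y := by
  rw [bil]; exact QuadraticMap.map_add _ x y

include hQ

omit [FiniteDimensional (ZMod 2) V] in
theorem nondeg : (B).Nondegenerate :=
  ⟨fun x h => hQ.nd x h, fun x h => hQ.nd x fun y => by
    rw [QuadraticMap.polar_comm]; exact h y⟩

/-- Every functional on a subspace is the product with a vector. -/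
theorem exists_rep (S : Submodule (ZMod 2) V) (φ : S →ₗ[ZMod 2] ZMod 2) :
    ∃ u, ∀ x : S, B u x = φ x := by
  obtain ⟨ψ, hψ⟩ := LinearMap.exists_extend φ
  exact ⟨(LinearMap.BilinForm.toDual B hQ.nondeg).symm ψ, fun x => by
    rw [LinearMap.BilinForm.apply_toDual_symm_apply, ← hψ]; rfl⟩

/-- A vector with given product outside a subspace. -/
theorem exists_sep {S : Submodule (ZMod 2) V} {u : V} (hu : u ∉ S) :
    ∃ v, (∀ x ∈ S, B v x = 0) ∧ B v u = 1 := by
  obtain ⟨f, hfu, hf⟩ := Submodule.exists_dual_map_eq_bot_of_notMem hu inferInstance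
  refine ⟨(LinearMap.BilinForm.toDual B hQ.nondeg).symm f, fun x hx => ?_, ?_⟩
  · rw [LinearMap.BilinForm.apply_toDual_symm_apply]
    have : f x ∈ S.map f := Submodule.mem_map_of_mem hx
    rw [hf] at this
    exact this
  · rw [LinearMap.BilinForm.apply_toDual_symm_apply]
    exact (two_cases (f u)).resolve_left hfu

theorem finrank_orth (S : Submodule (ZMod 2) V) :
    finrank (ZMod 2) (LinearMap.BilinForm.orthogonal B S) = finrank (ZMod 2) V - finrank (ZMod 2) S :=
  LinearMap.BilinForm.finrank_orthogonal hQ.nondeg S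

theorem orth_orth (S : Submodule (ZMod 2) V) : LinearMap.BilinForm.orthogonal B (LinearMap.BilinForm.orthogonal B S) = S :=
  LinearMap.BilinForm.orthogonal_orthogonal hQ.nondeg (fun x y h => by rw [bil_comm]; exact h) S

/-- An anisotropic vector with the same products as `v₀` on `S`. -/
theorem exists_ns {S : Submodule (ZMod 2) V} (v₀ : V)
    (h : 2 * finrank (ZMod 2) S < finrank (ZMod 2) V ∨
      2 * finrank (ZMod 2) S ≤ finrank (ZMod 2) V ∧ ∃ u ∈ S, q u + B v₀ u = 1) :
    ∃ v, q v = 1 ∧ ∀ x ∈ S, B v x = B v₀ x := by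
  by_contra hne
  push Not at hne
  set D := LinearMap.BilinForm.orthogonal B S with hD
  have hmem : ∀ d ∈ D, ∀ x ∈ S, B x d = 0 := fun d hd x hx =>
    LinearMap.BilinForm.mem_orthogonal_iff.mp hd x hx
  have hz : ∀ d ∈ D, q (v₀ + d) = 0 := by
    intro d hd
    rcases two_cases (q (v₀ + d)) with h0 | h1
    · exact h0
    · obtain ⟨x, hx, hxne⟩ := hne _ h1
      exact absurd (by rw [map_add, LinearMap.add_apply, bil_comm d x, hmem d hd x hx, add_zero]) hxne
  have hv₀ : q v₀ = 0 := by simpa using hz 0 D.zero_mem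
  have hlin : ∀ d ∈ D, q d + B v₀ d = 0 := fun d hd => by
    have := hz d hd; rw [map_add', hv₀, zero_add] at this; exact this
  have hiso : D ≤ LinearMap.BilinForm.orthogonal B D := by
    intro d hd e he
    have h1 := hlin _ (D.add_mem he hd)
    rw [map_add', map_add] at h1
    have h2 := hlin e he
    have h3 := hlin d hd
    linear_combination h1 - h2 - h3
  rw [hD, hQ.orth_orth S] at hiso
  have hle := Submodule.finrank_mono hiso
  have hrk := hQ.finrank_orth S
  have hSV := Submodule.finrank_le S
  rcases h with h | ⟨h, u, hu, hqu⟩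
  · omega
  · have heq : LinearMap.BilinForm.orthogonal B S = S := Submodule.eq_of_le_of_finrank_eq hiso (by omega)
    exact zero_ne_one ((hlin u (show u ∈ D by rw [hD, heq]; exact hu)).symm.trans hqu)

/-- The transvection of a vector. -/
def tr (q : QuadraticForm (ZMod 2) V) (v x : V) : V := x + QuadraticMap.polarBilin q x v • v

/-- The product of two transvections. -/
def tt (q : QuadraticForm (ZMod 2) V) (u v x : V) : V := tr q u (tr q v x)

omit hQ

omit [FiniteDimensional (ZMod 2) V] in
theorem tr_of_zero {v x : V} (h : B x v = 0) : tr q v x = x := by simp [tr, h]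

omit [FiniteDimensional (ZMod 2) V] in
theorem tr_of_one {v x : V} (h : B x v = 1) : tr q v x = x + v := by simp [tr, h]

include hQ

theorem finrank_span_three (a b c : V) :
    finrank (ZMod 2) (Submodule.span (ZMod 2) ({a, b, c} : Set V)) ≤ 3 := by
  classical
  have h := finrank_span_finset_le_card (R := ZMod 2) ({a, b, c} : Finset V)
  have e : (({a, b, c} : Finset V) : Set V) = {a, b, c} := by simp
  rw [e] at h
  exact h.trans Finset.card_le_three

/-- An anisotropic vector in the orthogonal of a non-degenerate four-space, in dimension at least six. -/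
theorem exists_ns_perp (hd : 6 ≤ finrank (ZMod 2) V) {a b c d : V}
    (hac : B a c = 1) (hbd : B b d = 1) (hab : B a b = 0) (had : B a d = 0)
    (hbc : B b c = 0) (hcd : B c d = 0) :
    ∃ z, q z = 1 ∧ B z a = 0 ∧ B z b = 0 ∧ B z c = 0 ∧ B z d = 0 := by
  classical
  let π : V → V := fun x => x + B x c • a + B x a • c + B x d • b + B x b • d
  have hπ : ∀ x, B (π x) a = 0 ∧ B (π x) b = 0 ∧ B (π x) c = 0 ∧ B (π x) d = 0 := by
    intro x
    simp only [π, map_add, map_smul, LinearMap.add_apply, LinearMap.smul_apply, bil_self, smul_eq_mul,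
      bil_comm b a, bil_comm c a, bil_comm d a, bil_comm c b, bil_comm d b, bil_comm d c, hac, hbd, hab, had, hbc, hcd]
    refine ⟨?_, ?_, ?_, ?_⟩ <;> · ring_nf; simp [CharTwo.two_eq_zero]
  obtain ⟨S, hS⟩ : ∃ S, S = Submodule.span (ZMod 2) ({a, b, c, d} : Set V) := ⟨_, rfl⟩
  have hS4 : finrank (ZMod 2) S ≤ 4 := by
    have h := finrank_span_finset_le_card (R := ZMod 2) ({a, b, c, d} : Finset V)
    have e : (({a, b, c, d} : Finset V) : Set V) = {a, b, c, d} := by simp
    rw [e] at h
    rw [hS]
    exact h.trans Finset.card_le_four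
  have hS' : S < ⊤ := Submodule.lt_top_of_finrank_lt_finrank (by omega)
  obtain ⟨x, -, hx⟩ := SetLike.exists_of_lt hS'
  have hπx : π x ≠ 0 := by
    intro h
    apply hx
    have hx' : x = π x - B x c • a - B x a • c - B x d • b - B x b • d := by simp only [π]; abel
    have m : ∀ t ∈ ({a, b, c, d} : Set V), t ∈ S := fun t ht => hS ▸ Submodule.subset_span ht
    rw [hx', h]
    exact S.sub_mem (S.sub_mem (S.sub_mem (S.sub_mem S.zero_mem (S.smul_mem _ (m a (by simp))))
      (S.smul_mem _ (m c (by simp)))) (S.smul_mem _ (m b (by simp)))) (S.smul_mem _ (m d (by simp)))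
  by_contra hne
  have hz : ∀ y, q (π y) = 0 := fun y => (two_cases _).resolve_right fun h =>
    hne ⟨π y, h, (hπ y).1, (hπ y).2.1, (hπ y).2.2.1, (hπ y).2.2.2⟩
  refine hπx (hQ.nd _ fun y => ?_)
  have hadd : π (x + y) = π x + π y := by
    simp only [π, map_add, LinearMap.add_apply, add_smul]; abel
  have h := map_add' (q := q) (π x) (π y)
  rw [← hadd, hz, hz, hz, zero_add, zero_add] at h
  obtain ⟨h1, h2, h3, h4⟩ := hπ x
  rw [← bil]
  calc B (π x) y = B (π x) (π y) := by
        simp only [π] at h1 h2 h3 h4 ⊢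
        simp only [map_add, map_smul, smul_eq_mul] at h1 h2 h3 h4 ⊢
        simp only [LinearMap.add_apply, LinearMap.smul_apply, smul_eq_mul] at h1 h2 h3 h4 ⊢
        rw [h1, h2, h3, h4]; ring
    _ = 0 := h.symm

/-- An isometry which commutes with the products of two transvections that fix a common anisotropic vector
together with their images fixes an anisotropic vector. -/
theorem exists_fixed (hd : 6 ≤ finrank (ZMod 2) V) (τ : V ≃ₗ[ZMod 2] V) (hτ : ∀ x, q (τ x) = q x)
    (hne : ∃ u, q u = 1)
    (hcomm : ∀ u v, q u = 1 → q v = 1 →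
      (∃ z, q z = 1 ∧ B z u = 0 ∧ B z v = 0 ∧ B z (τ u) = 0 ∧ B z (τ v) = 0) →
      ∀ x, tt q (τ u) (τ v) x = tt q u v x) :
    ∃ u, q u = 1 ∧ τ u = u := by
  by_contra hfree
  push Not at hfree
  have hB : ∀ x y, B (τ x) (τ y) = B x y := fun x y => by
    simp only [bil, QuadraticMap.polar, ← map_add, hτ]
  -- anisotropic vectors are orthogonal to their images
  have hA : ∀ u, q u = 1 → B u (τ u) = 0 := by
    intro u hu
    refine (two_cases _).resolve_right fun h1 => ?_
    let S := Submodule.span (ZMod 2) ({u, τ u, τ.symm u} : Set V)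
    have hS : finrank (ZMod 2) S ≤ 3 := hQ.finrank_span_three _ _ _
    obtain ⟨v, hv, hvS⟩ := hQ.exists_ns (S := S) 0
      (Or.inr ⟨by omega, u, Submodule.subset_span (by simp), by simp [hu]⟩)
    have hv' : ∀ x ∈ ({u, τ u, τ.symm u} : Set V), B v x = 0 := fun x hx => by
      rw [hvS x (Submodule.subset_span hx)]; simp
    have hvu : B v u = 0 := hv' u (by simp)
    have hvtu : B v (τ u) = 0 := hv' (τ u) (by simp)
    have htvu : B (τ v) u = 0 := by
      conv_lhs => rw [← τ.apply_symm_apply u]
      rw [hB]; exact hv' _ (by simp)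
    have htvtu : B (τ v) (τ u) = 0 := by rw [hB]; exact hvu
    obtain ⟨z, hz⟩ : ∃ z, q z = 1 ∧ B z u = 0 ∧ B z v = 0 ∧ B z (τ u) = 0 ∧ B z (τ v) = 0 := by
      rcases two_cases (B v (τ v)) with h | h
      · exact ⟨v, hv, hvu, bil_self v, hvtu, h⟩
      · obtain ⟨z, hz, h1, h2, h3, h4⟩ := hQ.exists_ns_perp hd (a := u) (b := v) (c := τ u) (d := τ v)
          h1 h (by rw [bil_comm]; exact hvu) (by rw [bil_comm]; exact htvu) hvtu
          (by rw [bil_comm]; exact htvtu)
        exact ⟨z, hz, h1, h2, h3, h4⟩
    have h := hcomm u v hu hv ⟨z, hz⟩ u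
    have huv : B u v = 0 := by rw [bil_comm]; exact hvu
    have hutv : B u (τ v) = 0 := by rw [bil_comm]; exact htvu
    simp only [tt, tr_of_zero huv, tr_of_zero hutv, tr_of_one h1, tr_of_zero (bil_self u)] at h
    have h0 : τ u = 0 := add_eq_left.mp h
    have := hτ u
    rw [h0, map_zero, hu] at this
    exact zero_ne_one this
  obtain ⟨u, hu⟩ := hne
  have hu1 : B u (τ u) = 0 := hA u hu
  have husym : B (τ.symm u) u = 0 := by
    rw [← hB, τ.apply_symm_apply]; exact hu1
  let T := Submodule.span (ZMod 2) ({τ u, τ.symm u} : Set V)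
  have huT : u ∉ T := by
    intro h
    obtain ⟨a, b, hab⟩ := Submodule.mem_span_pair.mp h
    have hqs : q (τ.symm u) = 1 := by rw [← hτ (τ.symm u), τ.apply_symm_apply, hu]
    rcases two_cases a with rfl | rfl <;> rcases two_cases b with rfl | rfl <;>
      simp only [zero_smul, one_smul, zero_add, add_zero] at hab
    · rw [← hab, map_zero] at hu; exact zero_ne_one hu
    · exact hfree u hu (by conv_lhs => rw [← hab]
                           exact τ.apply_symm_apply u)
    · exact hfree u hu hab
    · have h1 := map_add' (q := q) (τ u) (τ.symm u)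
      rw [hab, hτ, hu, hqs] at h1
      have h2 : B u (τ u) = B (τ u + τ.symm u) (τ u) := by rw [hab]
      rw [map_add, LinearMap.add_apply] at h2
      rw [hu1, bil_self, zero_add, bil_comm] at h2
      rw [← h2] at h1
      revert h1; decide
  obtain ⟨v₀, hv₀, hv₀u⟩ := hQ.exists_sep huT
  let S := Submodule.span (ZMod 2) ({u, τ u, τ.symm u} : Set V)
  have hS : finrank (ZMod 2) S ≤ 3 := hQ.finrank_span_three _ _ _
  obtain ⟨v, hv, hvS⟩ := hQ.exists_ns (S := S) v₀ (Or.inr ⟨by omega, τ u, Submodule.subset_span (by simp), by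
    rw [hτ, hu, hv₀ _ (Submodule.subset_span (by simp)), add_zero]⟩)
  have hvu : B v u = 1 := by rw [hvS _ (Submodule.subset_span (by simp)), hv₀u]
  have hvtu : B v (τ u) = 0 := by
    rw [hvS _ (Submodule.subset_span (by simp)), hv₀ _ (Submodule.subset_span (by simp))]
  have htvu : B (τ v) u = 0 := by
    conv_lhs => rw [← τ.apply_symm_apply u]
    rw [hB, hvS _ (Submodule.subset_span (by simp)), hv₀ _ (Submodule.subset_span (by simp))]
  have htvtu : B (τ v) (τ u) = 1 := by rw [hB]; exact hvu
  have hvtv : B v (τ v) = 0 := hA v hv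
  obtain ⟨z, hz, h1, h2, h3, h4⟩ := hQ.exists_ns_perp hd (a := u) (b := τ u) (c := v) (d := τ v)
    (by rw [bil_comm]; exact hvu) (by rw [bil_comm]; exact htvtu) hu1 (by rw [bil_comm]; exact htvu)
    (by rw [bil_comm]; exact hvtu) hvtv
  have h := hcomm u v hu hv ⟨z, hz, h1, h3, h2, h4⟩ v
  simp only [tt, tr_of_zero hvtv, tr_of_zero hvtu, tr_of_zero (bil_self v), tr_of_one hvu] at h
  rw [left_eq_add.mp h, map_zero] at hu
  exact zero_ne_one hu

/-- An isometry commuting with all products of two transvections is trivial. -/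
theorem eq_id (hd : 6 ≤ finrank (ZMod 2) V) (τ : V ≃ₗ[ZMod 2] V) (hτ : ∀ x, q (τ x) = q x)
    (hcomm : ∀ u v, q u = 1 → q v = 1 → ∀ x, tt q (τ u) (τ v) x = tt q u v x) (x : V) : τ x = x := by
  have hbot : finrank (ZMod 2) (⊥ : Submodule (ZMod 2) V) = 0 := finrank_bot _ _
  obtain ⟨u₀, hu₀, -⟩ := hQ.exists_ns (S := ⊥) 0 (Or.inl (by omega))
  obtain ⟨u, hu, hfix⟩ := hQ.exists_fixed hd τ hτ ⟨u₀, hu₀⟩ fun a b ha hb _ => hcomm a b ha hb
  have hns : ∀ v, q v = 1 → τ v = v := by
    intro v hv
    by_contra hne
    have hd' : v ∉ Submodule.span (ZMod 2) ({τ v} : Set V) := by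
      intro h
      obtain ⟨a, ha⟩ := Submodule.mem_span_singleton.mp h
      rcases two_cases a with rfl | rfl
      · rw [zero_smul] at ha; rw [← ha, map_zero] at hv; exact zero_ne_one hv
      · rw [one_smul] at ha; exact hne ha
    obtain ⟨y, hy, hyv⟩ := hQ.exists_sep hd'
    have h := hcomm u v hu hv y
    rw [hfix] at h
    simp only [tt, tr_of_zero (hy _ (Submodule.mem_span_singleton_self _)), tr_of_one hyv] at h
    have h' := congrArg (tr q u) h
    have hinv : ∀ z, tr q u (tr q u z) = z := fun z => by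
      simp only [tr, map_add, map_smul, LinearMap.add_apply, LinearMap.smul_apply, bil_self, smul_zero, add_zero]
      rw [add_assoc, ← add_smul, CharTwo.add_self_eq_zero, zero_smul, add_zero]
    rw [hinv, hinv] at h'
    rw [left_eq_add.mp h', map_zero] at hv
    exact zero_ne_one hv
  by_contra hne
  have hS : (⊤ : Submodule (ZMod 2) V) ≤ LinearMap.eqLocus (τ : V →ₗ[ZMod 2] V) LinearMap.id := by
    intro y _
    rcases two_cases (q y) with h0 | h1
    · obtain ⟨v, hv, hvy⟩ := hQ.exists_ns (S := Submodule.span (ZMod 2) ({y} : Set V)) 0 (Or.inl (by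
        have := finrank_span_le_card (R := ZMod 2) ({y} : Set V)
        simp at this; omega))
      have hy' : q (y + v) = 1 := by
        rw [map_add', h0, hv, bil_comm, hvy y (Submodule.mem_span_singleton_self y)]; simp
      show τ y = y
      have := hns _ hy'
      rw [map_add, hns v hv] at this
      exact add_right_cancel this
    · exact hns y h1
  exact hne (hS Submodule.mem_top)

end QSpace

end Cfsg.Agent.Lib.SympCent35
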