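import Mathlib
import Cfsg.Agent.Lib.SympCent35.Space

/-!
A two-group of symplectic type with centre of order two, spanning an algebra: the quadratic space of its
quotient by the centre, and the elements commuting with parts of it.
-/

set_option autoImplicit false
set_option linter.unusedSectionVars false
set_option linter.style.haveILetI false

namespace Cfsg.Agent.Lib.SympCent35

open Module

/-- An extraspecial two-group of units spanning the algebra. -/
structure Frame (F : Type*) [Field F] {𝔸 : Type*} [Ring 𝔸] [Algebra F 𝔸] (R : Subgroup 𝔸ˣ) : Prop where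
  fin : Finite R
  two : (2 : F) ≠ 0
  neg_one : (-1 : 𝔸ˣ) ∈ R
  sq : ∀ x ∈ R, x * x = 1 ∨ x * x = -1
  sep : ∀ x ∈ R, x ≠ 1 → x ≠ -1 → ∃ y ∈ R, x * y ≠ y * x
  span : Submodule.span F ((fun x : 𝔸ˣ => (x : 𝔸)) '' (R : Set 𝔸ˣ)) = ⊤

variable {F : Type*} [Field F] {𝔸 : Type*} [Ring 𝔸] [Algebra F 𝔸] [Nontrivial 𝔸]

/-- The sign of an element of the field with two elements. -/
def sgn (c : ZMod 2) : 𝔸ˣ := if c = 0 then 1 else -1

theorem sgn_zero : (sgn 0 : 𝔸ˣ) = 1 := if_pos rfl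

theorem sgn_one : (sgn 1 : 𝔸ˣ) = -1 := if_neg one_ne_zero

theorem sgn_add (a b : ZMod 2) : (sgn (a + b) : 𝔸ˣ) = sgn a * sgn b := by
  rcases two_cases a with rfl | rfl <;> rcases two_cases b with rfl | rfl <;>
    simp [sgn_zero, sgn_one, CharTwo.add_self_eq_zero]

theorem sgn_comm (c : ZMod 2) (x : 𝔸ˣ) : sgn c * x = x * sgn c := by
  rcases two_cases c with rfl | rfl <;> simp [sgn_zero, sgn_one]

open Classical in
/-- Zero for commuting units, one otherwise. -/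
noncomputable def anti (x y : 𝔸ˣ) : ZMod 2 := if x * y = y * x then 0 else 1

open Classical in
/-- Zero for involutions, one otherwise. -/
noncomputable def sqc (x : 𝔸ˣ) : ZMod 2 := if x * x = 1 then 0 else 1

theorem anti_eq_zero {x y : 𝔸ˣ} : anti x y = 0 ↔ x * y = y * x := by
  unfold anti; split_ifs with h <;> simp [h]

theorem anti_comm (x y : 𝔸ˣ) : anti x y = anti y x := by
  rcases two_cases (anti x y) with h | h
  · rw [h, eq_comm, anti_eq_zero, eq_comm, ← anti_eq_zero, h]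
  · rw [h, eq_comm]
    refine (two_cases _).resolve_left fun h0 => ?_
    rw [anti_eq_zero, eq_comm, ← anti_eq_zero, h] at h0
    exact one_ne_zero h0

namespace Frame

variable {R : Subgroup 𝔸ˣ} (hF : Frame F R)
include hF

theorem ne_neg (x : 𝔸ˣ) : x ≠ -x := by
  intro h
  have h' : (x : 𝔸) = -(x : 𝔸) := by conv_lhs => rw [h, Units.val_neg]
  have h2 : (2 : F) • (1 : 𝔸) = 0 := by
    have := congrArg (fun t : 𝔸 => t * ((x⁻¹ : 𝔸ˣ) : 𝔸)) h'
    simp only [neg_mul, Units.mul_inv] at this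
    rw [two_smul]
    nth_rewrite 1 [this]
    exact neg_add_cancel _
  exact hF.two ((smul_eq_zero.mp h2).resolve_right one_ne_zero)

theorem sgn_inj {a b : ZMod 2} (h : (sgn a : 𝔸ˣ) = sgn b) : a = b := by
  rcases two_cases a with rfl | rfl <;> rcases two_cases b with rfl | rfl
  · rfl
  · rw [sgn_zero, sgn_one] at h; exact absurd h (hF.ne_neg 1)
  · rw [sgn_zero, sgn_one] at h; exact absurd h.symm (hF.ne_neg 1)
  · rfl

theorem sgn_mem (c : ZMod 2) : (sgn c : 𝔸ˣ) ∈ R := by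
  rcases two_cases c with rfl | rfl
  · rw [sgn_zero]; exact R.one_mem
  · rw [sgn_one]; exact hF.neg_one

theorem neg_mem' {x : 𝔸ˣ} (hx : x ∈ R) : -x ∈ R := by
  rw [← neg_one_mul]; exact R.mul_mem hF.neg_one hx

theorem sq_eq {x : 𝔸ˣ} (hx : x ∈ R) : x * x = sgn (sqc x) := by
  unfold sqc; split_ifs with h
  · rw [h, sgn_zero]
  · rw [sgn_one]; exact (hF.sq x hx).resolve_left h

theorem sqc_eq {x : 𝔸ˣ} (hx : x ∈ R) {c : ZMod 2} (h : x * x = sgn c) : sqc x = c :=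
  hF.sgn_inj ((hF.sq_eq hx).symm.trans h)

theorem sqc_zero {x : 𝔸ˣ} (hx : x ∈ R) : sqc x = 0 ↔ x * x = 1 :=
  ⟨fun h => by rw [hF.sq_eq hx, h, sgn_zero], fun h => hF.sqc_eq hx (by rw [h, sgn_zero])⟩

theorem sqc_one {x : 𝔸ˣ} (hx : x ∈ R) : sqc x = 1 ↔ x * x = -1 :=
  ⟨fun h => by rw [hF.sq_eq hx, h, sgn_one], fun h => hF.sqc_eq hx (by rw [h, sgn_one])⟩

theorem inv_eq {x : 𝔸ˣ} (hx : x ∈ R) : x⁻¹ = sgn (sqc x) * x := by
  apply inv_eq_of_mul_eq_one_right
  rw [sgn_comm, ← mul_assoc, hF.sq_eq hx, ← sgn_add, CharTwo.add_self_eq_zero, sgn_zero]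

/-- Two elements commute or anticommute. -/
theorem comm_eq {x y : 𝔸ˣ} (hx : x ∈ R) (hy : y ∈ R) : x * y = sgn (anti x y) * (y * x) := by
  rcases two_cases (anti x y) with h | h
  · rw [h, sgn_zero, one_mul]; exact anti_eq_zero.mp h
  · rw [h, sgn_one, neg_one_mul]
    have hne : ¬ x * y = y * x := fun e => by rw [anti_eq_zero.mpr e] at h; exact zero_ne_one h
    have h1 := hF.sq_eq (R.mul_mem hx hy)
    obtain ⟨c, hc⟩ : ∃ c : ZMod 2, y * x = sgn c * (x * y) := by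
      refine ⟨sqc (x * y) + (sqc x + sqc y), ?_⟩
      rw [show y * x = x⁻¹ * (x * y * (x * y)) * y⁻¹ by group, h1, hF.inv_eq hx, hF.inv_eq hy, sgn_add, sgn_add]
      rcases two_cases (sqc (x * y)) with e'' | e'' <;> rcases two_cases (sqc x) with e | e <;>
        rcases two_cases (sqc y) with e' | e' <;> simp [e, e', e'', sgn_zero, sgn_one]
    rcases two_cases c with rfl | rfl
    · rw [sgn_zero, one_mul] at hc; exact absurd hc.symm hne
    · rw [sgn_one, neg_one_mul] at hc; rw [hc, neg_neg]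

theorem anti_eq {x y : 𝔸ˣ} (hx : x ∈ R) (hy : y ∈ R) {c : ZMod 2} (h : x * y = sgn c * (y * x)) :
    anti x y = c :=
  hF.sgn_inj (mul_right_cancel ((hF.comm_eq hx hy).symm.trans h))

theorem anti_one {x y : 𝔸ˣ} (hx : x ∈ R) (hy : y ∈ R) : anti x y = 1 ↔ x * y = -(y * x) :=
  ⟨fun h => by rw [hF.comm_eq hx hy, h, sgn_one, neg_one_mul],
    fun h => hF.anti_eq hx hy (by rw [h, sgn_one, neg_one_mul])⟩

theorem anti_mul_left {x x' y : 𝔸ˣ} (hx : x ∈ R) (hx' : x' ∈ R) (hy : y ∈ R) :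
    anti (x * x') y = anti x y + anti x' y := by
  refine hF.anti_eq (R.mul_mem hx hx') hy ?_
  rw [mul_assoc, hF.comm_eq hx' hy, ← mul_assoc x, ← sgn_comm _ x, mul_assoc, ← mul_assoc x y,
    hF.comm_eq hx hy, mul_assoc, ← mul_assoc (sgn _), ← sgn_add, add_comm (anti x' y), mul_assoc y]

theorem anti_neg_left {x y : 𝔸ˣ} (_hx : x ∈ R) : anti (-x) y = anti x y := by
  have h : -x * y = y * -x ↔ x * y = y * x := by rw [neg_mul, mul_neg, neg_inj]
  rcases two_cases (anti x y) with e | e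
  · rw [e, anti_eq_zero, h, ← anti_eq_zero, e]
  · rw [e]
    refine (two_cases _).resolve_left fun e' => ?_
    rw [anti_eq_zero, h, ← anti_eq_zero, e] at e'
    exact one_ne_zero e'

/-- The character of an element. -/
noncomputable def chr (x : 𝔸ˣ) : R → ZMod 2 := fun y => anti x y

/-- The space of characters. -/
def A (_hF : Frame F R) : Submodule (ZMod 2) (R → ZMod 2) where
  carrier := {f | ∃ x ∈ R, chr x = f}
  zero_mem' := ⟨1, R.one_mem, funext fun y => anti_eq_zero.mpr (by rw [one_mul, mul_one])⟩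
  add_mem' := by
    rintro _ _ ⟨x, hx, rfl⟩ ⟨y, hy, rfl⟩
    exact ⟨x * y, R.mul_mem hx hy, funext fun z => _hF.anti_mul_left hx hy z.2⟩
  smul_mem' := by
    rintro c f ⟨x, hx, rfl⟩
    rcases two_cases c with rfl | rfl
    · exact ⟨1, R.one_mem, funext fun y => by
        rw [zero_smul]; exact anti_eq_zero.mpr (by rw [one_mul, mul_one])⟩
    · exact ⟨x, hx, (one_smul _ _).symm⟩

open Classical in
/-- The class of an element. -/
noncomputable def cls (x : 𝔸ˣ) : hF.A := if hx : x ∈ R then ⟨chr x, x, hx, rfl⟩ else 0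

theorem cls_val {x : 𝔸ˣ} (hx : x ∈ R) (y : R) : (hF.cls x : R → ZMod 2) y = anti x y := by
  unfold cls; rw [dif_pos hx]; rfl

theorem cls_mul {x y : 𝔸ˣ} (hx : x ∈ R) (hy : y ∈ R) : hF.cls (x * y) = hF.cls x + hF.cls y := by
  refine Subtype.ext (funext fun z => ?_)
  rw [Submodule.coe_add, Pi.add_apply, hF.cls_val (R.mul_mem hx hy), hF.cls_val hx, hF.cls_val hy,
    hF.anti_mul_left hx hy z.2]

theorem cls_surj (a : hF.A) : ∃ x ∈ R, hF.cls x = a := by
  obtain ⟨f, x, hx, rfl⟩ := a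
  exact ⟨x, hx, Subtype.ext (funext fun z => hF.cls_val hx z)⟩

theorem cls_eq_zero {x : 𝔸ˣ} (hx : x ∈ R) : hF.cls x = 0 ↔ x = 1 ∨ x = -1 := by
  constructor
  · intro h
    by_contra hne
    push Not at hne
    obtain ⟨y, hy, hxy⟩ := hF.sep x hx hne.1 hne.2
    refine hxy (anti_eq_zero.mp ?_)
    rw [← hF.cls_val hx ⟨y, hy⟩, h]; rfl
  · intro h
    refine Subtype.ext (funext fun z => ?_)
    rw [hF.cls_val hx]
    refine anti_eq_zero.mpr ?_
    rcases h with rfl | rfl <;> simp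

theorem cls_one : hF.cls 1 = 0 := (hF.cls_eq_zero R.one_mem).mpr (Or.inl rfl)

theorem cls_neg {x : 𝔸ˣ} (hx : x ∈ R) : hF.cls (-x) = hF.cls x := by
  rw [← neg_one_mul, hF.cls_mul hF.neg_one hx, (hF.cls_eq_zero hF.neg_one).mpr (Or.inr rfl), zero_add]

theorem cls_inv {x : 𝔸ˣ} (hx : x ∈ R) : hF.cls x⁻¹ = hF.cls x := by
  rw [hF.inv_eq hx, hF.cls_mul (hF.sgn_mem _) hx]
  rcases two_cases (sqc x) with h | h <;>
    simp [h, sgn_zero, sgn_one, hF.cls_one, (hF.cls_eq_zero hF.neg_one).mpr (Or.inr rfl)]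

theorem cls_eq_iff {x y : 𝔸ˣ} (hx : x ∈ R) (hy : y ∈ R) : hF.cls x = hF.cls y ↔ x = y ∨ x = -y := by
  constructor
  · intro h
    have h0 : hF.cls (x * y⁻¹) = 0 := by
      rw [hF.cls_mul hx (R.inv_mem hy), hF.cls_inv hy, h, ZModModule.add_self]
    rcases (hF.cls_eq_zero (R.mul_mem hx (R.inv_mem hy))).mp h0 with h1 | h1
    · exact Or.inl (mul_inv_eq_one.mp h1)
    · exact Or.inr (by rw [mul_inv_eq_iff_eq_mul.mp h1, neg_one_mul])
  · rintro (rfl | rfl)
    · rfl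
    · exact hF.cls_neg hy

open Classical in
/-- A representative. -/
noncomputable def rep (a : hF.A) : 𝔸ˣ := (hF.cls_surj a).choose

theorem rep_mem (a : hF.A) : hF.rep a ∈ R := (hF.cls_surj a).choose_spec.1

theorem cls_rep (a : hF.A) : hF.cls (hF.rep a) = a := (hF.cls_surj a).choose_spec.2

theorem sqc_cls {x y : 𝔸ˣ} (hx : x ∈ R) (hy : y ∈ R) (h : hF.cls x = hF.cls y) : sqc x = sqc y := by
  rcases (hF.cls_eq_iff hx hy).mp h with rfl | rfl
  · rfl
  · exact hF.sqc_eq hx (by rw [neg_mul_neg, hF.sq_eq hy])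

theorem sqc_mul {x y : 𝔸ˣ} (hx : x ∈ R) (hy : y ∈ R) : sqc (x * y) = sqc x + sqc y + anti x y := by
  refine hF.sqc_eq (R.mul_mem hx hy) ?_
  have h := hF.comm_eq hy hx
  rw [anti_comm y x] at h
  rw [show x * y * (x * y) = x * (y * x) * y by group, h]
  rw [← mul_assoc x, ← sgn_comm _ x, mul_assoc (sgn _) x, mul_assoc (sgn _),
    show x * (x * y) * y = (x * x) * (y * y) by group, hF.sq_eq hx, hF.sq_eq hy, ← sgn_add, ← sgn_add, add_comm]

/-- The anticommutation form. -/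
noncomputable def form : LinearMap.BilinForm (ZMod 2) hF.A :=
  LinearMap.mk₂ (ZMod 2) (fun a b => anti (hF.rep a) (hF.rep b))
    (fun a a' b => by
      rw [← hF.cls_val (hF.rep_mem _) ⟨_, hF.rep_mem b⟩, ← hF.cls_val (hF.rep_mem a) ⟨_, hF.rep_mem b⟩,
        ← hF.cls_val (hF.rep_mem a') ⟨_, hF.rep_mem b⟩, hF.cls_rep, hF.cls_rep, hF.cls_rep]
      rfl)
    (fun c a b => by
      rw [← hF.cls_val (hF.rep_mem _) ⟨_, hF.rep_mem b⟩, ← hF.cls_val (hF.rep_mem a) ⟨_, hF.rep_mem b⟩,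
        hF.cls_rep, hF.cls_rep]
      rfl)
    (fun a b b' => by
      simp only [anti_comm (hF.rep a)]
      rw [← hF.cls_val (hF.rep_mem _) ⟨_, hF.rep_mem a⟩, ← hF.cls_val (hF.rep_mem b) ⟨_, hF.rep_mem a⟩,
        ← hF.cls_val (hF.rep_mem b') ⟨_, hF.rep_mem a⟩, hF.cls_rep, hF.cls_rep, hF.cls_rep]
      rfl)
    (fun c a b => by
      simp only [anti_comm (hF.rep a)]
      rw [← hF.cls_val (hF.rep_mem _) ⟨_, hF.rep_mem a⟩, ← hF.cls_val (hF.rep_mem b) ⟨_, hF.rep_mem a⟩,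
        hF.cls_rep, hF.cls_rep]
      rfl)

/-- The quadratic form. -/
noncomputable def q : QuadraticForm (ZMod 2) hF.A where
  toFun a := sqc (hF.rep a)
  toFun_smul c a := by
    rcases two_cases c with rfl | rfl
    · simp only [zero_smul, mul_zero, smul_eq_mul, zero_mul]
      rw [hF.sqc_cls (hF.rep_mem _) R.one_mem (by rw [hF.cls_rep, hF.cls_one]), hF.sqc_zero R.one_mem, one_mul]
    · simp
  exists_companion' := ⟨hF.form, fun a b => by
    show sqc (hF.rep (a + b)) = sqc (hF.rep a) + sqc (hF.rep b) + anti (hF.rep a) (hF.rep b)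
    rw [← hF.sqc_mul (hF.rep_mem a) (hF.rep_mem b)]
    exact hF.sqc_cls (hF.rep_mem _) (R.mul_mem (hF.rep_mem a) (hF.rep_mem b))
      (by rw [hF.cls_rep, hF.cls_mul (hF.rep_mem a) (hF.rep_mem b), hF.cls_rep, hF.cls_rep])⟩

local notation "B" => QuadraticMap.polarBilin hF.q

theorem q_cls {x : 𝔸ˣ} (hx : x ∈ R) : hF.q (hF.cls x) = sqc x :=
  hF.sqc_cls (hF.rep_mem _) hx (hF.cls_rep _)

theorem bil_cls {x y : 𝔸ˣ} (hx : x ∈ R) (hy : y ∈ R) : B (hF.cls x) (hF.cls y) = anti x y := by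
  have h := hF.sqc_mul hx hy
  rw [← hF.q_cls hx, ← hF.q_cls hy, ← hF.q_cls (R.mul_mem hx hy), hF.cls_mul hx hy, QSpace.map_add'] at h
  exact add_left_cancel h

theorem qspace : QSpace hF.q := ⟨fun a h => by
  obtain ⟨x, hx, rfl⟩ := hF.cls_surj a
  refine Subtype.ext (funext fun z => ?_)
  rw [hF.cls_val hx, ← hF.bil_cls hx z.2]
  exact h _⟩

instance finiteA [Finite R] : FiniteDimensional (ZMod 2) hF.A := Module.Finite.of_finite

theorem card_A [Finite R] : 2 * Nat.card hF.A = Nat.card R := by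
  let f : R →* Multiplicative hF.A :=
    { toFun := fun x => Multiplicative.ofAdd (hF.cls x)
      map_one' := by simp [hF.cls_one]
      map_mul' := fun x y => by simp [hF.cls_mul x.2 y.2] }
  have hf : Function.Surjective f := fun a => by
    obtain ⟨x, hx, h⟩ := hF.cls_surj a.toAdd
    exact ⟨⟨x, hx⟩, congrArg Multiplicative.ofAdd h⟩
  have hk : Nat.card f.ker = 2 := by
    rw [Nat.card_eq_two_iff]
    refine ⟨1, ⟨⟨-1, hF.neg_one⟩, ?_⟩, ?_, ?_⟩
    · exact congrArg Multiplicative.ofAdd ((hF.cls_eq_zero hF.neg_one).mpr (Or.inr rfl))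
    · exact fun h => hF.ne_neg 1 (congrArg (fun t : f.ker => ((t : R) : 𝔸ˣ)) h)
    · refine Set.eq_univ_of_forall fun x => ?_
      have h : hF.cls (x.1 : 𝔸ˣ) = 0 := congrArg Multiplicative.toAdd (MonoidHom.mem_ker.mp x.2)
      rcases (hF.cls_eq_zero x.1.2).mp h with e | e
      · exact Or.inl (Subtype.ext (Subtype.ext e))
      · exact Or.inr (Subtype.ext (Subtype.ext e))
  have h := Subgroup.card_eq_card_quotient_mul_card_subgroup f.ker
  rw [Nat.card_congr (QuotientGroup.quotientKerEquivOfSurjective f hf).toEquiv, hk, mul_comm] at h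
  exact h.symm

theorem finrank_A [Finite R] {k : ℕ} (hc : Nat.card R = 2 ^ (1 + 2 * k)) :
    finrank (ZMod 2) hF.A = 2 * k := by
  have h := hF.card_A
  rw [Module.natCard_eq_pow_finrank (K := ZMod 2), Nat.card_zmod, hc, pow_add, pow_one] at h
  exact Nat.pow_right_injective le_rfl (mul_left_cancel₀ two_ne_zero h)

theorem card_ne_zero [Finite R] (S : Subgroup 𝔸ˣ) (hS : S ≤ R) : (Nat.card S : F) ≠ 0 := by
  have hp : IsPGroup 2 R := fun x => ⟨2, Subtype.ext (by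
    show (x : 𝔸ˣ) ^ 4 = 1
    rw [show (4 : ℕ) = 2 * 2 from rfl, pow_mul, pow_two, pow_two, hF.sq_eq x.2, ← sgn_add,
      CharTwo.add_self_eq_zero, sgn_zero])⟩
  haveI := Fact.mk Nat.prime_two
  obtain ⟨n, hn⟩ := IsPGroup.iff_card.mp hp
  obtain ⟨m, -, hm⟩ := (Nat.dvd_prime_pow Nat.prime_two).mp (hn ▸ Subgroup.card_dvd_of_le hS)
  rw [hm, Nat.cast_pow]
  exact pow_ne_zero _ (by exact_mod_cast hF.two)

/-- The elements with class in a subspace. -/
def lifts (Y : Submodule (ZMod 2) hF.A) : Subgroup 𝔸ˣ where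
  carrier := {x | x ∈ R ∧ hF.cls x ∈ Y}
  one_mem' := ⟨R.one_mem, by rw [hF.cls_one]; exact Y.zero_mem⟩
  mul_mem' {x y} hx hy := ⟨R.mul_mem hx.1 hy.1, by rw [hF.cls_mul hx.1 hy.1]; exact Y.add_mem hx.2 hy.2⟩
  inv_mem' {x} hx := ⟨R.inv_mem hx.1, by rw [hF.cls_inv hx.1]; exact hx.2⟩

/-- An element commuting with all elements over `Y` is spanned by those over its orthogonal. -/
theorem mem_span_of_commute [Finite R] (Y : Submodule (ZMod 2) hF.A) (e : 𝔸)
    (h : ∀ x ∈ R, hF.cls x ∈ Y → (x : 𝔸) * e = e * x) :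
    e ∈ Submodule.span F ((fun x : 𝔸ˣ => (x : 𝔸)) ''
      {x | x ∈ R ∧ hF.cls x ∈ LinearMap.BilinForm.orthogonal B Y}) := by
  classical
  set T := Submodule.span F ((fun x : 𝔸ˣ => (x : 𝔸)) ''
      {x | x ∈ R ∧ hF.cls x ∈ LinearMap.BilinForm.orthogonal B Y})
  haveI : Finite (hF.lifts Y) := Finite.of_injective (fun x => (⟨x.1, x.2.1⟩ : R))
    fun a b hab => Subtype.ext (congrArg (fun t : R => (t : 𝔸ˣ)) hab)
  haveI := Fintype.ofFinite (hF.lifts Y)
  let Φ : 𝔸 →ₗ[F] 𝔸 := ∑ y : hF.lifts Y, (LinearMap.mulRight F (((y : 𝔸ˣ)⁻¹ : 𝔸ˣ) : 𝔸)).comp (LinearMap.mulLeft F ((y : 𝔸ˣ) : 𝔸))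
  have hΦ : ∀ t : 𝔸, Φ t = ∑ y : hF.lifts Y, ((y : 𝔸ˣ) : 𝔸) * t * (((y : 𝔸ˣ)⁻¹ : 𝔸ˣ) : 𝔸) := fun t => by
    simp only [Φ, LinearMap.coe_sum, Finset.sum_apply, LinearMap.comp_apply, LinearMap.mulLeft_apply, LinearMap.mulRight_apply]
  have he : Φ e = (Nat.card (hF.lifts Y) : F) • e := by
    rw [hΦ, Finset.sum_congr rfl (g := fun _ => e) fun y _ => by
      rw [h y.1 y.2.1 y.2.2, mul_assoc, Units.mul_inv, mul_one]]
    rw [Finset.sum_const, Nat.cast_smul_eq_nsmul, Nat.card_eq_fintype_card, Finset.card_univ]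
  have hgen : ∀ x ∈ R, Φ (x : 𝔸) ∈ T := by
    intro x hx
    by_cases hxY : hF.cls x ∈ LinearMap.BilinForm.orthogonal B Y
    · rw [hΦ]
      refine Submodule.sum_mem _ fun y _ => ?_
      have hc : (y : 𝔸ˣ) * x = x * y := anti_eq_zero.mp (by
        rw [← hF.bil_cls y.2.1 hx]
        exact LinearMap.BilinForm.mem_orthogonal_iff.mp hxY _ y.2.2)
      rw [← Units.val_mul, hc, ← Units.val_mul, mul_assoc, mul_inv_cancel, mul_one]
      exact Submodule.subset_span ⟨x, ⟨hx, hxY⟩, rfl⟩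
    · rw [LinearMap.BilinForm.mem_orthogonal_iff] at hxY
      push Not at hxY
      obtain ⟨a, haY, ha⟩ := hxY
      obtain ⟨z, hz, rfl⟩ := hF.cls_surj a
      have hanti : z * x = -(x * z) := (hF.anti_one hz hx).mp (by
        rw [← hF.bil_cls hz hx]; exact (two_cases _).resolve_left ha)
      have hneg : Φ (x : 𝔸) = -Φ (x : 𝔸) := by
        simp only [hΦ]
        rw [← Finset.sum_neg_distrib]
        refine (Equiv.sum_comp (Equiv.mulRight (⟨z, hz, haY⟩ : hF.lifts Y)) _).symm.trans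
          (Finset.sum_congr rfl fun y _ => ?_)
        rw [Equiv.coe_mulRight, Subgroup.coe_mul, ← Units.val_mul, ← Units.val_mul, ← Units.val_mul,
          ← Units.val_mul, ← Units.val_neg, mul_assoc (y : 𝔸ˣ) z x, hanti, mul_inv_rev]
        congr 1
        rw [mul_neg, neg_mul, neg_inj, ← mul_assoc]
        group
      have h2 : (2 : F) • Φ (x : 𝔸) = 0 := by
        rw [two_smul]; nth_rewrite 1 [hneg]; exact neg_add_cancel _
      rw [(smul_eq_zero.mp h2).resolve_left hF.two]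
      exact T.zero_mem
  have hall : ∀ t, Φ t ∈ T := by
    intro t
    have ht : t ∈ Submodule.span F ((fun x : 𝔸ˣ => (x : 𝔸)) '' (R : Set 𝔸ˣ)) := by
      rw [hF.span]; trivial
    induction ht using Submodule.span_induction with
    | mem t ht => obtain ⟨x, hx, rfl⟩ := ht; exact hgen x hx
    | zero => rw [map_zero]; exact T.zero_mem
    | add a b _ _ ha hb => rw [map_add]; exact T.add_mem ha hb
    | smul c a _ ha => rw [map_smul]; exact T.smul_mem c ha
  have hN := hF.card_ne_zero (hF.lifts Y) fun x hx => hx.1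
  have := T.smul_mem ((Nat.card (hF.lifts Y) : F)⁻¹) (he ▸ hall e)
  rwa [smul_smul, inv_mul_cancel₀ hN, one_smul] at this

/-- An element commuting with the group is a scalar. -/
theorem exists_scalar [Finite R] (e : 𝔸) (h : ∀ x ∈ R, (x : 𝔸) * e = e * x) : ∃ α : F, e = α • 1 := by
  have h' := hF.mem_span_of_commute ⊤ e fun x hx _ => h x hx
  suffices hle : Submodule.span F ((fun x : 𝔸ˣ => (x : 𝔸)) ''
      {x | x ∈ R ∧ hF.cls x ∈ LinearMap.BilinForm.orthogonal B ⊤}) ≤ Submodule.span F {(1 : 𝔸)} by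
    obtain ⟨α, hα⟩ := Submodule.mem_span_singleton.mp (hle h')
    exact ⟨α, hα.symm⟩
  refine Submodule.span_le.mpr ?_
  rintro _ ⟨x, ⟨hx, hxY⟩, rfl⟩
  have h0 : hF.cls x = 0 := hF.qspace.nd _ fun y => by
    rw [QuadraticMap.polar_comm]; exact LinearMap.BilinForm.mem_orthogonal_iff.mp hxY y trivial
  rcases (hF.cls_eq_zero hx).mp h0 with rfl | rfl
  · exact Submodule.mem_span_singleton_self _
  · show ((-1 : 𝔸ˣ) : 𝔸) ∈ _; rw [Units.val_neg, Units.val_one]
    exact neg_mem (Submodule.mem_span_singleton_self _)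

/-- An element commuting with the centraliser of `b` lies in the span of `1` and `b`. -/
theorem exists_lin [Finite R] {b : 𝔸ˣ} (hb : b ∈ R) (e : 𝔸)
    (h : ∀ x ∈ R, anti x b = 0 → (x : 𝔸) * e = e * x) : ∃ α β : F, e = α • 1 + β • (b : 𝔸) := by
  have h' := hF.mem_span_of_commute (LinearMap.BilinForm.orthogonal B (Submodule.span (ZMod 2) {hF.cls b})) e
    fun x hx hxY => h x hx (by
      rw [← hF.bil_cls hx hb, QSpace.bil_comm]
      exact LinearMap.BilinForm.mem_orthogonal_iff.mp hxY _ (Submodule.mem_span_singleton_self _))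
  rw [hF.qspace.orth_orth] at h'
  suffices hle : Submodule.span F ((fun x : 𝔸ˣ => (x : 𝔸)) ''
      {x | x ∈ R ∧ hF.cls x ∈ Submodule.span (ZMod 2) {hF.cls b}}) ≤ Submodule.span F {(1 : 𝔸), (b : 𝔸)} by
    obtain ⟨α, β, hαβ⟩ := Submodule.mem_span_pair.mp (hle h')
    exact ⟨α, β, hαβ.symm⟩
  refine Submodule.span_le.mpr ?_
  rintro _ ⟨x, ⟨hx, hxY⟩, rfl⟩
  obtain ⟨c, hc⟩ := Submodule.mem_span_singleton.mp hxY
  have h1 : (1 : 𝔸) ∈ Submodule.span F {(1 : 𝔸), (b : 𝔸)} := Submodule.subset_span (by simp)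
  have h2 : (b : 𝔸) ∈ Submodule.span F {(1 : 𝔸), (b : 𝔸)} := Submodule.subset_span (by simp)
  rcases two_cases c with rfl | rfl
  · rw [zero_smul] at hc
    rcases (hF.cls_eq_zero hx).mp hc.symm with rfl | rfl
    · show ((1 : 𝔸ˣ) : 𝔸) ∈ _; rwa [Units.val_one]
    · show ((-1 : 𝔸ˣ) : 𝔸) ∈ _; rw [Units.val_neg, Units.val_one]; exact neg_mem h1
  · rw [one_smul] at hc
    rcases (hF.cls_eq_iff hx hb).mp hc.symm with rfl | rfl
    · exact h2
    · show ((-b : 𝔸ˣ) : 𝔸) ∈ _; rw [Units.val_neg]; exact neg_mem h2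

/-- An element inducing signs on the centraliser of `b` agrees with an element of the group up to an element
commuting with it. -/
theorem exists_twist [Finite R] {b e : 𝔸ˣ} (hb : b ∈ R) (heb : e * b = b * e)
    (he : ∀ x ∈ R, anti x b = 0 → e * x = x * e ∨ e * x = -(x * e)) :
    ∃ u ∈ R, anti u b = 0 ∧ ∀ x ∈ R, anti x b = 0 → x * (e * u⁻¹) = e * u⁻¹ * x := by
  set Y := LinearMap.BilinForm.orthogonal B (Submodule.span (ZMod 2) {hF.cls b}) with hY
  have hmem : ∀ a : hF.A, a ∈ Y ↔ anti (hF.rep a) b = 0 := by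
    intro a
    rw [← hF.bil_cls (hF.rep_mem a) hb, hF.cls_rep, hY, LinearMap.BilinForm.mem_orthogonal_iff]
    constructor
    · intro h; rw [QSpace.bil_comm]; exact h _ (Submodule.mem_span_singleton_self _)
    · intro h y hy
      obtain ⟨c, rfl⟩ := Submodule.mem_span_singleton.mp hy
      show B _ a = 0
      rw [map_smul, LinearMap.smul_apply, QSpace.bil_comm, h, smul_zero]
  have hsg : ∀ x ∈ R, anti x b = 0 → e * x = sgn (anti e x) * (x * e) := by
    intro x hx hxb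
    rcases two_cases (anti e x) with h | h
    · rw [h, sgn_zero, one_mul]; exact anti_eq_zero.mp h
    · rw [h, sgn_one, neg_one_mul]
      exact (he x hx hxb).resolve_left fun h' => by rw [anti_eq_zero.mpr h'] at h; exact zero_ne_one h
  have hcls : ∀ x ∈ R, anti x b = 0 → anti e x = anti e (hF.rep (hF.cls x)) := by
    intro x hx _
    rcases (hF.cls_eq_iff (hF.rep_mem _) hx).mp (hF.cls_rep _) with h | h
    · rw [h]
    · rw [h, anti_comm e (-x), hF.anti_neg_left hx, anti_comm]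
  let φ : Y →+ ZMod 2 := AddMonoidHom.mk' (fun a => anti e (hF.rep a.1)) fun a a' => by
    have ha := (hmem a.1).mp a.2
    have ha' := (hmem a'.1).mp a'.2
    have hm := R.mul_mem (hF.rep_mem a.1) (hF.rep_mem a'.1)
    have hmb : anti (hF.rep a.1 * hF.rep a'.1) b = 0 := by
      rw [hF.anti_mul_left (hF.rep_mem _) (hF.rep_mem _) hb, ha, ha', add_zero]
    have h1 : anti e (hF.rep (a.1 + a'.1)) = anti e (hF.rep a.1 * hF.rep a'.1) := by
      rw [hcls _ hm hmb, hF.cls_mul (hF.rep_mem _) (hF.rep_mem _), hF.cls_rep, hF.cls_rep]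
    show anti e (hF.rep (a.1 + a'.1)) = _
    rw [h1]
    refine hF.sgn_inj (mul_right_cancel (b := hF.rep a.1 * hF.rep a'.1 * e) ?_)
    rw [← hsg _ hm hmb, sgn_add, ← mul_assoc e, hsg _ (hF.rep_mem _) ha, mul_assoc (sgn _),
      mul_assoc (hF.rep a.1) e, hsg _ (hF.rep_mem _) ha', ← mul_assoc (hF.rep a.1) (sgn _), ← sgn_comm]
    simp only [mul_assoc]
  obtain ⟨a, ha⟩ := hF.qspace.exists_rep Y (φ.toZModLinearMap 2)
  have hbY : hF.cls b ∈ Y := (hmem _).mpr (by
    rw [← hF.bil_cls (hF.rep_mem _) hb, hF.cls_rep, QSpace.bil_self])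
  have hub : anti (hF.rep a) b = 0 := by
    rw [← hF.bil_cls (hF.rep_mem a) hb, hF.cls_rep, ha ⟨_, hbY⟩]
    show anti e (hF.rep (hF.cls b)) = 0
    rw [← hcls b hb (anti_eq_zero.mpr rfl)]
    exact anti_eq_zero.mpr heb
  refine ⟨hF.rep a, hF.rep_mem a, hub, fun x hx hxb => ?_⟩
  have hxY : hF.cls x ∈ Y := (hmem _).mpr (by
    rw [← hF.bil_cls (hF.rep_mem _) hb, hF.cls_rep, hF.bil_cls hx hb]; exact hxb)
  have hval : anti (hF.rep a) x = anti e x := by
    rw [← hF.bil_cls (hF.rep_mem a) hx, hF.cls_rep, ha ⟨_, hxY⟩, hcls x hx hxb]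
    rfl
  have h1 := hsg x hx hxb
  have h2 : hF.rep a * x = sgn (anti e x) * (x * hF.rep a) := hval ▸ hF.comm_eq (hF.rep_mem a) hx
  have h3 : x * (hF.rep a)⁻¹ = sgn (anti e x) * ((hF.rep a)⁻¹ * x) := by
    apply mul_left_cancel (a := hF.rep a)
    rw [← mul_assoc, h2, ← mul_assoc (hF.rep a) (sgn _), ← sgn_comm, mul_assoc (sgn _) (hF.rep a),
      mul_inv_cancel_left, mul_assoc, mul_assoc, mul_inv_cancel, mul_one]
  rw [mul_assoc e, ← mul_assoc x e]
  have h4 : x * e = sgn (anti e x) * (e * x) := by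
    rw [h1, ← mul_assoc, ← sgn_add, CharTwo.add_self_eq_zero, sgn_zero, one_mul]
  rw [h4, mul_assoc, mul_assoc e x, h3, ← mul_assoc e (sgn _), ← sgn_comm _ e, mul_assoc, ← mul_assoc (sgn _),
    ← sgn_add, CharTwo.add_self_eq_zero, sgn_zero, one_mul]

end Frame

end Cfsg.Agent.Lib.SympCent35
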