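import Mathlib
import Cfsg.Agent.Lib.SympCent35.Frame

/-!
Isometries normalising a group of symplectic type: lifts of products of two transvections, and their
membership in the commutator group.
-/

set_option autoImplicit false
set_option linter.unusedSectionVars false
set_option linter.style.haveILetI false

namespace Cfsg.Agent.Lib.SympCent35

open Module
open QSpace (tr tt)
open scoped commutatorElement

/-- The ambient data: an adjoint, its isometry group and a group between it and its derived group. -/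
structure Amb (F : Type*) [Field F] {𝔸 : Type*} [Ring 𝔸] [Algebra F 𝔸] [Nontrivial 𝔸]
    (R : Subgroup 𝔸ˣ) (adj : 𝔸 → 𝔸)
    (U G₀ : Subgroup 𝔸ˣ) : Prop where
  frame : Frame F R
  adj_add : ∀ a b, adj (a + b) = adj a + adj b
  adj_mul : ∀ a b, adj (a * b) = adj b * adj a
  adj_smul : ∀ (c : F) a, adj (c • a) = c • adj a
  adj_mem : ∀ x ∈ R, adj (x : 𝔸) = ((x⁻¹ : 𝔸ˣ) : 𝔸)
  mem_U : ∀ g : 𝔸ˣ, g ∈ U ↔ adj (g : 𝔸) * g = 1
  comm_le : ⁅U, U⁆ ≤ G₀
  le_U : G₀ ≤ U
  big : 8 ≤ finrank (ZMod 2) frame.A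

variable {F : Type*} [Field F] {𝔸 : Type*} [Ring 𝔸] [Algebra F 𝔸] [Nontrivial 𝔸]

/-- Half the sum of `1` and `s`. -/
def ep (F : Type*) [Field F] [Algebra F 𝔸] (s : 𝔸ˣ) : 𝔸 := (2 : F)⁻¹ • (1 + (s : 𝔸))

/-- Half the difference of `1` and `s`. -/
def em (F : Type*) [Field F] [Algebra F 𝔸] (s : 𝔸ˣ) : 𝔸 := (2 : F)⁻¹ • (1 - (s : 𝔸))

/-- The product `(1 + v)(1 + u)/2`. -/
def pairVal (F : Type*) [Field F] [Algebra F 𝔸] (v u : 𝔸ˣ) : 𝔸 :=
  (2 : F)⁻¹ • ((1 + (v : 𝔸)) * (1 + (u : 𝔸)))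

namespace Amb

variable {R : Subgroup 𝔸ˣ} {adj : 𝔸 → 𝔸} {U G₀ : Subgroup 𝔸ˣ} (h : Amb F R adj U G₀)

theorem finite (h : Amb F R adj U G₀) : Finite R := h.frame.fin

include h

theorem finA : FiniteDimensional (ZMod 2) h.frame.A := by
  haveI := h.finite
  exact Module.Finite.of_finite

theorem half_two : ((2 : F)⁻¹ * 2 : F) = 1 := inv_mul_cancel₀ h.frame.two

theorem half_smul_two (a : 𝔸) : (2 : F)⁻¹ • (a + a) = a := by
  rw [← two_smul F a, smul_smul, h.half_two, one_smul]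

theorem adj_one : adj 1 = 1 := by simpa using h.adj_mem 1 R.one_mem

theorem adj_neg (a : 𝔸) : adj (-a) = -adj a := by
  rw [← neg_one_smul F a, h.adj_smul, neg_one_smul]

theorem adj_sub (a b : 𝔸) : adj (a - b) = adj a - adj b := by
  rw [sub_eq_add_neg, h.adj_add, h.adj_neg, sub_eq_add_neg]

theorem R_le_U : R ≤ U := fun x hx => by rw [h.mem_U, h.adj_mem x hx, Units.inv_mul]

theorem adj_U {g : 𝔸ˣ} (hg : g ∈ U) : adj (g : 𝔸) = ((g⁻¹ : 𝔸ˣ) : 𝔸) :=
  left_inv_eq_right_inv ((h.mem_U g).mp hg) g.mul_inv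

theorem val_neg_one_sq {v : 𝔸ˣ} (hv : v * v = -1) : (v : 𝔸) * v = -1 := by
  rw [← Units.val_mul, hv, Units.val_neg, Units.val_one]

theorem adj_skew {v : 𝔸ˣ} (hvR : v ∈ R) (hv : v * v = -1) : adj (1 + (v : 𝔸)) = 1 - (v : 𝔸) := by
  have hi : v⁻¹ = -v := inv_eq_of_mul_eq_one_right (by rw [mul_neg, hv, neg_neg])
  rw [h.adj_add, h.adj_one, h.adj_mem v hvR, hi, Units.val_neg, sub_eq_add_neg]

theorem skew_mul {v : 𝔸ˣ} (hv : v * v = -1) : (1 - (v : 𝔸)) * (1 + v) = (2 : F) • 1 := by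
  rw [mul_add, mul_one, sub_mul, one_mul, h.val_neg_one_sq hv, two_smul]; abel

theorem skew_mul' {v : 𝔸ˣ} (hv : v * v = -1) : (1 + (v : 𝔸)) * (1 - v) = (2 : F) • 1 := by
  rw [mul_sub, mul_one, add_mul, one_mul, h.val_neg_one_sq hv, two_smul]; abel

/-- The product `(1 + v)(1 + u)/2` as an isometry. -/
theorem exists_pair {v u : 𝔸ˣ} (hvR : v ∈ R) (huR : u ∈ R) (hv : v * v = -1) (hu : u * u = -1) :
    ∃ g ∈ U, (g : 𝔸) = pairVal F v u := by
  have e1 : (2 : F)⁻¹ • ((1 - (u : 𝔸)) * (1 - v)) * pairVal F v u = 1 := by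
    rw [pairVal, smul_mul_smul_comm, mul_assoc, ← mul_assoc (1 - (v : 𝔸)), h.skew_mul hv, smul_one_mul,
      mul_smul_comm, h.skew_mul hu, smul_smul, smul_smul]
    rw [show (2 : F)⁻¹ * 2⁻¹ * 2 * 2 = (2⁻¹ * 2) * (2⁻¹ * 2) by ring, h.half_two, one_mul, one_smul]
  have e2 : pairVal F v u * ((2 : F)⁻¹ • ((1 - (u : 𝔸)) * (1 - v))) = 1 := by
    rw [pairVal, smul_mul_smul_comm, mul_assoc, ← mul_assoc (1 + (u : 𝔸)), h.skew_mul' hu, smul_one_mul,
      mul_smul_comm, h.skew_mul' hv, smul_smul, smul_smul]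
    rw [show (2 : F)⁻¹ * 2⁻¹ * 2 * 2 = (2⁻¹ * 2) * (2⁻¹ * 2) by ring, h.half_two, one_mul, one_smul]
  refine ⟨⟨pairVal F v u, _, e2, e1⟩, ?_, rfl⟩
  rw [h.mem_U]
  show adj (pairVal F v u) * pairVal F v u = 1
  have : adj (pairVal F v u) = (2 : F)⁻¹ • ((1 - (u : 𝔸)) * (1 - v)) := by
    rw [pairVal, h.adj_smul, h.adj_mul, h.adj_skew hvR hv, h.adj_skew huR hu]
  rw [this, e1]

/-- Passing an element of the group through `1 + u`. -/
theorem one_add_mul {u x : 𝔸ˣ} (huR : u ∈ R) (hu : u * u = -1) (hx : x ∈ R) :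
    ∃ y ∈ R, (1 + (u : 𝔸)) * x = (y : 𝔸) * (1 + u) ∧
      h.frame.cls y = tr h.frame.q (h.frame.cls u) (h.frame.cls x) := by
  have hb := h.frame.bil_cls hx huR
  rcases two_cases (anti x u) with e | e
  · refine ⟨x, hx, ?_, ?_⟩
    · have hc : (x : 𝔸) * u = u * x := by rw [← Units.val_mul, anti_eq_zero.mp e, Units.val_mul]
      rw [add_mul, one_mul, mul_add, mul_one, hc]
    · rw [QSpace.tr_of_zero]; rw [hb, e]
  · refine ⟨u * x, R.mul_mem huR hx, ?_, ?_⟩
    · have hc : (x : 𝔸) * u = -((u : 𝔸) * x) := by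
        rw [← Units.val_mul, (h.frame.anti_one hx huR).mp e, Units.val_neg, Units.val_mul]
      rw [Units.val_mul, add_mul, one_mul, mul_add, mul_one, mul_assoc, hc, mul_neg, ← mul_assoc,
        h.val_neg_one_sq hu, neg_one_mul, neg_neg, add_comm]
    · rw [QSpace.tr_of_one (by rw [hb, e]), h.frame.cls_mul huR hx, add_comm]

/-- The action of a pair. -/
theorem pair_act {v u x g : 𝔸ˣ} (hvR : v ∈ R) (huR : u ∈ R) (hv : v * v = -1) (hu : u * u = -1)
    (hg : (g : 𝔸) = pairVal F v u) (hx : x ∈ R) :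
    ∃ y ∈ R, g * x * g⁻¹ = y ∧
      h.frame.cls y = tt h.frame.q (h.frame.cls v) (h.frame.cls u) (h.frame.cls x) := by
  obtain ⟨y₁, hy₁, e₁, c₁⟩ := h.one_add_mul huR hu hx
  obtain ⟨y₂, hy₂, e₂, c₂⟩ := h.one_add_mul hvR hv hy₁
  refine ⟨y₂, hy₂, mul_inv_eq_iff_eq_mul.mpr (Units.ext ?_), by rw [c₂, c₁]; rfl⟩
  rw [Units.val_mul, Units.val_mul, hg, pairVal, smul_mul_assoc, mul_assoc, e₁, ← mul_assoc, e₂, mul_assoc,
    mul_smul_comm]

theorem pair_comm {v u x g : 𝔸ˣ} (hg : (g : 𝔸) = pairVal F v u) (hxv : x * v = v * x) (hxu : x * u = u * x) :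
    g * x = x * g := by
  refine Units.ext ?_
  have h1 : (x : 𝔸) * v = v * x := by rw [← Units.val_mul, hxv, Units.val_mul]
  have h2 : (x : 𝔸) * u = u * x := by rw [← Units.val_mul, hxu, Units.val_mul]
  rw [Units.val_mul, Units.val_mul, hg, pairVal, smul_mul_assoc, mul_smul_comm]
  congr 1
  rw [mul_assoc, add_mul 1 (u : 𝔸), one_mul, ← h2, ← mul_assoc (x : 𝔸), mul_add (x : 𝔸), mul_one, h1]
  noncomm_ring [h2]

theorem pair_normalizes {v u g : 𝔸ˣ} (hvR : v ∈ R) (huR : u ∈ R) (hv : v * v = -1) (hu : u * u = -1)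
    (hg : (g : 𝔸) = pairVal F v u) : g ∈ Subgroup.normalizer (R : Set 𝔸ˣ) := by
  haveI := h.finite
  refine Subgroup.mem_normalizer_fintype fun x hx => ?_
  obtain ⟨y, hy, e, -⟩ := h.pair_act hvR huR hv hu hg hx
  rw [e]; exact hy

/-- Three conditions on the commutation with given elements, one anticommuting. -/
theorem exists_partner {s c : 𝔸ˣ} (hs : s ∈ R) (hc : c ∈ R) (hsc : anti c s = 0)
    (hne : h.frame.cls c ∉ Submodule.span (ZMod 2) {h.frame.cls s}) :
    ∃ x ∈ R, ∃ e ∈ R, e * e = -1 ∧ anti x c = 1 ∧ anti x s = 0 ∧ anti e c = 0 ∧ anti e s = 0 ∧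
      anti e x = 0 := by
  haveI := h.finA
  obtain ⟨v₀, hv₀, hv₀c⟩ := h.frame.qspace.exists_sep hne
  obtain ⟨x, hx, rfl⟩ := h.frame.cls_surj v₀
  let S := Submodule.span (ZMod 2) ({h.frame.cls c, h.frame.cls s, h.frame.cls x} : Set h.frame.A)
  have hS : finrank (ZMod 2) S ≤ 3 := h.frame.qspace.finrank_span_three _ _ _
  have hbig := h.big
  obtain ⟨v, hv, hvS⟩ := h.frame.qspace.exists_ns (S := S) 0 (Or.inl (by omega))
  obtain ⟨e, he, rfl⟩ := h.frame.cls_surj v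
  rw [h.frame.q_cls he, h.frame.sqc_one he] at hv
  have hz : ∀ y ∈ R, h.frame.cls y ∈ S → anti e y = 0 := fun y hy hyS => by
    rw [← h.frame.bil_cls he hy, hvS _ hyS, map_zero, LinearMap.zero_apply]
  refine ⟨x, hx, e, he, hv, ?_, ?_, hz c hc ?_, hz s hs ?_, hz x hx ?_⟩
  · rw [← h.frame.bil_cls hx hc, hv₀c]
  · rw [← h.frame.bil_cls hx hs, hv₀ _ (Submodule.mem_span_singleton_self _)]
  all_goals exact Submodule.subset_span (by simp)

/-- An element of square minus one is a commutator of two isometries commuting with what commutes with it and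
with its partners. -/
theorem eq_commutator {c x e g : 𝔸ˣ} (hcR : c ∈ R) (hx : x ∈ R) (hc : c * c = -1) (hxc : anti x c = 1)
    (hex : anti e x = 0) (hg : (g : 𝔸) = pairVal F c e) : ⁅g, x⁆ = c := by
  have e1 : (x : 𝔸) * e = e * x := by
    rw [← Units.val_mul, ← anti_eq_zero.mp hex, Units.val_mul]
  have e2 : (x : 𝔸) * c = -((c : 𝔸) * x) := by
    rw [← Units.val_mul, (h.frame.anti_one hx hcR).mp hxc, Units.val_neg, Units.val_mul]
  have hgx : g * x * g⁻¹ = c * x := by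
    refine mul_inv_eq_iff_eq_mul.mpr (Units.ext ?_)
    rw [Units.val_mul, Units.val_mul, Units.val_mul, hg, pairVal, smul_mul_assoc, mul_smul_comm]
    congr 1
    rw [mul_assoc, add_mul 1 (e : 𝔸), one_mul, ← e1, ← mul_one_add, ← mul_assoc, ← mul_assoc]
    congr 1
    rw [mul_add ((c : 𝔸) * x), mul_one, mul_assoc (c : 𝔸) x c, e2, mul_neg, ← mul_assoc,
      h.val_neg_one_sq hc, neg_one_mul, neg_neg, add_mul, one_mul, add_comm]
  rw [commutatorElement_def, hgx, mul_inv_cancel_right]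

theorem sq_neg_mem {c : 𝔸ˣ} (hcR : c ∈ R) (hc : c * c = -1) : c ∈ G₀ := by
  have hne : h.frame.cls c ∉ Submodule.span (ZMod 2) {h.frame.cls (1 : 𝔸ˣ)} := by
    rw [h.frame.cls_one, Submodule.span_zero_singleton, Submodule.mem_bot, h.frame.cls_eq_zero hcR]
    rintro (rfl | rfl)
    · rw [one_mul] at hc; exact h.frame.ne_neg 1 hc
    · rw [neg_mul_neg, one_mul] at hc; exact h.frame.ne_neg 1 hc
  obtain ⟨x, hx, e, he, he2, hxc, -, -, -, hex⟩ :=
    h.exists_partner R.one_mem hcR (anti_eq_zero.mpr (by rw [mul_one, one_mul])) hne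
  obtain ⟨g, hg, hgv⟩ := h.exists_pair hcR he hc he2
  rw [← h.eq_commutator hcR hx hc hxc hex hgv]
  exact h.comm_le (Subgroup.commutator_mem_commutator hg (h.R_le_U hx))

/-- Every element of `R` is a product of two elements of square minus one commuting with it. -/
theorem exists_factor {x s : 𝔸ˣ} (hx : x ∈ R) (hs : s ∈ R) (hxs : anti x s = 0) (hx2 : x * x = 1) :
    ∃ c ∈ R, ∃ d ∈ R, c * c = -1 ∧ d * d = -1 ∧ anti c s = 0 ∧ anti d s = 0 ∧ x = c * d := by
  haveI := h.finA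
  let S := Submodule.span (ZMod 2) ({h.frame.cls x, h.frame.cls s, h.frame.cls s} : Set h.frame.A)
  have hS : finrank (ZMod 2) S ≤ 3 := h.frame.qspace.finrank_span_three _ _ _
  have hbig := h.big
  obtain ⟨v, hv, hvS⟩ := h.frame.qspace.exists_ns (S := S) 0 (Or.inl (by omega))
  obtain ⟨c, hc, rfl⟩ := h.frame.cls_surj v
  rw [h.frame.q_cls hc] at hv
  have hz : ∀ y ∈ R, h.frame.cls y ∈ S → anti c y = 0 := fun y hy hyS => by
    rw [← h.frame.bil_cls hc hy, hvS _ hyS, map_zero, LinearMap.zero_apply]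
  have hcx := hz x hx (Submodule.subset_span (by simp))
  have hcs := hz s hs (Submodule.subset_span (by simp))
  refine ⟨c, hc, c⁻¹ * x, R.mul_mem (R.inv_mem hc) hx, (h.frame.sqc_one hc).mp hv, ?_, hcs, ?_,
    (mul_inv_cancel_left c x).symm⟩
  · rw [← h.frame.sqc_one (R.mul_mem (R.inv_mem hc) hx), ← h.frame.q_cls (R.mul_mem (R.inv_mem hc) hx),
      h.frame.cls_mul (R.inv_mem hc) hx, h.frame.cls_inv hc, QSpace.map_add', h.frame.q_cls hc, hv,
      h.frame.q_cls hx, (h.frame.sqc_zero hx).mpr hx2, h.frame.bil_cls hc hx, hcx, add_zero, add_zero]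
  · rw [h.frame.anti_mul_left (R.inv_mem hc) hx hs, hxs, add_zero, ← h.frame.bil_cls (R.inv_mem hc) hs,
      h.frame.cls_inv hc, h.frame.bil_cls hc hs, hcs]

theorem R_le : R ≤ G₀ := by
  intro x hx
  rcases h.frame.sq x hx with h1 | h1
  · obtain ⟨c, hc, d, hd, hc2, hd2, -, -, rfl⟩ :=
      h.exists_factor hx R.one_mem (anti_eq_zero.mpr (by rw [mul_one, one_mul])) h1
    exact G₀.mul_mem (h.sq_neg_mem hc hc2) (h.sq_neg_mem hd hd2)
  · exact h.sq_neg_mem hx h1

/-- The lifts of products of two transvections. -/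
theorem pair_mem {v u : 𝔸ˣ} (hvR : v ∈ R) (huR : u ∈ R) (hv : v * v = -1) (hu : u * u = -1) :
    ∃ g ∈ G₀, (g : 𝔸) = pairVal F v u := by
  haveI := h.finA
  have hbig := h.big
  -- the anticommuting case
  have anticase : ∀ i j : 𝔸ˣ, i ∈ R → j ∈ R → i * i = -1 → j * j = -1 → anti i j = 1 →
      ∃ g ∈ G₀, (g : 𝔸) = pairVal F j i := by
    intro i j hiR hjR hi hj hij
    have hni : (-i) * (-i) = -1 := by rw [neg_mul_neg, hi]
    have hniR := h.frame.neg_mem' hiR
    have hnij : anti (-i) j = 1 := by rw [h.frame.anti_neg_left hiR, hij]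
    let S := Submodule.span (ZMod 2) ({h.frame.cls i, h.frame.cls j, h.frame.cls j} : Set h.frame.A)
    have hS : finrank (ZMod 2) S ≤ 3 := h.frame.qspace.finrank_span_three _ _ _
    obtain ⟨w, hw, hwS⟩ := h.frame.qspace.exists_ns (S := S) 0 (Or.inl (by omega))
    obtain ⟨e, he, rfl⟩ := h.frame.cls_surj w
    rw [h.frame.q_cls he, h.frame.sqc_one he] at hw
    have hei : anti e (-i) = 0 := by
      rw [anti_comm, h.frame.anti_neg_left hiR, anti_comm, ← h.frame.bil_cls he hiR,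
        hwS _ (Submodule.subset_span (by simp)), map_zero, LinearMap.zero_apply]
    have hej : anti e j = 0 := by
      rw [← h.frame.bil_cls he hjR, hwS _ (Submodule.subset_span (by simp)), map_zero, LinearMap.zero_apply]
    obtain ⟨a, ha, hav⟩ := h.exists_pair hniR hjR hni hj
    obtain ⟨b, hb, hbv⟩ := h.exists_pair hniR he hni hw
    refine ⟨⁅a, b⁆, h.comm_le (Subgroup.commutator_mem_commutator ha hb), ?_⟩
    obtain ⟨m, hm, hmv⟩ := h.exists_pair hjR he hj hw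
    set I : 𝔸 := ((-i : 𝔸ˣ) : 𝔸) with hI
    have eji : (j : 𝔸) * I = -(I * j) := by
      rw [hI, ← Units.val_mul, ← Units.val_mul, ← Units.val_neg,
        (h.frame.anti_one hjR hniR).mp (by rw [anti_comm]; exact hnij)]
    have eie : I * e = (e : 𝔸) * I := by
      rw [hI, ← Units.val_mul, ← Units.val_mul, anti_eq_zero.mp hei]
    have eje : (j : 𝔸) * e = e * j := by
      rw [← Units.val_mul, ← Units.val_mul, anti_eq_zero.mp hej]
    have eii : I * I = -1 := h.val_neg_one_sq hni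
    have ejj : (j : 𝔸) * j = -1 := h.val_neg_one_sq hj
    have eee : (e : 𝔸) * e = -1 := h.val_neg_one_sq hw
    have key : a * b * a⁻¹ = m := by
      refine mul_inv_eq_iff_eq_mul.mpr (Units.ext ?_)
      rw [Units.val_mul, Units.val_mul, hav, hbv, hmv]
      simp only [pairVal, ← hI, smul_mul_smul_comm]
      congr 1
      have k1 : (1 + I) * (1 + (j : 𝔸)) * (1 + I) = (1 + (j : 𝔸)) * ((1 + I) * (1 + (j : 𝔸))) := by
        have r1 : I * j * I = j := by
          rw [mul_assoc, eji, mul_neg, ← mul_assoc, eii, neg_one_mul, neg_neg]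
        have r3 : I * j * j = -I := by rw [mul_assoc, ejj, mul_neg_one]
        simp only [mul_add, add_mul, mul_one, one_mul, ← mul_assoc, r1, r3, eii, ejj, eji, neg_mul]
        abel
      have k2 : (1 + I) * (1 + (e : 𝔸)) = (1 + (e : 𝔸)) * (1 + I) := by
        simp only [mul_add, add_mul, mul_one, one_mul, eie]; abel
      have k3 : (1 + (j : 𝔸)) * (1 + (e : 𝔸)) = (1 + (e : 𝔸)) * (1 + (j : 𝔸)) := by
        simp only [mul_add, add_mul, mul_one, one_mul, eje]; abel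
      have k4 : (1 + I) * (1 + (j : 𝔸)) * (1 + (e : 𝔸)) = (1 + (e : 𝔸)) * ((1 + I) * (1 + (j : 𝔸))) := by
        rw [mul_assoc, k3, ← mul_assoc, k2, mul_assoc]
      calc (1 + I) * (1 + (j : 𝔸)) * ((1 + I) * (1 + (e : 𝔸)))
          = (1 + (j : 𝔸)) * ((1 + I) * (1 + (j : 𝔸))) * (1 + (e : 𝔸)) := by rw [← mul_assoc, k1]
        _ = (1 + (j : 𝔸)) * (1 + (e : 𝔸)) * ((1 + I) * (1 + (j : 𝔸))) := by
            rw [mul_assoc (1 + (j : 𝔸)) _ (1 + (e : 𝔸)), k4, ← mul_assoc]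
    have hmb : (m : 𝔸) = ((⁅a, b⁆ : 𝔸ˣ) : 𝔸) * b := by
      rw [← Units.val_mul, commutatorElement_def, key, inv_mul_cancel_right]
    have hbinv : ((b⁻¹ : 𝔸ˣ) : 𝔸) = (2 : F)⁻¹ • ((1 - (e : 𝔸)) * (1 - I)) := by
      rw [← h.adj_U hb, hbv, pairVal, h.adj_smul, h.adj_mul, h.adj_skew hniR hni, h.adj_skew he hw]
    rw [commutatorElement_def, key, Units.val_mul, hmv, hbinv, pairVal, pairVal, smul_mul_smul_comm,
      mul_assoc, ← mul_assoc (1 + (e : 𝔸)), h.skew_mul' hw, smul_one_mul, mul_smul_comm, smul_smul]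
    congr 1
    · rw [mul_assoc, h.half_two, mul_one]
    · rw [hI, Units.val_neg, sub_neg_eq_add]
  rcases two_cases (anti u v) with e | e
  swap
  · exact anticase u v huR hvR hu hv e
  -- the commuting case, through a third element
  have hu0 : h.frame.cls u ∉ Submodule.span (ZMod 2) {h.frame.cls u + h.frame.cls v} := by
    intro hmem
    obtain ⟨c, hc⟩ := Submodule.mem_span_singleton.mp hmem
    have hqu : h.frame.q (h.frame.cls u) = 1 := by rw [h.frame.q_cls huR, h.frame.sqc_one huR, hu]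
    have hqv : h.frame.q (h.frame.cls v) = 1 := by rw [h.frame.q_cls hvR, h.frame.sqc_one hvR, hv]
    rcases two_cases c with rfl | rfl
    · rw [zero_smul] at hc; rw [← hc, QuadraticMap.map_zero] at hqu; exact zero_ne_one hqu
    · rw [one_smul, add_eq_left] at hc; rw [hc, QuadraticMap.map_zero] at hqv; exact zero_ne_one hqv
  obtain ⟨w₀, hw₀, hw₀u⟩ := h.frame.qspace.exists_sep hu0
  let S := Submodule.span (ZMod 2) ({h.frame.cls u, h.frame.cls v, h.frame.cls v} : Set h.frame.A)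
  have hS : finrank (ZMod 2) S ≤ 3 := h.frame.qspace.finrank_span_three _ _ _
  obtain ⟨w', hw', hwS⟩ := h.frame.qspace.exists_ns (S := S) w₀ (Or.inl (by omega))
  obtain ⟨w, hwR, rfl⟩ := h.frame.cls_surj w'
  rw [h.frame.q_cls hwR, h.frame.sqc_one hwR] at hw'
  have hwu : anti w u = 1 := by
    rw [← h.frame.bil_cls hwR huR, hwS _ (Submodule.subset_span (by simp)), hw₀u]
  have hwv : anti w v = 1 := by
    have h0 := hw₀ _ (Submodule.mem_span_singleton_self _)
    rw [map_add, hw₀u, CharTwo.add_eq_zero] at h0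
    rw [← h.frame.bil_cls hwR hvR, hwS _ (Submodule.subset_span (by simp)), ← h0]
  have hnv : (-v) * (-v) = -1 := by rw [neg_mul_neg, hv]
  obtain ⟨g₁, hg₁, e₁⟩ := anticase w (-v) hwR (h.frame.neg_mem' hvR) hw' hnv
    (by rw [anti_comm, h.frame.anti_neg_left hvR, anti_comm, hwv])
  obtain ⟨g₂, hg₂, e₂⟩ := anticase u w huR hwR hu hw' (by rw [anti_comm, hwu])
  refine ⟨w⁻¹ * (g₁ * g₂), G₀.mul_mem (G₀.inv_mem (h.R_le hwR)) (G₀.mul_mem hg₁ hg₂), ?_⟩
  have eg : ((g₁ * g₂ : 𝔸ˣ) : 𝔸) = (w : 𝔸) * pairVal F v u := by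
    have eww : (w : 𝔸) * w = -1 := h.val_neg_one_sq hw'
    have ew2 : (1 + (w : 𝔸)) * (1 + (w : 𝔸)) = (2 : F) • (w : 𝔸) := by
      rw [two_smul, mul_add, mul_one, add_mul, one_mul, eww]; abel
    have evw : (w : 𝔸) * v = -((v : 𝔸) * w) := by
      rw [← Units.val_mul, (h.frame.anti_one hwR hvR).mp hwv, Units.val_neg, Units.val_mul]
    rw [Units.val_mul, e₁, e₂, pairVal, pairVal, pairVal, smul_mul_smul_comm, mul_assoc,
      ← mul_assoc (1 + (w : 𝔸)), ew2, smul_mul_assoc, mul_smul_comm, mul_smul_comm, smul_smul]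
    congr 1
    · rw [mul_assoc, h.half_two, mul_one]
    · rw [← mul_assoc, ← mul_assoc]
      congr 1
      rw [mul_add, mul_one, add_mul, one_mul, Units.val_neg, neg_mul, evw]
  rw [Units.val_mul, eg, ← mul_assoc, Units.inv_mul, one_mul]

end Amb

end Cfsg.Agent.Lib.SympCent35
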