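import Mathlib
import Cfsg.Agent.Lib.SympCent35.Space

/-!
A group containing a copy of a quadratic space over the field with two elements: when the common centraliser
of two non-orthogonal anisotropic elements lies in the copy, the copy is the whole group.
-/

set_option autoImplicit false
set_option linter.unusedSectionVars false
set_option linter.style.haveILetI false

namespace Cfsg.Agent.Lib.SympCent35

open Module
open QSpace (tr tt)

variable {V : Type*} [AddCommGroup V] [Module (ZMod 2) V] [FiniteDimensional (ZMod 2) V]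

namespace QSpace

variable {q : QuadraticForm (ZMod 2) V} (hQ : QSpace q)

local notation "B" => QuadraticMap.polarBilin q

include hQ

omit hQ in
theorem span_two (x₁ x₂ : V) : finrank (ZMod 2) (Submodule.span (ZMod 2) ({x₁, x₂} : Set V)) ≤ 2 := by
  classical
  have h2 := finrank_span_finset_le_card (R := ZMod 2) ({x₁, x₂} : Finset V)
  have e : (({x₁, x₂} : Finset V) : Set V) = {x₁, x₂} := by simp
  rw [e] at h2
  exact h2.trans Finset.card_le_two

/-- An anisotropic pair orthogonal to three given anisotropic vectors. -/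
theorem exists_pair_perp (hd : 6 ≤ finrank (ZMod 2) V)
    (hplus : 8 ≤ finrank (ZMod 2) V ∨
      ∃ T : Submodule (ZMod 2) V, 2 * finrank (ZMod 2) T = finrank (ZMod 2) V ∧ ∀ x ∈ T, q x = 0)
    {z v v' : V} (hz : q z = 1) (hv : q v = 1) (hv' : q v' = 1) (hzv : B z v = 1) (hzv' : B z v' = 1) :
    ∃ a b, q a = 1 ∧ q b = 1 ∧ B a b = 1 ∧ B a z = 0 ∧ B a v = 0 ∧ B a v' = 0 ∧
      B b z = 0 ∧ B b v = 0 ∧ B b v' = 0 := by
  classical
  let S := Submodule.span (ZMod 2) ({z, v, v'} : Set V)
  have hS : finrank (ZMod 2) S ≤ 3 := hQ.finrank_span_three _ _ _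
  have hzS : z ∈ S := Submodule.subset_span (by simp)
  have hvS : v ∈ S := Submodule.subset_span (by simp)
  have hv'S : v' ∈ S := Submodule.subset_span (by simp)
  obtain ⟨a, ha, haS⟩ := hQ.exists_ns (S := S) 0
    (Or.inr ⟨by omega, z, hzS, by rw [hz, map_zero, LinearMap.zero_apply, add_zero]⟩)
  have haS' : ∀ x ∈ S, B a x = 0 := fun x hx => by rw [haS x hx, map_zero, LinearMap.zero_apply]
  have haS0 : a ∉ S := by
    intro hmem
    obtain ⟨c₁, w, hw, hsum⟩ := Submodule.mem_span_insert.mp hmem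
    obtain ⟨c₂, c₃, rfl⟩ := Submodule.mem_span_pair.mp hw
    have e1 := haS' z hzS
    have e2 := haS' v hvS
    have e3 := haS' v' hv'S
    rw [hsum] at e1 e2 e3 ha
    simp only [map_add, map_smul, LinearMap.add_apply, LinearMap.smul_apply, bil_self, smul_eq_mul,
      bil_comm v z, bil_comm v' z, bil_comm v' v, hzv, hzv'] at e1 e2 e3
    simp only [map_add', map_add, map_smul, QuadraticMap.map_smul, LinearMap.add_apply, LinearMap.smul_apply,
      smul_eq_mul, hz, hv, hv', hzv, hzv'] at ha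
    revert e1 e2 e3 ha
    rcases two_cases c₁ with rfl | rfl <;> rcases two_cases c₂ with rfl | rfl <;>
      rcases two_cases c₃ with rfl | rfl <;> rcases two_cases (B v v') with e | e <;> simp only [e] <;> decide
  obtain ⟨b₀, hb₀S, hb₀a⟩ := hQ.exists_sep haS0
  rcases two_cases (q b₀) with hb0 | hb1
  swap
  · exact ⟨a, b₀, ha, hb1, by rw [bil_comm]; exact hb₀a, haS' z hzS, haS' v hvS, haS' v' hv'S,
      hb₀S z hzS, hb₀S v hvS, hb₀S v' hv'S⟩
  by_cases hsm : finrank (ZMod 2) S ≤ 2 ∨ 8 ≤ finrank (ZMod 2) V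
  · let S' := S ⊔ Submodule.span (ZMod 2) {a}
    have hS' : finrank (ZMod 2) S' ≤ finrank (ZMod 2) S + 1 := by
      have h1 := Submodule.finrank_sup_add_finrank_inf_eq S (Submodule.span (ZMod 2) {a})
      have h2 : finrank (ZMod 2) (Submodule.span (ZMod 2) ({a} : Set V)) ≤ 1 := by
        have := finrank_span_le_card (R := ZMod 2) ({a} : Set V)
        simpa using this
      show finrank (ZMod 2) ↥(S ⊔ Submodule.span (ZMod 2) {a}) ≤ _
      omega
    have hS'le : ∀ x ∈ S, x ∈ S' := fun x hx => Submodule.mem_sup_left hx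
    obtain ⟨b, hb, hbS⟩ := hQ.exists_ns (S := S') b₀ (Or.inr ⟨by omega, z, hS'le z hzS, by
      rw [hz, hb₀S z hzS, add_zero]⟩)
    refine ⟨a, b, ha, hb, ?_, haS' z hzS, haS' v hvS, haS' v' hv'S, ?_, ?_, ?_⟩
    · rw [bil_comm, hbS a (Submodule.mem_sup_right (Submodule.mem_span_singleton_self a)), hb₀a]
    · rw [hbS z (hS'le z hzS), hb₀S z hzS]
    · rw [hbS v (hS'le v hvS), hb₀S v hvS]
    · rw [hbS v' (hS'le v' hv'S), hb₀S v' hv'S]
  exfalso
  push Not at hsm
  obtain ⟨T, hT, hTq⟩ := hplus.resolve_left (by omega)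
  have hn : finrank (ZMod 2) V = 6 := by omega
  -- the radical vector
  obtain ⟨r, hrS, hqr, hrz, hrv, hrv', hr0⟩ : ∃ r ∈ S, q r = 0 ∧ B r z = 0 ∧ B r v = 0 ∧ B r v' = 0 ∧ r ≠ 0 := by
    have hne : ∀ x y : V, S ≤ Submodule.span (ZMod 2) ({x, y} : Set V) → False := fun x y hle => by
      have h1 := Submodule.finrank_mono hle
      have h2 := finrank_span_finset_le_card (R := ZMod 2) ({x, y} : Finset V)
      have e : (({x, y} : Finset V) : Set V) = {x, y} := by simp
      rw [e] at h2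
      have h3 : ({x, y} : Finset V).card ≤ 2 := Finset.card_le_two
      have h4 : finrank (ZMod 2) (Submodule.span (ZMod 2) ({x, y} : Set V)) ≤ 2 := h2.trans h3
      omega
    rcases two_cases (B v v') with e | e
    · refine ⟨v + v', S.add_mem hvS hv'S, ?_, ?_, ?_, ?_, fun h0 => hne z v ?_⟩
      · simp only [map_add', hv, hv', e]; decide
      all_goals try
        simp only [map_add, LinearMap.add_apply, bil_self, bil_comm v z, bil_comm v' z, bil_comm v' v, hzv, hzv', e]
      all_goals try decide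
      refine Submodule.span_le.mpr ?_
      have : v' = -v := eq_neg_of_add_eq_zero_right h0
      rintro x (rfl | rfl | rfl)
      · exact Submodule.subset_span (by simp)
      · exact Submodule.subset_span (by simp)
      · rw [SetLike.mem_coe, this]; exact neg_mem (Submodule.subset_span (by simp))
    · refine ⟨z + v + v', S.add_mem (S.add_mem hzS hvS) hv'S, ?_, ?_, ?_, ?_, fun h0 => hne z v ?_⟩
      · simp only [map_add', map_add, LinearMap.add_apply, hz, hv, hv', hzv, hzv', e]; decide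
      all_goals try
        simp only [map_add, LinearMap.add_apply, bil_self, bil_comm v z, bil_comm v' z, bil_comm v' v, hzv, hzv', e]
      all_goals try decide
      refine Submodule.span_le.mpr ?_
      have hz' : z ∈ Submodule.span (ZMod 2) ({z, v} : Set V) := Submodule.subset_span (by simp)
      have hv2 : v ∈ Submodule.span (ZMod 2) ({z, v} : Set V) := Submodule.subset_span (by simp)
      have : v' = -(z + v) := eq_neg_of_add_eq_zero_right h0
      rintro x (rfl | rfl | rfl)
      · exact hz'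
      · exact hv2
      · rw [SetLike.mem_coe, this]; exact neg_mem (add_mem hz' hv2)
  have hrb : B r b₀ = 0 := by rw [bil_comm]; exact hb₀S r hrS
  let U := Submodule.span (ZMod 2) ({r, b₀} : Set V)
  let P := Submodule.span (ZMod 2) ({z, v} : Set V)
  have hUq : ∀ x ∈ U, q x = 0 := by
    intro x hx
    obtain ⟨c₁, c₂, rfl⟩ := Submodule.mem_span_pair.mp hx
    rcases two_cases c₁ with rfl | rfl <;> rcases two_cases c₂ with rfl | rfl <;>
      simp [map_add', hqr, hb0, hrb]
  have hUP : ∀ x ∈ U, ∀ p ∈ P, B x p = 0 := by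
    intro x hx p hp
    obtain ⟨c₁, c₂, rfl⟩ := Submodule.mem_span_pair.mp hx
    obtain ⟨c₃, c₄, rfl⟩ := Submodule.mem_span_pair.mp hp
    simp only [map_add, map_smul, LinearMap.add_apply, LinearMap.smul_apply, smul_eq_mul, hrz, hrv, hb₀S z hzS,
      hb₀S v hvS, mul_zero, add_zero]
  have hPq : ∀ p ∈ P, q p = 0 → p = 0 := by
    intro p hp
    obtain ⟨c₃, c₄, rfl⟩ := Submodule.mem_span_pair.mp hp
    rcases two_cases c₃ with rfl | rfl <;> rcases two_cases c₄ with rfl | rfl <;>
      simp only [zero_smul, one_smul, zero_add, add_zero, map_add', hz, hv, hzv]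
    · simp
    · exact fun h => absurd h one_ne_zero
    · exact fun h => absurd h one_ne_zero
    · exact fun h => absurd h (by decide)
  have two : ∀ x y : V, x ≠ 0 → y ≠ 0 → x ≠ y →
      finrank (ZMod 2) (Submodule.span (ZMod 2) ({x, y} : Set V)) = 2 := by
    intro x y hx hy hxy
    have hli : LinearIndependent (ZMod 2) ![x, y] := by
      rw [LinearIndependent.pair_iff]
      intro c₁ c₂ h
      rcases two_cases c₁ with rfl | rfl <;> rcases two_cases c₂ with rfl | rfl <;>
        simp only [zero_smul, one_smul, zero_add, add_zero] at h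
      · exact ⟨rfl, rfl⟩
      · exact absurd h hy
      · exact absurd h hx
      · exact absurd (by rw [eq_neg_of_add_eq_zero_left h, ZModModule.neg_eq_self]) hxy
    have := finrank_span_eq_card hli
    have e : Set.range ![x, y] = {x, y} := by
      simp [Matrix.range_cons, Matrix.range_empty, Set.pair_comm]
    rw [e] at this
    simpa using this
  have hz0 : z ≠ 0 := fun h => by rw [h, map_zero] at hz; exact zero_ne_one hz
  have hv0 : v ≠ 0 := fun h => by rw [h, map_zero] at hv; exact zero_ne_one hv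
  have hP2 : finrank (ZMod 2) P = 2 := two z v hz0 hv0 fun h => by
    rw [h, bil_self] at hzv; exact zero_ne_one hzv
  have hU2 : finrank (ZMod 2) U = 2 := two r b₀ hr0 (fun h => by
    rw [h, map_zero, LinearMap.zero_apply] at hb₀a; exact zero_ne_one hb₀a) (fun h => by
      have := haS' r hrS
      rw [bil_comm, h, hb₀a] at this
      exact one_ne_zero this)
  have hUP0 : U ⊓ P = ⊥ := (Submodule.eq_bot_iff _).mpr fun x hx => hPq x hx.2 (hUq x hx.1)
  have hUPle : U ⊔ P ≤ LinearMap.BilinForm.orthogonal B U := by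
    refine sup_le (fun x hx => LinearMap.BilinForm.mem_orthogonal_iff.mpr fun y hy => ?_)
      fun p hp => LinearMap.BilinForm.mem_orthogonal_iff.mpr fun y hy => hUP y hy p hp
    have h1 := hUq _ (U.add_mem hy hx)
    rw [map_add', hUq y hy, hUq x hx, zero_add, zero_add] at h1
    exact h1
  have hsum := Submodule.finrank_sup_add_finrank_inf_eq U P
  rw [hUP0, finrank_bot, hU2, hP2] at hsum
  have heq : U ⊔ P = LinearMap.BilinForm.orthogonal B U := by
    refine Submodule.eq_of_le_of_finrank_eq hUPle ?_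
    rw [hQ.finrank_orth]; omega
  have hTT : T = LinearMap.BilinForm.orthogonal B T := by
    refine Submodule.eq_of_le_of_finrank_eq (fun x hx => LinearMap.BilinForm.mem_orthogonal_iff.mpr fun y hy => ?_) ?_
    · have h1 := hTq _ (T.add_mem hy hx)
      rw [map_add', hTq y hy, hTq x hx, zero_add, zero_add] at h1
      exact h1
    · rw [hQ.finrank_orth]; omega
  have hcap : T ⊓ LinearMap.BilinForm.orthogonal B U ≤ T ⊓ U := by
    rintro x ⟨hxT, hxU⟩
    rw [SetLike.mem_coe, ← heq, Submodule.mem_sup] at hxU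
    obtain ⟨u', hu', p, hp, rfl⟩ := hxU
    have h1 := hTq _ hxT
    rw [map_add', hUq u' hu', hUP u' hu' p hp, zero_add, add_zero] at h1
    rw [hPq p hp h1, add_zero] at hxT ⊢
    exact ⟨hxT, hu'⟩
  have horth : T ⊓ LinearMap.BilinForm.orthogonal B U = LinearMap.BilinForm.orthogonal B (T ⊔ U) := by
    conv_lhs => rw [hTT]
    refine le_antisymm ?_ (le_inf (LinearMap.BilinForm.orthogonal_le le_sup_left)
      (LinearMap.BilinForm.orthogonal_le le_sup_right))
    rintro x ⟨hxT, hxU⟩
    refine LinearMap.BilinForm.mem_orthogonal_iff.mpr fun y hy => ?_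
    obtain ⟨t, ht, u', hu', rfl⟩ := Submodule.mem_sup.mp hy
    have e1 := LinearMap.BilinForm.mem_orthogonal_iff.mp hxT t ht
    have e2 := LinearMap.BilinForm.mem_orthogonal_iff.mp hxU u' hu'
    show B (t + u') x = 0
    rw [map_add, LinearMap.add_apply]
    rw [show B t x = 0 from e1, show B u' x = 0 from e2, add_zero]
  have h1 := Submodule.finrank_mono hcap
  rw [horth, hQ.finrank_orth] at h1
  have h2 := Submodule.finrank_sup_add_finrank_inf_eq T U
  omega

end QSpace

variable {Γ : Type*} [Group Γ]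

/-- The hypotheses. -/
structure SelfHyp (q : QuadraticForm (ZMod 2) V) (K : Subgroup Γ) (ι : V → Γ) : Prop where
  normal : K.Normal
  add : ∀ a c, ι (a + c) = ι a * ι c
  inj : Function.Injective ι
  mem : ∀ a, ι a ∈ K
  quat : ∀ a c, q a = 1 → q c = 1 → QuadraticMap.polarBilin q a c = 1 →
    ∀ k ∈ K, k * ι a = ι a * k → k * ι c = ι c * k → ∃ d, ι d = k
  sq : ∀ (g : Γ) a c, g * ι a * g⁻¹ = ι c → q a = q c
  pair : ∀ u v, q u = 1 → q v = 1 → ∃ g : Γ, ∀ x, g * ι x * g⁻¹ = ι (tt q u v x)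

namespace SelfHyp

variable {q : QuadraticForm (ZMod 2) V} {K : Subgroup Γ} {ι : V → Γ}

local notation "B" => QuadraticMap.polarBilin q

theorem map_zero' (h : SelfHyp q K ι) : ι 0 = 1 := by
  have := h.add 0 0; rw [add_zero] at this; exact left_eq_mul.mp this

theorem comm (h : SelfHyp q K ι) (a c : V) : ι a * ι c = ι c * ι a := by rw [← h.add, ← h.add, add_comm]

theorem sq_one (h : SelfHyp q K ι) (a : V) : ι a * ι a = 1 := by rw [← h.add, ZModModule.add_self, h.map_zero']

theorem inv_self (h : SelfHyp q K ι) (a : V) : (ι a)⁻¹ = ι a := inv_eq_of_mul_eq_one_right (h.sq_one a)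

theorem tr_tr (a w : V) : tr q a (tr q a w) = w := by
  simp only [tr, map_add, map_smul, LinearMap.add_apply, LinearMap.smul_apply, QSpace.bil_self,
    smul_zero, add_zero]
  rw [add_assoc, ← add_smul, CharTwo.add_self_eq_zero, zero_smul, add_zero]

theorem tt_tt (u v y : V) : tt q v u (tt q u v y) = y := by simp only [tt, tr_tr]

/-- The isometry induced by a normalising element. -/
theorem exists_isometry (h : SelfHyp q K ι) {c : Γ} (hn : ∀ x, ∃ y, c * ι x * c⁻¹ = ι y) :
    ∃ τ : V ≃ₗ[ZMod 2] V, (∀ x, c * ι x * c⁻¹ = ι (τ x)) ∧ (∀ x, q (τ x) = q x) ∧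
      ∀ x y, B (τ x) (τ y) = B x y := by
  choose ρ hρ using hn
  let τ₀ : V →+ V := AddMonoidHom.mk' ρ fun a b => h.inj (by
    rw [← hρ, h.add, h.add, ← hρ, ← hρ]; group)
  have hinj : Function.Injective (τ₀.toZModLinearMap 2) := fun a b e => h.inj (by
    have e' : ρ a = ρ b := e
    have := (hρ a).trans ((congrArg ι e').trans (hρ b).symm)
    exact mul_left_cancel (mul_right_cancel this))
  refine ⟨LinearEquiv.ofInjectiveEndo _ hinj, fun x => hρ x, fun x => (h.sq c x _ (hρ x)).symm, fun x y => ?_⟩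
  have hq : ∀ x, q (LinearEquiv.ofInjectiveEndo _ hinj x) = q x := fun x => (h.sq c x _ (hρ x)).symm
  simp only [QSpace.bil, QuadraticMap.polar, ← map_add, hq]

/-- The action of a commutator with a pair. -/
theorem comm_act (_h : SelfHyp q K ι) {c g : Γ} {τ : V ≃ₗ[ZMod 2] V} (hτ : ∀ x, c * ι x * c⁻¹ = ι (τ x))
    (hB : ∀ x y, B (τ x) (τ y) = B x y) {u v : V} (hg : ∀ x, g * ι x * g⁻¹ = ι (tt q u v x)) (y : V) :
    c * g * c⁻¹ * g⁻¹ * ι y * (c * g * c⁻¹ * g⁻¹)⁻¹ = ι (tt q (τ u) (τ v) (tt q v u y)) := by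
  have e1 : g⁻¹ * ι y * g = ι (tt q v u y) := by
    calc g⁻¹ * ι y * g = g⁻¹ * ι (tt q u v (tt q v u y)) * g := by rw [tt_tt]
      _ = g⁻¹ * (g * ι (tt q v u y) * g⁻¹) * g := by rw [hg]
      _ = _ := by group
  obtain ⟨w, hw⟩ := τ.surjective (tt q v u y)
  have e2 : c⁻¹ * ι (tt q v u y) * c = ι w := by rw [← hw, ← hτ]; group
  have e3 : tt q (τ u) (τ v) (τ w) = τ (tt q u v w) := by
    simp only [tt, tr, map_add, map_smul, LinearMap.add_apply, LinearMap.smul_apply, hB]
  calc c * g * c⁻¹ * g⁻¹ * ι y * (c * g * c⁻¹ * g⁻¹)⁻¹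
      = c * (g * (c⁻¹ * (g⁻¹ * ι y * g) * c) * g⁻¹) * c⁻¹ := by group
    _ = _ := by rw [e1, e2, hg, hτ, ← e3, hw]

theorem comm_mem (h : SelfHyp q K ι) {c : Γ} (hc : c ∈ K) (g : Γ) : c * g * c⁻¹ * g⁻¹ ∈ K := by
  rw [show c * g * c⁻¹ * g⁻¹ = c * (g * c⁻¹ * g⁻¹) by group]
  exact K.mul_mem hc (h.normal.conj_mem _ (K.inv_mem hc) g)

/-- If the commutator with a pair lies in the range, the pair is preserved. -/
theorem pair_eq (h : SelfHyp q K ι) {c g : Γ} {τ : V ≃ₗ[ZMod 2] V} (hτ : ∀ x, c * ι x * c⁻¹ = ι (τ x))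
    (hB : ∀ x y, B (τ x) (τ y) = B x y) {u v : V} (hg : ∀ x, g * ι x * g⁻¹ = ι (tt q u v x))
    (hd : ∃ d, ι d = c * g * c⁻¹ * g⁻¹) (x : V) : tt q (τ u) (τ v) x = tt q u v x := by
  obtain ⟨d, hd⟩ := hd
  have e := h.comm_act hτ hB hg (tt q u v x)
  rw [tt_tt, ← hd, h.inv_self, h.comm d, mul_assoc, h.sq_one, mul_one] at e
  exact (h.inj e).symm

/-- The range is the whole group. -/
theorem range_eq [Finite Γ] (h : SelfHyp q K ι) (hQ : QSpace q) (hd : 6 ≤ finrank (ZMod 2) V)
    (hplus : 8 ≤ finrank (ZMod 2) V ∨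
      ∃ T : Submodule (ZMod 2) V, 2 * finrank (ZMod 2) T = finrank (ZMod 2) V ∧ ∀ x ∈ T, q x = 0)
    {k : Γ} (hk : k ∈ K) : ∃ d, ι d = k := by
  classical
  -- a normalising element fixing an anisotropic vector
  have hfix : ∀ c ∈ K, (∀ x, ∃ y, c * ι x * c⁻¹ = ι y) → ∀ z, q z = 1 → c * ι z * c⁻¹ = ι z → ∃ d, ι d = c := by
    intro c hc hn z hz hcz
    obtain ⟨τ, hτ, hτq, hB⟩ := h.exists_isometry hn
    have hτz : τ z = z := h.inj (by rw [← hτ, hcz])
    have hzne : z ∉ (⊥ : Submodule (ZMod 2) V) := by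
      rw [Submodule.mem_bot]; exact fun e => by rw [e, map_zero] at hz; exact zero_ne_one hz
    obtain ⟨v₀, -, hv₀z⟩ := hQ.exists_sep hzne
    obtain ⟨v, hv, hvz⟩ := hQ.exists_ns (S := Submodule.span (ZMod 2) {z}) v₀ (Or.inl (by
      have := finrank_span_le_card (R := ZMod 2) ({z} : Set V)
      simp at this; omega))
    have hzv : B z v = 1 := by
      rw [QSpace.bil_comm, hvz z (Submodule.mem_span_singleton_self z), hv₀z]
    have hzv' : B z (τ v) = 1 := by rw [← hτz, hB, hzv]
    obtain ⟨g, hg⟩ := h.pair z v hz hv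
    obtain ⟨a, b, ha, hb, hab, haz, hav, hav', hbz, hbv, hbv'⟩ :=
      hQ.exists_pair_perp hd hplus hz hv (by rw [hτq, hv]) hzv hzv'
    have hfixy : ∀ y, B y z = 0 → B y v = 0 → B y (τ v) = 0 →
        c * g * c⁻¹ * g⁻¹ * ι y = ι y * (c * g * c⁻¹ * g⁻¹) := by
      intro y h1 h2 h3
      refine mul_inv_eq_iff_eq_mul.mp ?_
      rw [h.comm_act hτ hB hg, hτz]
      congr 1
      simp only [tt, QSpace.tr_of_zero h1, QSpace.tr_of_zero h2, QSpace.tr_of_zero h3]
    have hd' := h.quat a b ha hb hab _ (h.comm_mem hc g) (hfixy a haz hav hav') (hfixy b hbz hbv hbv')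
    have htr : ∀ y, tr q (τ v) y = tr q v y := fun y => by
      have e := h.pair_eq hτ hB hg hd' y
      rw [hτz] at e
      simp only [tt] at e
      rw [← tr_tr (q := q) z (tr q (τ v) y), e, tr_tr]
    have hvv : τ v = v := by
      by_contra hne
      have hvs : v ∉ Submodule.span (ZMod 2) {τ v} := by
        intro hm
        obtain ⟨c₁, hc₁⟩ := Submodule.mem_span_singleton.mp hm
        rcases two_cases c₁ with rfl | rfl
        · rw [zero_smul] at hc₁; rw [← hc₁, map_zero] at hv; exact zero_ne_one hv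
        · rw [one_smul] at hc₁; exact hne hc₁
      obtain ⟨y, hy, hyv⟩ := hQ.exists_sep hvs
      have e := htr y
      rw [QSpace.tr_of_zero (hy _ (Submodule.mem_span_singleton_self _)), QSpace.tr_of_one hyv, left_eq_add] at e
      rw [e, map_zero] at hv
      exact zero_ne_one hv
    exact h.quat z v hz hv hzv c hc (mul_inv_eq_iff_eq_mul.mp hcz)
      (mul_inv_eq_iff_eq_mul.mp (by rw [hτ, hvv]))
  -- every normalising element of `K` lies in the range
  have hN : ∀ c ∈ K, (∀ x, ∃ y, c * ι x * c⁻¹ = ι y) → ∃ d, ι d = c := by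
    intro c hc hn
    obtain ⟨τ, hτ, hτq, hB⟩ := h.exists_isometry hn
    have hbot : finrank (ZMod 2) (⊥ : Submodule (ZMod 2) V) = 0 := finrank_bot _ _
    obtain ⟨u₀, hu₀, -⟩ := hQ.exists_ns (S := ⊥) 0 (Or.inl (by omega))
    obtain ⟨u, hu, hfu⟩ := hQ.exists_fixed hd τ hτq ⟨u₀, hu₀⟩ (by
      intro u v hu hv hperp x
      obtain ⟨z, hz, hzu, hzv, hztu, hztv⟩ := hperp
      obtain ⟨g, hg⟩ := h.pair u v hu hv
      refine h.pair_eq hτ hB hg (hfix _ (h.comm_mem hc g) (fun y => ⟨_, h.comm_act hτ hB hg y⟩) z hz ?_) x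
      rw [h.comm_act hτ hB hg]
      congr 1
      simp only [tt, QSpace.tr_of_zero hzu, QSpace.tr_of_zero hzv, QSpace.tr_of_zero hztv, QSpace.tr_of_zero hztu])
    exact hfix c hc hn u hu (by rw [hτ, hfu])
  -- Burnside
  let W : Subgroup Γ :=
    { carrier := Set.range ι
      one_mem' := ⟨0, h.map_zero'⟩
      mul_mem' := by rintro _ _ ⟨a, rfl⟩ ⟨b, rfl⟩; exact ⟨a + b, h.add a b⟩
      inv_mem' := by rintro _ ⟨a, rfl⟩; exact ⟨a, (h.inv_self a).symm⟩ }
  have hWK : W ≤ K := by rintro _ ⟨a, rfl⟩; exact h.mem a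
  let P : Subgroup K := W.subgroupOf K
  have hself : Subgroup.normalizer (P : Set K) ≤ P := by
    intro c hc
    obtain ⟨d, hd'⟩ := hN c c.2 fun x => by
      have : c * (⟨ι x, h.mem x⟩ : K) * c⁻¹ ∈ P := (Subgroup.mem_normalizer_iff.mp hc _).mp ⟨x, rfl⟩
      obtain ⟨y, hy⟩ := this
      exact ⟨y, hy.symm⟩
    exact ⟨d, hd'⟩
  haveI : Finite V := Module.finite_of_finite (ZMod 2)
  haveI := Fact.mk Nat.prime_two
  have hP : IsPGroup 2 P := fun x => ⟨1, by
    obtain ⟨a, ha⟩ := x.2
    refine Subtype.ext (Subtype.ext ?_)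
    show ((x : K) : Γ) ^ 2 = 1
    rw [pow_two, show ((x : K) : Γ) = ι a from ha.symm, h.sq_one]⟩
  have hindex : ¬ 2 ∣ P.index := by
    intro hdvd
    obtain ⟨n, hn⟩ := IsPGroup.iff_card.mp hP
    have hdvd' : 2 ^ (n + 1) ∣ Nat.card K := by
      rw [← P.card_mul_index, hn, pow_succ]; exact Nat.mul_dvd_mul_left _ hdvd
    have h2 := Sylow.prime_dvd_card_quotient_normalizer hdvd' hn
    haveI : Subsingleton (↥(Subgroup.normalizer (P : Set K)) ⧸ Subgroup.comap (Subgroup.normalizer (P : Set K)).subtype P) := by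
      rw [QuotientGroup.subsingleton_iff, eq_top_iff]
      exact fun x _ => hself x.2
    rw [Nat.card_eq_one_iff_unique.mpr ⟨inferInstance, ⟨((1 : Subgroup.normalizer (P : Set K)) :
      ↥(Subgroup.normalizer (P : Set K)) ⧸ _)⟩⟩] at h2
    exact absurd h2 (by norm_num)
  let S : Sylow 2 K := IsPGroup.toSylow hP hindex
  have hSP : (S : Subgroup K) = P := rfl
  have hcent : Subgroup.normalizer (S : Set K) ≤ Subgroup.centralizer (S : Set K) := by
    intro x hx y hy
    obtain ⟨a, ha⟩ := hy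
    obtain ⟨b, hb⟩ := hself hx
    refine Subtype.ext ?_
    show (y : Γ) * x = x * y
    rw [show (y : Γ) = ι a from ha.symm, show (x : Γ) = ι b from hb.symm, h.comm]
  let O := (MonoidHom.transferSylow S hcent).ker
  have hcompl : O.IsComplement' P := MonoidHom.ker_transferSylow_isComplement' S hcent
  have hON : O.Normal := MonoidHom.normal_ker _
  have hOW : ∀ y ∈ O, ∀ a, (y : Γ) = ι a → y = 1 := fun y hy a ha => by
    have h1 : y ∈ O ⊓ P := ⟨hy, ⟨a, ha.symm⟩⟩
    rw [hcompl.disjoint.eq_bot] at h1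
    exact h1
  -- two elements of a pair have trivial common centraliser in the complement
  have hpair : ∀ a b, q a = 1 → q b = 1 → B a b = 1 → ∀ y ∈ O, (y : Γ) * ι a = ι a * y →
      (y : Γ) * ι b = ι b * y → y = 1 := by
    intro a b ha hb hab y hy e1 e2
    obtain ⟨d, hd'⟩ := h.quat a b ha hb hab y y.2 e1 e2
    exact hOW y hy d hd'.symm
  let conjι : V → K → K := fun a y => ⟨ι a * y * (ι a)⁻¹, h.normal.conj_mem _ y.2 _⟩
  have hconjO : ∀ a, ∀ y ∈ O, conjι a y ∈ O := fun a y hy => by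
    have : conjι a y = (⟨ι a, h.mem a⟩ : K) * y * (⟨ι a, h.mem a⟩ : K)⁻¹ := rfl
    rw [this]; exact hON.conj_mem y hy _
  -- fixed point free conjugation inverts
  have hinv : ∀ (a : V) (C : Subgroup K), (∀ y ∈ C, conjι a y ∈ C) →
      (∀ y ∈ C, (y : Γ) * ι a = ι a * y → y = 1) → ∀ y ∈ C, ι a * (y : Γ) * (ι a)⁻¹ = (y : Γ)⁻¹ := by
    intro a C hC hfree y hy
    let φ : C →* C :=
      { toFun := fun y => ⟨conjι a y, hC y y.2⟩
        map_one' := Subtype.ext (Subtype.ext (by simp [conjι]))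
        map_mul' := fun y y' => Subtype.ext (Subtype.ext (by simp [conjι, mul_assoc])) }
    have hφ : MonoidHom.FixedPointFree ⇑φ := fun y hy => Subtype.ext (hfree y y.2 (by
      have e : ι a * ((y : K) : Γ) * (ι a)⁻¹ = ((y : K) : Γ) := congrArg (fun t : C => ((t : K) : Γ)) hy
      exact (mul_inv_eq_iff_eq_mul.mp e).symm))
    have hφ2 : Function.Involutive ⇑φ := fun y => Subtype.ext (Subtype.ext (by
      show ι a * (ι a * ((y : K) : Γ) * (ι a)⁻¹) * (ι a)⁻¹ = _
      rw [show ι a * (ι a * ((y : K) : Γ) * (ι a)⁻¹) * (ι a)⁻¹ = (ι a * ι a) * y * (ι a * ι a)⁻¹ by group,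
        h.sq_one, one_mul, inv_one, mul_one]))
    have e := congrFun (MonoidHom.FixedPointFree.coe_eq_inv_of_involutive hφ hφ2) ⟨y, hy⟩
    exact congrArg (fun t : C => ((t : K) : Γ)) e
  have hO : O = ⊥ := by
    have hC1 : ∀ b, q b = 1 → ∀ y ∈ O, (y : Γ) * ι b = ι b * y → y = 1 := by
      intro b hb y hy hyb
      let C : Subgroup K :=
        { carrier := {y | y ∈ O ∧ (y : Γ) * ι b = ι b * y}
          one_mem' := ⟨O.one_mem, by simp⟩
          mul_mem' := fun {x y} hx hy => ⟨O.mul_mem hx.1 hy.1, by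
            show (x : Γ) * y * ι b = ι b * ((x : Γ) * y)
            rw [mul_assoc, hy.2, ← mul_assoc, hx.2, mul_assoc]⟩
          inv_mem' := fun {x} hx => ⟨O.inv_mem hx.1, by
            show (x : Γ)⁻¹ * ι b = ι b * (x : Γ)⁻¹
            rw [inv_mul_eq_iff_eq_mul, ← mul_assoc, hx.2, mul_inv_cancel_right]⟩ }
      have hCinv : ∀ a, q a = 1 → B a b = 1 → ι a * (y : Γ) * (ι a)⁻¹ = (y : Γ)⁻¹ := fun a ha hab =>
        hinv a C (fun w hw => ⟨hconjO a w hw.1, by
            show ι a * (w : Γ) * (ι a)⁻¹ * ι b = ι b * (ι a * (w : Γ) * (ι a)⁻¹)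
            rw [h.inv_self, mul_assoc _ (ι a) (ι b), h.comm a b, ← mul_assoc, mul_assoc (ι a) (w : Γ), hw.2,
              ← mul_assoc, h.comm a b]
            simp only [mul_assoc]⟩)
          (fun w hw e => hpair a b ha hb hab w hw.1 e hw.2) y ⟨hy, hyb⟩
      have hb0 : b ∉ (⊥ : Submodule (ZMod 2) V) := by
        rw [Submodule.mem_bot]; rintro rfl; rw [map_zero] at hb; exact zero_ne_one hb
      have hcentb : ∀ z, B z b = 0 → (y : Γ) * ι z = ι z * y := by
        intro z hzb
        rcases eq_or_ne b z with rfl | hne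
        · exact hyb
        have hbz : b ∉ Submodule.span (ZMod 2) {z} := by
          intro hm
          obtain ⟨c₁, hc₁⟩ := Submodule.mem_span_singleton.mp hm
          rcases two_cases c₁ with rfl | rfl
          · rw [zero_smul] at hc₁; exact hb0 (hc₁ ▸ Submodule.zero_mem _)
          · rw [one_smul] at hc₁; exact hne hc₁.symm
        obtain ⟨w₀, hw₀z, hw₀b⟩ := hQ.exists_sep hbz
        -- a partner with product prescribed by `z`
        obtain ⟨w₁, hw₁b, hw₁z⟩ : ∃ w₁, B w₁ b = 1 ∧ B w₁ z = q z := by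
          rcases two_cases (q z) with e | e
          · exact ⟨w₀, hw₀b, by rw [e, hw₀z z (Submodule.mem_span_singleton_self z)]⟩
          · have hzb' : z ∉ Submodule.span (ZMod 2) {b} := by
              intro hm
              obtain ⟨c₁, hc₁⟩ := Submodule.mem_span_singleton.mp hm
              rcases two_cases c₁ with rfl | rfl
              · rw [zero_smul] at hc₁; rw [← hc₁, map_zero] at e; exact zero_ne_one e
              · rw [one_smul] at hc₁; exact hne hc₁
            obtain ⟨w₂, hw₂b, hw₂z⟩ := hQ.exists_sep hzb'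
            refine ⟨w₀ + w₂, ?_, ?_⟩
            · rw [map_add, LinearMap.add_apply, hw₀b, hw₂b b (Submodule.mem_span_singleton_self b), add_zero]
            · rw [map_add, LinearMap.add_apply, hw₀z z (Submodule.mem_span_singleton_self z), hw₂z, zero_add, e]
        obtain ⟨a, ha, haS⟩ := hQ.exists_ns (S := Submodule.span (ZMod 2) ({b, z} : Set V)) w₁
          (Or.inl (by have := QSpace.span_two b z; omega))
        have hab : B a b = 1 := by rw [haS b (Submodule.subset_span (by simp)), hw₁b]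
        have haz : B a z = q z := by rw [haS z (Submodule.subset_span (by simp)), hw₁z]
        have e1 := hCinv a ha hab
        have e2 := hCinv (a + z) (by
          rw [QSpace.map_add', ha, haz, add_assoc, CharTwo.add_self_eq_zero, add_zero])
          (by rw [map_add, LinearMap.add_apply, hab, hzb, add_zero])
        rw [← e1, h.add, h.inv_self, ← h.inv_self a, mul_inv_rev, h.inv_self z, h.inv_self a] at e2
        have e3 : ι z * (y : Γ) * ι z = (y : Γ) := by
          refine mul_left_cancel (a := ι a) (mul_right_cancel (b := ι a) ?_)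
          simp only [← mul_assoc, h.inv_self] at e2 ⊢
          exact e2
        have e4 := congrArg (fun t => ι z * t) e3
        simp only [← mul_assoc, h.sq_one, one_mul] at e4
        exact e4
      -- a pair orthogonal to `b`
      obtain ⟨w, -, hwb⟩ := hQ.exists_sep hb0
      obtain ⟨z₁, hz₁, hz₁S⟩ := hQ.exists_ns (S := Submodule.span (ZMod 2) ({b, w} : Set V)) 0
        (Or.inl (by have := QSpace.span_two b w; omega))
      have hz₁b : B z₁ b = 0 := by
        rw [hz₁S b (Submodule.subset_span (by simp)), map_zero, LinearMap.zero_apply]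
      have hz₁s : z₁ ∉ Submodule.span (ZMod 2) {b} := by
        intro hm
        obtain ⟨c₁, hc₁⟩ := Submodule.mem_span_singleton.mp hm
        rcases two_cases c₁ with rfl | rfl
        · rw [zero_smul] at hc₁; rw [← hc₁, map_zero] at hz₁; exact zero_ne_one hz₁
        · rw [one_smul] at hc₁
          have hw0 := hz₁S w (Submodule.subset_span (by simp))
          rw [← hc₁, map_zero, LinearMap.zero_apply, QSpace.bil_comm, hwb] at hw0
          exact one_ne_zero hw0
      obtain ⟨w₂, hw₂b, hw₂z⟩ := hQ.exists_sep hz₁s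
      obtain ⟨z₂, hz₂, hz₂S⟩ := hQ.exists_ns (S := Submodule.span (ZMod 2) ({b, z₁} : Set V)) w₂
        (Or.inl (by have := QSpace.span_two b z₁; omega))
      have hz₂b : B z₂ b = 0 := by
        rw [hz₂S b (Submodule.subset_span (by simp)), hw₂b b (Submodule.mem_span_singleton_self b)]
      have hz₁z₂ : B z₁ z₂ = 1 := by
        rw [QSpace.bil_comm, hz₂S z₁ (Submodule.subset_span (by simp)), hw₂z]
      exact hpair z₁ z₂ hz₁ hz₂ hz₁z₂ y hy (hcentb z₁ hz₁b) (hcentb z₂ hz₂b)
    refine (Subgroup.eq_bot_iff_forall _).mpr fun y hy => ?_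
    have hbot : finrank (ZMod 2) (⊥ : Submodule (ZMod 2) V) = 0 := finrank_bot _ _
    obtain ⟨a, ha, -⟩ := hQ.exists_ns (S := ⊥) 0 (Or.inl (by omega))
    have ha0 : a ∉ (⊥ : Submodule (ZMod 2) V) := by
      rw [Submodule.mem_bot]; rintro rfl; rw [map_zero] at ha; exact zero_ne_one ha
    obtain ⟨b₀, -, hb₀⟩ := hQ.exists_sep ha0
    obtain ⟨b, hb, hbS⟩ := hQ.exists_ns (S := Submodule.span (ZMod 2) {a}) b₀ (Or.inl (by
      have := finrank_span_le_card (R := ZMod 2) ({a} : Set V)
      simp at this; omega))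
    have hab : B a b = 1 := by
      rw [QSpace.bil_comm, hbS a (Submodule.mem_span_singleton_self a), hb₀]
    have hc : q (a + b) = 1 := by rw [QSpace.map_add', ha, hb, hab]; rfl
    have i1 := hinv a O (hconjO a) (hC1 a ha) y hy
    have i2 := hinv b O (hconjO b) (hC1 b hb) y hy
    have i3 := hinv (a + b) O (hconjO (a + b)) (hC1 (a + b) hc) y hy
    have e : ι (a + b) * (y : Γ) * (ι (a + b))⁻¹ = (y : Γ) := by
      calc ι (a + b) * (y : Γ) * (ι (a + b))⁻¹ = ι a * (ι b * (y : Γ) * (ι b)⁻¹) * (ι a)⁻¹ := by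
            rw [h.add]; group
        _ = ι a * (y : Γ)⁻¹ * (ι a)⁻¹ := by rw [i2]
        _ = (ι a * (y : Γ) * (ι a)⁻¹)⁻¹ := by group
        _ = (y : Γ) := by rw [i1, inv_inv]
    exact hC1 (a + b) hc y hy (mul_inv_eq_iff_eq_mul.mp e).symm
  have h1 := hcompl.card_mul
  rw [hO, Subgroup.card_bot, one_mul] at h1
  have htop : P = ⊤ := Subgroup.eq_top_of_card_eq P h1
  have : (⟨k, hk⟩ : K) ∈ P := htop ▸ Subgroup.mem_top _
  obtain ⟨d, hd'⟩ := this
  exact ⟨d, hd'⟩

end SelfHyp

end Cfsg.Agent.Lib.SympCent35
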