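import Mathlib
import Cfsg.Agent.Lib.SympCent35.Lifts
import Cfsg.Agent.Lib.SympCent35.Self

/-!
The elements of an overgroup acting trivially on one eigenspace of an involution of the group of symplectic
type are those of the group restricted to the other eigenspace.
-/

set_option autoImplicit false
set_option linter.unusedSectionVars false
set_option linter.style.haveILetI false

namespace Cfsg.Agent.Lib.SympCent35

open Module
open QSpace (tr tt)
open scoped commutatorElement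

/-- An overgroup in which the centraliser of a quaternion subgroup normalises the group. -/
structure Over (F : Type*) [Field F] {𝔸 : Type*} [Ring 𝔸] [Algebra F 𝔸] [Nontrivial 𝔸]
    (R : Subgroup 𝔸ˣ) (adj : 𝔸 → 𝔸) (U G₀ M : Subgroup 𝔸ˣ) : Prop where
  amb : Amb F R adj U G₀
  le : M ≤ U
  mem : ∀ g ∈ G₀, g ∈ Subgroup.normalizer (R : Set 𝔸ˣ) → g ∈ M
  plus : 10 ≤ finrank (ZMod 2) amb.frame.A ∨
    ∃ T : Submodule (ZMod 2) amb.frame.A,
      2 * finrank (ZMod 2) T = finrank (ZMod 2) amb.frame.A ∧ ∀ x ∈ T, amb.frame.q x = 0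
  quat : ∀ b₁ ∈ R, ∀ b₂ ∈ R, b₁ * b₁ = -1 → b₂ * b₂ = -1 → anti b₁ b₂ = 1 →
    ∀ g ∈ M, g * b₁ = b₁ * g → g * b₂ = b₂ * g →
      ∀ x ∈ R, anti x b₁ = 0 → anti x b₂ = 0 → g * x * g⁻¹ ∈ R

variable {F : Type*} [Field F] {𝔸 : Type*} [Ring 𝔸] [Algebra F 𝔸] [Nontrivial 𝔸]

/-- The element acting as `g` on one eigenspace of `s` and trivially on the other. -/
def blkVal (F : Type*) [Field F] [Algebra F 𝔸] (s g : 𝔸ˣ) : 𝔸 := (g : 𝔸) * ep F s + em F s

open Classical in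
/-- The same as a unit. -/
noncomputable def blk (F : Type*) [Field F] [Algebra F 𝔸] (s g : 𝔸ˣ) : 𝔸ˣ :=
  if h : ∃ u : 𝔸ˣ, (u : 𝔸) = blkVal F s g then h.choose else 1

namespace Over

variable {R : Subgroup 𝔸ˣ} {adj : 𝔸 → 𝔸} {U G₀ M : Subgroup 𝔸ˣ} (h : Over F R adj U G₀ M)

include h

theorem R_le : R ≤ M := fun x hx => h.mem x (h.amb.R_le hx) (Subgroup.le_normalizer hx)

variable {s : 𝔸ˣ} (hs : s ∈ R) (hs2 : s * s = 1)
include hs hs2

theorem val_sq : (s : 𝔸) * s = 1 := by rw [← Units.val_mul, hs2, Units.val_one]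

theorem ep_add_em : ep F s + em F s = 1 := by
  rw [ep, em, ← smul_add, add_add_sub_cancel]
  exact h.amb.half_smul_two 1

theorem ep_mul_s : ep F s * s = ep F s := by
  rw [ep, smul_mul_assoc, add_mul, one_mul, h.val_sq hs hs2, add_comm]

theorem em_mul_s : em F s * s = -em F s := by
  rw [em, smul_mul_assoc, sub_mul, one_mul, h.val_sq hs hs2, ← neg_sub, smul_neg]

theorem ep_mul_ep : ep F s * ep F s = ep F s := by
  conv_lhs => arg 2; rw [ep]
  rw [mul_smul_comm, mul_add, mul_one, h.ep_mul_s hs hs2, h.amb.half_smul_two]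

theorem ep_mul_em : ep F s * em F s = 0 := by
  conv_lhs => arg 2; rw [em]
  rw [mul_smul_comm, mul_sub, mul_one, h.ep_mul_s hs hs2, sub_self, smul_zero]

theorem em_mul_ep : em F s * ep F s = 0 := by
  conv_lhs => arg 2; rw [ep]
  rw [mul_smul_comm, mul_add, mul_one, h.em_mul_s hs hs2, add_neg_cancel, smul_zero]

theorem em_mul_em : em F s * em F s = em F s := by
  conv_lhs => arg 2; rw [em]
  rw [mul_smul_comm, mul_sub, mul_one, h.em_mul_s hs hs2, sub_neg_eq_add, h.amb.half_smul_two]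

theorem ep_sub_em : ep F s - em F s = (s : 𝔸) := by
  rw [ep, em, ← smul_sub, add_sub_sub_cancel]
  exact h.amb.half_smul_two _

theorem commute_ep {g : 𝔸ˣ} (hg : g * s = s * g) : ep F s * (g : 𝔸) = (g : 𝔸) * ep F s := by
  rw [ep, smul_mul_assoc, mul_smul_comm, add_mul, mul_add, one_mul, mul_one, ← Units.val_mul, ← hg, Units.val_mul]

theorem commute_em {g : 𝔸ˣ} (hg : g * s = s * g) : em F s * (g : 𝔸) = (g : 𝔸) * em F s := by
  rw [em, smul_mul_assoc, mul_smul_comm, sub_mul, mul_sub, one_mul, mul_one, ← Units.val_mul, ← hg, Units.val_mul]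

theorem swap_ep {x : 𝔸ˣ} (hx : x ∈ R) (hxs : anti x s = 1) : ep F s * (x : 𝔸) = (x : 𝔸) * em F s := by
  rw [ep, em, smul_mul_assoc, mul_smul_comm, add_mul, mul_sub, one_mul, mul_one]
  congr 1
  rw [← Units.val_mul, ← Units.val_mul, (h.amb.frame.anti_one hx hs).mp hxs, Units.val_neg, sub_neg_eq_add]

theorem swap_em {x : 𝔸ˣ} (hx : x ∈ R) (hxs : anti x s = 1) : em F s * (x : 𝔸) = (x : 𝔸) * ep F s := by
  rw [ep, em, smul_mul_assoc, mul_smul_comm, sub_mul, mul_add, one_mul, mul_one]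
  congr 1
  rw [← Units.val_mul, ← Units.val_mul, (h.amb.frame.anti_one hx hs).mp hxs, Units.val_neg, ← sub_eq_add_neg]

theorem blkVal_mul {g g' : 𝔸ˣ} (hg : g * s = s * g) (hg' : g' * s = s * g') :
    blkVal F s g * blkVal F s g' = blkVal F s (g * g') := by
  unfold blkVal
  rw [add_mul, mul_add, mul_add, Units.val_mul, mul_assoc (g : 𝔸) (ep F s) ((g' : 𝔸) * ep F s),
    ← mul_assoc (ep F s), h.commute_ep hs hs2 hg', mul_assoc (g' : 𝔸), h.ep_mul_ep hs hs2,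
    mul_assoc (g : 𝔸) (ep F s) (em F s), h.ep_mul_em hs hs2, mul_zero, ← mul_assoc (em F s),
    h.commute_em hs hs2 hg', mul_assoc (g' : 𝔸), h.em_mul_ep hs hs2, mul_zero, h.em_mul_em hs hs2,
    add_zero, zero_add, mul_assoc]

theorem blkVal_one : blkVal F s 1 = 1 := by
  rw [blkVal, Units.val_one, one_mul, h.ep_add_em hs hs2]

theorem blk_val {g : 𝔸ˣ} (hg : g * s = s * g) : ((blk F s g : 𝔸ˣ) : 𝔸) = blkVal F s g := by
  have hg' : g⁻¹ * s = s * g⁻¹ := (inv_mul_eq_iff_eq_mul).mpr (by rw [← mul_assoc, hg, mul_inv_cancel_right])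
  have hex : ∃ u : 𝔸ˣ, (u : 𝔸) = blkVal F s g := ⟨⟨blkVal F s g, blkVal F s g⁻¹,
    by rw [h.blkVal_mul hs hs2 hg hg', mul_inv_cancel, h.blkVal_one hs hs2],
    by rw [h.blkVal_mul hs hs2 hg' hg, inv_mul_cancel, h.blkVal_one hs hs2]⟩, rfl⟩
  unfold blk; rw [dif_pos hex]; exact hex.choose_spec

theorem blk_mul {g g' : 𝔸ˣ} (hg : g * s = s * g) (hg' : g' * s = s * g') :
    blk F s (g * g') = blk F s g * blk F s g' := by
  refine Units.ext ?_
  rw [Units.val_mul, h.blk_val hs hs2 hg, h.blk_val hs hs2 hg', h.blkVal_mul hs hs2 hg hg', h.blk_val hs hs2]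
  rw [mul_assoc, hg', ← mul_assoc, hg, mul_assoc]

theorem blk_one : blk F s 1 = 1 := Units.ext (by
  rw [h.blk_val hs hs2 (by rw [one_mul, mul_one]), h.blkVal_one hs hs2, Units.val_one])

theorem blk_inv {g : 𝔸ˣ} (hg : g * s = s * g) : blk F s g⁻¹ = (blk F s g)⁻¹ := by
  refine eq_inv_of_mul_eq_one_left ?_
  rw [← h.blk_mul hs hs2 ((inv_mul_eq_iff_eq_mul).mpr (by rw [← mul_assoc, hg, mul_inv_cancel_right])) hg,
    inv_mul_cancel, h.blk_one hs hs2]

theorem blk_self : blk F s s = 1 := Units.ext (by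
  rw [h.blk_val hs hs2 rfl, blkVal, ← h.commute_ep hs hs2 rfl, h.ep_mul_s hs hs2, h.ep_add_em hs hs2,
    Units.val_one])

theorem blk_neg_one : blk F s (-1) = -s := Units.ext (by
  rw [h.blk_val hs hs2 (by simp), blkVal, Units.val_neg, Units.val_one, neg_one_mul, Units.val_neg,
    ← h.ep_sub_em hs hs2, neg_sub, neg_add_eq_sub])

theorem blk_neg {g : 𝔸ˣ} (hg : g * s = s * g) : blk F s (-g) = -s * blk F s g := by
  rw [← neg_one_mul, h.blk_mul hs hs2 (by simp) hg, h.blk_neg_one hs hs2]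

theorem blk_comm {g : 𝔸ˣ} (hg : g * s = s * g) : blk F s g * s = s * blk F s g := by
  refine Units.ext ?_
  rw [Units.val_mul, Units.val_mul, h.blk_val hs hs2 hg, blkVal, add_mul, mul_add, mul_assoc,
    ← mul_assoc (s : 𝔸), ← Units.val_mul s g, ← hg, Units.val_mul, mul_assoc,
    h.commute_ep hs hs2 rfl, h.commute_em hs hs2 rfl]

theorem blk_conj {g x : 𝔸ˣ} (hg : g * s = s * g) (hx : x * s = s * x) :
    g * blk F s x * g⁻¹ = blk F s (g * x * g⁻¹) := by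
  have hg' : g⁻¹ * s = s * g⁻¹ := (inv_mul_eq_iff_eq_mul).mpr (by rw [← mul_assoc, hg, mul_inv_cancel_right])
  have hc : (g * x * g⁻¹) * s = s * (g * x * g⁻¹) := by
    rw [mul_assoc, hg', ← mul_assoc, mul_assoc g x s, hx, ← mul_assoc, hg]; simp only [mul_assoc]
  refine mul_inv_eq_iff_eq_mul.mpr (Units.ext ?_)
  rw [Units.val_mul, Units.val_mul, h.blk_val hs hs2 hx, h.blk_val hs hs2 hc, blkVal, blkVal, mul_add, add_mul,
    ← mul_assoc, mul_assoc _ (ep F s) (g : 𝔸), h.commute_ep hs hs2 hg, ← mul_assoc, h.commute_em hs hs2 hg]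
  congr 2
  rw [← Units.val_mul, ← Units.val_mul, inv_mul_cancel_right]

theorem blk_mem_U {g : 𝔸ˣ} (hg : g * s = s * g) (hgU : g ∈ U) : blk F s g ∈ U := by
  have a1 : adj (ep F s) = ep F s := by
    rw [ep, h.amb.adj_smul, h.amb.adj_add, h.amb.adj_one, h.amb.adj_mem s hs, inv_eq_of_mul_eq_one_right hs2]
  have a2 : adj (em F s) = em F s := by
    rw [em, h.amb.adj_smul, h.amb.adj_sub, h.amb.adj_one, h.amb.adj_mem s hs, inv_eq_of_mul_eq_one_right hs2]
  have hg' : g⁻¹ * s = s * g⁻¹ := (inv_mul_eq_iff_eq_mul).mpr (by rw [← mul_assoc, hg, mul_inv_cancel_right])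
  rw [h.amb.mem_U, h.blk_val hs hs2 hg]
  have e : adj (blkVal F s g) = blkVal F s g⁻¹ := by
    rw [blkVal, h.amb.adj_add, h.amb.adj_mul, a1, a2, h.amb.adj_U hgU, h.commute_ep hs hs2 hg', blkVal]
  rw [e, h.blkVal_mul hs hs2 hg' hg, inv_mul_cancel, h.blkVal_one hs hs2]

variable (hs0 : h.amb.frame.cls s ≠ 0)

theorem comm_of_anti {x : 𝔸ˣ} (hxs : anti x s = 0) : x * s = s * x := anti_eq_zero.mp hxs

include hs0

theorem exists_swap : ∃ r ∈ R, anti r s = 1 := by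
  haveI := h.amb.finA
  obtain ⟨v, -, hv⟩ := h.amb.frame.qspace.exists_sep (S := ⊥) (u := h.amb.frame.cls s) (by
    haveI := h.amb.finA
    rw [Submodule.mem_bot]; exact hs0)
  obtain ⟨r, hr, rfl⟩ := h.amb.frame.cls_surj v
  exact ⟨r, hr, by rw [← h.amb.frame.bil_cls hr hs, hv]⟩

theorem ep_ne_zero : ep F s ≠ 0 := by
  obtain ⟨r, hr, hrs⟩ := h.exists_swap hs hs2 hs0
  intro e
  have e2 : em F s = 0 := by
    have h1 := h.swap_ep hs hs2 hr hrs
    rw [e, zero_mul] at h1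
    exact r.isUnit.mul_right_eq_zero.mp h1.symm
  have := h.ep_add_em hs hs2
  rw [e, e2, add_zero] at this
  exact zero_ne_one this

theorem em_ne_zero : em F s ≠ 0 := by
  obtain ⟨r, hr, hrs⟩ := h.exists_swap hs hs2 hs0
  intro e
  have e2 : ep F s = 0 := by
    have h1 := h.swap_em hs hs2 hr hrs
    rw [e, zero_mul] at h1
    exact r.isUnit.mul_right_eq_zero.mp h1.symm
  exact h.ep_ne_zero hs hs2 hs0 e2

theorem neg_ne_one : (-s : 𝔸ˣ) ≠ 1 := fun e =>
  hs0 ((h.amb.frame.cls_eq_zero hs).mpr (Or.inr (by rw [← e, neg_neg])))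

/-- The restriction is injective up to `s`. -/
theorem blk_eq_one {w : 𝔸ˣ} (hw : w ∈ R) (hws : anti w s = 0) (e : blk F s w = 1) : w = 1 ∨ w = s := by
  have hP : (w : 𝔸) * ep F s = ep F s := by
    have e1 := congrArg (fun u : 𝔸ˣ => (u : 𝔸)) e
    rw [h.blk_val hs hs2 (anti_eq_zero.mp hws), blkVal, Units.val_one, ← h.ep_add_em hs hs2] at e1
    exact add_right_cancel e1
  by_cases hmem : h.amb.frame.cls w ∈ Submodule.span (ZMod 2) {h.amb.frame.cls s}
  · have hz : ∀ t : 𝔸ˣ, (t : 𝔸) * ep F s = ep F s → -t = w → False := by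
      intro t ht htw
      rw [← htw, Units.val_neg, neg_mul, ht] at hP
      refine h.ep_ne_zero hs hs2 hs0 ?_
      rw [← h.amb.half_smul_two (ep F s)]
      nth_rewrite 1 [← hP]
      rw [neg_add_cancel, smul_zero]
    obtain ⟨c, hc⟩ := Submodule.mem_span_singleton.mp hmem
    rcases two_cases c with rfl | rfl
    · rw [zero_smul] at hc
      rcases (h.amb.frame.cls_eq_zero hw).mp hc.symm with rfl | rfl
      · exact Or.inl rfl
      · exact (hz 1 (by rw [Units.val_one, one_mul]) rfl).elim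
    · rw [one_smul] at hc
      rcases (h.amb.frame.cls_eq_iff hw hs).mp hc.symm with rfl | rfl
      · exact Or.inr rfl
      · exact (hz s (by rw [← h.commute_ep hs hs2 rfl, h.ep_mul_s hs hs2]) rfl).elim
  · exfalso
    haveI := h.amb.finA
    obtain ⟨v, hvs, hvw⟩ := h.amb.frame.qspace.exists_sep hmem
    obtain ⟨x, hx, rfl⟩ := h.amb.frame.cls_surj v
    have hxs : anti x s = 0 := by
      rw [← h.amb.frame.bil_cls hx hs, hvs _ (Submodule.mem_span_singleton_self _)]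
    have hxw : anti w x = 1 := by rw [anti_comm, ← h.amb.frame.bil_cls hx hw, hvw]
    have e1 : (w : 𝔸) * x = -((x : 𝔸) * w) := by
      rw [← Units.val_mul, (h.amb.frame.anti_one hw hx).mp hxw, Units.val_neg, Units.val_mul]
    have e2 : (x : 𝔸) * ep F s = 0 := by
      have l : ep F s * (x : 𝔸) = -((x : 𝔸) * ep F s) := by
        conv_lhs => rw [← hP]
        rw [mul_assoc, h.commute_ep hs hs2 (anti_eq_zero.mp hxs), ← mul_assoc, e1, neg_mul, mul_assoc, hP]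
      rw [h.commute_ep hs hs2 (anti_eq_zero.mp hxs)] at l
      rw [← h.amb.half_smul_two ((x : 𝔸) * ep F s)]
      nth_rewrite 1 [l]
      rw [neg_add_cancel, smul_zero]
    exact h.ep_ne_zero hs hs2 hs0 (x.isUnit.mul_right_eq_zero.mp e2)

/-- The restrictions normalise `R`. -/
theorem blk_normalizes {w : 𝔸ˣ} (hw : w ∈ R) (hws : anti w s = 0) :
    blk F s w ∈ Subgroup.normalizer (R : Set 𝔸ˣ) := by
  haveI := h.amb.finite
  refine Subgroup.mem_normalizer_fintype fun x hx => ?_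
  have hwv := h.blk_val hs hs2 (anti_eq_zero.mp hws)
  suffices ∃ y ∈ R, (blk F s w : 𝔸) * x = (y : 𝔸) * blk F s w by
    obtain ⟨y, hy, e⟩ := this
    have : blk F s w * x * (blk F s w)⁻¹ = y := mul_inv_eq_iff_eq_mul.mpr (Units.ext e)
    rw [this]; exact hy
  rcases two_cases (anti x s) with hxs | hxs
  · have c1 := h.commute_ep hs hs2 (anti_eq_zero.mp hxs)
    have c2 := h.commute_em hs hs2 (anti_eq_zero.mp hxs)
    rcases two_cases (anti w x) with e | e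
    · refine ⟨x, hx, ?_⟩
      rw [hwv, blkVal, add_mul, mul_add, mul_assoc, c1, ← mul_assoc, c2, ← mul_assoc]
      congr 2
      rw [← Units.val_mul, ← Units.val_mul, anti_eq_zero.mp e]
    · refine ⟨-(s * x), h.amb.frame.neg_mem' (R.mul_mem hs hx), ?_⟩
      have e1 : (w : 𝔸) * x = -((x : 𝔸) * w) := by
        rw [← Units.val_mul, (h.amb.frame.anti_one hw hx).mp e, Units.val_neg, Units.val_mul]
      have hsw : (s : 𝔸) * ((x : 𝔸) * w) = (x : 𝔸) * w * s := by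
        rw [← mul_assoc, ← Units.val_mul s x, ← anti_eq_zero.mp hxs, Units.val_mul, mul_assoc,
          ← Units.val_mul s w, ← anti_eq_zero.mp hws, Units.val_mul, mul_assoc]
      rw [hwv, blkVal, add_mul, mul_assoc, c1, ← mul_assoc, c2, e1, Units.val_neg, Units.val_mul, neg_mul,
        neg_mul, mul_add, neg_add]
      congr 1
      · rw [← mul_assoc _ _ (ep F s), mul_assoc (s : 𝔸), hsw, mul_assoc ((x : 𝔸) * w) (s : 𝔸),
          h.commute_ep hs hs2 rfl |>.symm, h.ep_mul_s hs hs2]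
      · rw [mul_assoc, ← c2, ← mul_assoc, ← h.commute_em hs hs2 rfl, h.em_mul_s hs hs2, neg_mul, neg_neg, c2]
  · have hwx : w * x ∈ R := R.mul_mem hw hx
    have c1 := h.swap_ep hs hs2 hx hxs
    have c2 := h.swap_em hs hs2 hx hxs
    -- `w x w = σ x`
    obtain ⟨c, hc⟩ : ∃ c : ZMod 2, w * x * w = sgn c * x := by
      refine ⟨anti w x + sqc w, ?_⟩
      rw [h.amb.frame.comm_eq hw hx, mul_assoc, mul_assoc x, h.amb.frame.sq_eq hw, ← sgn_comm _ x,
        ← mul_assoc, ← sgn_add]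
    rcases two_cases c with rfl | rfl
    · refine ⟨w * x, hwx, ?_⟩
      rw [sgn_zero, one_mul] at hc
      have hc' : (w : 𝔸) * x * w = x := by rw [← Units.val_mul, ← Units.val_mul, hc]
      rw [hwv, blkVal, add_mul, mul_add, mul_assoc, c1, c2, ← mul_assoc, Units.val_mul, ← mul_assoc, hc', add_comm]
    · refine ⟨-(w * x * s), h.amb.frame.neg_mem' (R.mul_mem hwx hs), ?_⟩
      rw [sgn_one, neg_one_mul] at hc
      have hc' : (w : 𝔸) * x * w = -(x : 𝔸) := by rw [← Units.val_mul, ← Units.val_mul, hc, Units.val_neg]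
      have s1 : (s : 𝔸) * ((w : 𝔸) * ep F s) = (w : 𝔸) * ep F s := by
        rw [← mul_assoc, ← Units.val_mul s w, ← anti_eq_zero.mp hws, Units.val_mul, mul_assoc,
          ← h.commute_ep hs hs2 rfl, h.ep_mul_s hs hs2]
      have s2 : (s : 𝔸) * em F s = -em F s := by rw [← h.commute_em hs hs2 rfl, h.em_mul_s hs hs2]
      rw [hwv, blkVal, add_mul, mul_assoc, c1, c2, Units.val_neg, Units.val_mul, Units.val_mul, neg_mul,
        mul_assoc _ (s : 𝔸), mul_add (s : 𝔸), s1, s2, mul_add, neg_add, mul_neg, neg_neg, ← mul_assoc,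
        ← mul_assoc, hc', neg_mul, neg_neg, add_comm]

theorem blk_mem_G {w : 𝔸ˣ} (hw : w ∈ R) (hws : anti w s = 0) : blk F s w ∈ G₀ := by
  have key : ∀ c ∈ R, anti c s = 0 → c * c = -1 → blk F s c ∈ G₀ := by
    intro c hc hcs hc2
    have hne : h.amb.frame.cls c ∉ Submodule.span (ZMod 2) {h.amb.frame.cls s} := by
      intro hm
      have hqc : h.amb.frame.q (h.amb.frame.cls c) = 1 := by
        rw [h.amb.frame.q_cls hc, h.amb.frame.sqc_one hc, hc2]
      obtain ⟨c₁, hc₁⟩ := Submodule.mem_span_singleton.mp hm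
      rcases two_cases c₁ with rfl | rfl
      · rw [zero_smul] at hc₁; rw [← hc₁, QuadraticMap.map_zero] at hqc; exact zero_ne_one hqc
      · rw [one_smul] at hc₁
        rw [← hc₁, h.amb.frame.q_cls hs, (h.amb.frame.sqc_zero hs).mpr hs2] at hqc
        exact zero_ne_one hqc
    obtain ⟨x, hx, e, he, he2, hxc, hxs, -, hes, hex⟩ := h.amb.exists_partner hs hc hcs hne
    obtain ⟨g, hg, hgv⟩ := h.amb.exists_pair hc he hc2 he2
    have hgs : g * s = s * g := h.amb.pair_comm hgv (anti_eq_zero.mp hcs).symm (anti_eq_zero.mp hes).symm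
    have hxs' := anti_eq_zero.mp hxs
    have hgi : g⁻¹ * s = s * g⁻¹ := (inv_mul_eq_iff_eq_mul).mpr (by rw [← mul_assoc, hgs, mul_inv_cancel_right])
    have hxi : x⁻¹ * s = s * x⁻¹ := (inv_mul_eq_iff_eq_mul).mpr (by rw [← mul_assoc, hxs', mul_inv_cancel_right])
    rw [← h.amb.eq_commutator hc hx hc2 hxc hex hgv]
    have e1 : blk F s ⁅g, x⁆ = ⁅blk F s g, blk F s x⁆ := by
      have h1 : g * x * s = s * (g * x) := by rw [mul_assoc, hxs', ← mul_assoc, hgs, mul_assoc]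
      have h2 : g * x * g⁻¹ * s = s * (g * x * g⁻¹) := by rw [mul_assoc, hgi, ← mul_assoc, h1]; simp only [mul_assoc]
      rw [commutatorElement_def, commutatorElement_def, h.blk_mul hs hs2 h2 hxi, h.blk_mul hs hs2 h1 hgi,
        h.blk_mul hs hs2 hgs hxs', h.blk_inv hs hs2 hgs, h.blk_inv hs hs2 hxs']
    rw [e1]
    exact h.amb.comm_le (Subgroup.commutator_mem_commutator (h.blk_mem_U hs hs2 hgs hg)
      (h.blk_mem_U hs hs2 hxs' (h.amb.R_le_U hx)))
  rcases h.amb.frame.sq w hw with e | e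
  · obtain ⟨c, hc, d, hd, hc2, hd2, hcs, hds, rfl⟩ := h.amb.exists_factor hw hs hws e
    rw [h.blk_mul hs hs2 (anti_eq_zero.mp hcs) (anti_eq_zero.mp hds)]
    exact G₀.mul_mem (key c hc hcs hc2) (key d hd hds hd2)
  · exact key w hw hws e

theorem blk_mem {w : 𝔸ˣ} (hw : w ∈ R) (hws : anti w s = 0) : blk F s w ∈ M :=
  h.mem _ (h.blk_mem_G hs hs2 hs0 hw hws) (h.blk_normalizes hs hs2 hs0 hw hws)

theorem blk_mul_em {g : 𝔸ˣ} (hg : g * s = s * g) : ((blk F s g : 𝔸ˣ) : 𝔸) * em F s = em F s := by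
  rw [h.blk_val hs hs2 hg, blkVal, add_mul, mul_assoc, h.ep_mul_em hs hs2, mul_zero, zero_add, h.em_mul_em hs hs2]

theorem comm_of_fix {m : 𝔸ˣ} (hm : m ∈ M) (hmN : (m : 𝔸) * em F s = em F s) : m * s = s * m := by
  have a2 : adj (em F s) = em F s := by
    rw [em, h.amb.adj_smul, h.amb.adj_sub, h.amb.adj_one, h.amb.adj_mem s hs, inv_eq_of_mul_eq_one_right hs2]
  have e1 : ((m⁻¹ : 𝔸ˣ) : 𝔸) * em F s = em F s := by
    conv_lhs => rw [← hmN, ← mul_assoc, Units.inv_mul, one_mul]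
  have e2 : em F s * (m : 𝔸) = em F s := by
    have e3 := congrArg adj hmN
    rw [h.amb.adj_mul, a2, h.amb.adj_U (h.le hm)] at e3
    conv_lhs => rw [← e3]
    rw [mul_assoc, Units.inv_mul, mul_one]
  refine Units.ext ?_
  have hsv : (s : 𝔸) = 1 - (em F s + em F s) := by
    rw [← h.ep_sub_em hs hs2, ← h.ep_add_em hs hs2]; abel
  rw [Units.val_mul, Units.val_mul, hsv, mul_sub, sub_mul, mul_add, add_mul, mul_one, one_mul, hmN, e2]

/-- A normalising element fixing one eigenspace pointwise is a restriction. -/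
theorem of_normalizes {m : 𝔸ˣ} (hm : m ∈ M) (hmN : (m : 𝔸) * em F s = em F s)
    (hn : m ∈ Subgroup.normalizer (R : Set 𝔸ˣ)) : ∃ w ∈ R, anti w s = 0 ∧ m = blk F s w := by
  obtain ⟨r, hr, hrs⟩ := h.exists_swap hs hs2 hs0
  have hms := h.comm_of_fix hs hs2 hs0 hm hmN
  obtain ⟨y, hy, rfl⟩ : ∃ y, y ∈ R ∧ y = m * r * m⁻¹ := ⟨_, (Subgroup.mem_normalizer_iff.mp hn r).mp hr, rfl⟩
  have hw : m * r * m⁻¹ * r⁻¹ ∈ R := R.mul_mem hy (R.inv_mem hr)
  have hys : anti (m * r * m⁻¹) s = 1 := by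
    rw [h.amb.frame.anti_one hy hs]
    have e := (h.amb.frame.anti_one hr hs).mp hrs
    have hmi : m⁻¹ * s = s * m⁻¹ := (inv_mul_eq_iff_eq_mul).mpr (by rw [← mul_assoc, hms, mul_inv_cancel_right])
    rw [mul_assoc, hmi, ← mul_assoc, mul_assoc m r s, e, mul_neg, neg_mul, ← mul_assoc, hms]
    simp only [mul_assoc]
  have hws : anti (m * r * m⁻¹ * r⁻¹) s = 0 := by
    rw [h.amb.frame.anti_mul_left hy (R.inv_mem hr) hs, hys, ← h.amb.frame.bil_cls (R.inv_mem hr) hs,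
      h.amb.frame.cls_inv hr, h.amb.frame.bil_cls hr hs, hrs]
    rfl
  refine ⟨_, hw, hws, Units.ext ?_⟩
  rw [h.blk_val hs hs2 (anti_eq_zero.mp hws), blkVal]
  have hri : anti r⁻¹ s = 1 := by
    rw [← h.amb.frame.bil_cls (R.inv_mem hr) hs, h.amb.frame.cls_inv hr, h.amb.frame.bil_cls hr hs, hrs]
  have e1 : ((m⁻¹ : 𝔸ˣ) : 𝔸) * em F s = em F s := by
    conv_lhs => rw [← hmN, ← mul_assoc, Units.inv_mul, one_mul]
  have e2 : (r : 𝔸) * em F s * ((r⁻¹ : 𝔸ˣ) : 𝔸) = ep F s := by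
    rw [← h.swap_ep hs hs2 hr hrs, mul_assoc, Units.mul_inv, mul_one]
  have e3 : ((r⁻¹ : 𝔸ˣ) : 𝔸) * ep F s = em F s * ((r⁻¹ : 𝔸ˣ) : 𝔸) := (h.swap_em hs hs2 (R.inv_mem hr) hri).symm
  rw [Units.val_mul, Units.val_mul, Units.val_mul, mul_assoc _ _ (ep F s), e3, ← mul_assoc,
    mul_assoc ((m : 𝔸) * (r : 𝔸)), e1, mul_assoc (m : 𝔸) (r : 𝔸), mul_assoc (m : 𝔸), e2,
    ← hmN, ← mul_add, h.ep_add_em hs hs2, mul_one]

/-- An element fixing one eigenspace and centralising a quaternion pair is a restriction. -/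
theorem of_pair {m b₁ b₂ : 𝔸ˣ} (hm : m ∈ M) (hmN : (m : 𝔸) * em F s = em F s) (h1R : b₁ ∈ R) (h2R : b₂ ∈ R)
    (h1 : b₁ * b₁ = -1) (h2 : b₂ * b₂ = -1) (h12 : anti b₁ b₂ = 1)
    (e1 : m * b₁ = b₁ * m) (e2 : m * b₂ = b₂ * m) : ∃ w ∈ R, anti w s = 0 ∧ m = blk F s w := by
  refine h.of_normalizes hs hs2 hs0 hm hmN ?_
  haveI := h.amb.finite
  refine Subgroup.mem_normalizer_fintype fun x hx => ?_
  have h21 : anti b₂ b₁ = 1 := by rw [anti_comm, h12]
  have h11 : anti b₁ b₁ = 0 := anti_eq_zero.mpr rfl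
  have h22 : anti b₂ b₂ = 0 := anti_eq_zero.mpr rfl
  obtain ⟨y, hy, hy1, hy2, hxy⟩ : ∃ y ∈ R, anti y b₁ = 0 ∧ anti y b₂ = 0 ∧
      (x = y ∨ x = y * b₁ ∨ x = y * b₂ ∨ x = y * (b₁ * b₂)) := by
    have hm12 := R.mul_mem h1R h2R
    rcases two_cases (anti x b₁) with a | a <;> rcases two_cases (anti x b₂) with b | b
    · exact ⟨x, hx, a, b, Or.inl rfl⟩
    · refine ⟨x * b₁⁻¹, R.mul_mem hx (R.inv_mem h1R), ?_, ?_, Or.inr (Or.inl (inv_mul_cancel_right x b₁).symm)⟩ <;>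
        rw [h.amb.frame.anti_mul_left hx (R.inv_mem h1R) (by assumption), ← h.amb.frame.bil_cls (R.inv_mem h1R)
          (by assumption), h.amb.frame.cls_inv h1R, h.amb.frame.bil_cls h1R (by assumption)]
      · rw [a, h11, add_zero]
      · rw [b, h12]; rfl
    · refine ⟨x * b₂⁻¹, R.mul_mem hx (R.inv_mem h2R), ?_, ?_,
        Or.inr (Or.inr (Or.inl (inv_mul_cancel_right x b₂).symm))⟩
      · rw [h.amb.frame.anti_mul_left hx (R.inv_mem h2R) h1R, ← h.amb.frame.bil_cls (R.inv_mem h2R) h1R,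
          h.amb.frame.cls_inv h2R, h.amb.frame.bil_cls h2R h1R, a, h21]
        rfl
      · rw [h.amb.frame.anti_mul_left hx (R.inv_mem h2R) h2R, ← h.amb.frame.bil_cls (R.inv_mem h2R) h2R,
          h.amb.frame.cls_inv h2R, h.amb.frame.bil_cls h2R h2R, b, h22, add_zero]
    · refine ⟨x * (b₁ * b₂)⁻¹, R.mul_mem hx (R.inv_mem hm12), ?_, ?_,
        Or.inr (Or.inr (Or.inr (inv_mul_cancel_right x _).symm))⟩
      · rw [h.amb.frame.anti_mul_left hx (R.inv_mem hm12) h1R, ← h.amb.frame.bil_cls (R.inv_mem hm12) h1R,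
          h.amb.frame.cls_inv hm12, h.amb.frame.bil_cls hm12 h1R, h.amb.frame.anti_mul_left h1R h2R h1R,
          a, h11, h21]
        rfl
      · rw [h.amb.frame.anti_mul_left hx (R.inv_mem hm12) h2R, ← h.amb.frame.bil_cls (R.inv_mem hm12) h2R,
          h.amb.frame.cls_inv hm12, h.amb.frame.bil_cls hm12 h2R, h.amb.frame.anti_mul_left h1R h2R h2R,
          b, h22, h12]
        rfl
  have hy' := h.quat b₁ h1R b₂ h2R h1 h2 h12 m hm e1 e2 y hy hy1 hy2
  have k1 : m * b₁ * m⁻¹ = b₁ := mul_inv_eq_iff_eq_mul.mpr e1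
  have k2 : m * b₂ * m⁻¹ = b₂ := mul_inv_eq_iff_eq_mul.mpr e2
  rcases hxy with rfl | rfl | rfl | rfl
  · exact hy'
  · rw [show m * (y * b₁) * m⁻¹ = m * y * m⁻¹ * (m * b₁ * m⁻¹) by group, k1]; exact R.mul_mem hy' h1R
  · rw [show m * (y * b₂) * m⁻¹ = m * y * m⁻¹ * (m * b₂ * m⁻¹) by group, k2]; exact R.mul_mem hy' h2R
  · rw [show m * (y * (b₁ * b₂)) * m⁻¹ = m * y * m⁻¹ * ((m * b₁ * m⁻¹) * (m * b₂ * m⁻¹)) by group, k1, k2]
    exact R.mul_mem hy' (R.mul_mem h1R h2R)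

theorem mul_eq_of_blk {m x : 𝔸ˣ} (hmN : (m : 𝔸) * em F s = em F s) (hms : m * s = s * m) (hxs : x * s = s * x)
    (e : m * blk F s x = blk F s x * m) : m * x = x * m := by
  have e1 : (m : 𝔸) * ((x : 𝔸) * ep F s) = (x : 𝔸) * ep F s * m := by
    have e' := congrArg (fun u : 𝔸ˣ => (u : 𝔸)) e
    simp only [Units.val_mul, h.blk_val hs hs2 hxs, blkVal, mul_add, add_mul, hmN] at e'
    rw [h.commute_em hs hs2 hms, hmN] at e'
    exact add_right_cancel e'
  refine Units.ext ?_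
  rw [Units.val_mul, Units.val_mul]
  have e2 : (m : 𝔸) * ((x : 𝔸) * em F s) = (x : 𝔸) * em F s * m := by
    rw [← h.commute_em hs hs2 hxs, ← mul_assoc, hmN, h.commute_em hs hs2 hxs, mul_assoc,
      h.commute_em hs hs2 hms, hmN]
  calc (m : 𝔸) * x = (m : 𝔸) * ((x : 𝔸) * ep F s) + (m : 𝔸) * ((x : 𝔸) * em F s) := by
        rw [← mul_add, ← mul_add, h.ep_add_em hs hs2, mul_one]
    _ = (x : 𝔸) * m := by rw [e1, e2, ← add_mul, ← mul_add, h.ep_add_em hs hs2, mul_one]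

/-- Up to signs. -/
theorem of_pair_sign {m b₁ b₂ : 𝔸ˣ} (hm : m ∈ M) (hmN : (m : 𝔸) * em F s = em F s) (h1R : b₁ ∈ R) (h2R : b₂ ∈ R)
    (h1s : anti b₁ s = 0) (h2s : anti b₂ s = 0) (h1 : b₁ * b₁ = -1) (h2 : b₂ * b₂ = -1) (h12 : anti b₁ b₂ = 1)
    (e1 : ∃ c : ZMod 2, m * blk F s b₁ = blk F s (sgn c) * (blk F s b₁ * m))
    (e2 : ∃ c : ZMod 2, m * blk F s b₂ = blk F s (sgn c) * (blk F s b₂ * m)) :
    ∃ w ∈ R, anti w s = 0 ∧ m = blk F s w := by
  have hms := h.comm_of_fix hs hs2 hs0 hm hmN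
  obtain ⟨c₁, e1⟩ := e1
  obtain ⟨c₂, e2⟩ := e2
  obtain ⟨w, hw, hws, hw1, hw2⟩ : ∃ w ∈ R, anti w s = 0 ∧ anti w b₁ = c₁ ∧ anti w b₂ = c₂ := by
    have h21 : anti b₂ b₁ = 1 := by rw [anti_comm, h12]
    have h11 : anti b₁ b₁ = 0 := anti_eq_zero.mpr rfl
    have h22 : anti b₂ b₂ = 0 := anti_eq_zero.mpr rfl
    have h1s' : ∀ y : 𝔸ˣ, anti 1 y = 0 := fun y => anti_eq_zero.mpr (by rw [one_mul, mul_one])
    rcases two_cases c₁ with rfl | rfl <;> rcases two_cases c₂ with rfl | rfl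
    · exact ⟨1, R.one_mem, h1s' _, h1s' _, h1s' _⟩
    · exact ⟨b₁, h1R, h1s, h11, h12⟩
    · exact ⟨b₂, h2R, h2s, h21, h22⟩
    · exact ⟨b₁ * b₂, R.mul_mem h1R h2R, by rw [h.amb.frame.anti_mul_left h1R h2R hs, h1s, h2s]; rfl,
        by rw [h.amb.frame.anti_mul_left h1R h2R h1R, h11, h21]; rfl,
        by rw [h.amb.frame.anti_mul_left h1R h2R h2R, h22, h12]; rfl⟩
  have hws' := anti_eq_zero.mp hws
  have hbm := h.blk_mem hs hs2 hs0 hw hws
  let m' := (blk F s w)⁻¹ * m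
  have hm'N : (m' : 𝔸) * em F s = em F s := by
    rw [show m' = (blk F s w)⁻¹ * m from rfl, Units.val_mul, mul_assoc, hmN]
    conv_lhs => rw [← h.blk_mul_em hs hs2 hs0 hws', ← mul_assoc, Units.inv_mul, one_mul]
  have hm's : m' * s = s * m' := h.comm_of_fix hs hs2 hs0 (M.mul_mem (M.inv_mem hbm) hm) hm'N
  have key : ∀ b c, b ∈ R → anti b s = 0 → anti w b = c → m * blk F s b = blk F s (sgn c) * (blk F s b * m) →
      m' * b = b * m' := by
    intro b c hb hbs hwb e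
    refine h.mul_eq_of_blk hs hs2 hs0 hm'N hm's (anti_eq_zero.mp hbs) ?_
    have hsg : ∀ c : ZMod 2, (sgn c : 𝔸ˣ) * s = s * sgn c := fun c => sgn_comm c s
    have e' : blk F s w * blk F s b = blk F s (sgn c) * (blk F s b * blk F s w) := by
      rw [← h.blk_mul hs hs2 hws' (anti_eq_zero.mp hbs), ← h.blk_mul hs hs2 (anti_eq_zero.mp hbs) hws',
        ← h.blk_mul hs hs2 (hsg c) (by rw [mul_assoc, hws', ← mul_assoc, anti_eq_zero.mp hbs, mul_assoc]),
        h.amb.frame.comm_eq hw hb, hwb]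
    show (blk F s w)⁻¹ * m * blk F s b = blk F s b * ((blk F s w)⁻¹ * m)
    rw [mul_assoc, e, inv_mul_eq_iff_eq_mul, ← mul_assoc (blk F s w), e']
    simp only [mul_assoc, mul_inv_cancel_left]
  obtain ⟨w', hw', hw's, e'⟩ := h.of_pair hs hs2 hs0 (M.mul_mem (M.inv_mem hbm) hm) hm'N h1R h2R h1 h2 h12
    (key b₁ c₁ h1R h1s hw1 e1) (key b₂ c₂ h2R h2s hw2 e2)
  refine ⟨w * w', R.mul_mem hw hw', by rw [h.amb.frame.anti_mul_left hw hw' hs, hws, hw's, add_zero], ?_⟩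
  rw [h.blk_mul hs hs2 hws' (anti_eq_zero.mp hw's), ← e']
  exact (mul_inv_cancel_left _ _).symm

end Over

end Cfsg.Agent.Lib.SympCent35
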