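import Mathlib
import Cfsg.Agent.Lib.SympCent35.Proj

/-!
In an overgroup with well-behaved centralisers of quaternion subgroups, the elements trivial on one eigenspace
of an involution of the group are restrictions of elements of the group.
-/

set_option autoImplicit false
set_option linter.unusedSectionVars false
set_option linter.style.haveILetI false

namespace Cfsg.Agent.Lib.SympCent35

open Module
open QSpace (tr tt)

variable {F : Type*} [Field F] {𝔸 : Type*} [Ring 𝔸] [Algebra F 𝔸] [Nontrivial 𝔸]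

namespace Over

variable {R : Subgroup 𝔸ˣ} {adj : 𝔸 → 𝔸} {U G₀ M : Subgroup 𝔸ˣ} (h : Over F R adj U G₀ M)

include h

/-- The elements fixing one eigenspace are restrictions. -/
theorem fix_eq [Finite 𝔸ˣ] {s : 𝔸ˣ} (hs : s ∈ R) (hs2 : s * s = 1) (hs0 : h.amb.frame.cls s ≠ 0)
    {m : 𝔸ˣ} (hm : m ∈ M) (hmN : (m : 𝔸) * em F s = em F s) : ∃ w ∈ R, anti w s = 0 ∧ m = blk F s w := by
  classical
  haveI := h.amb.finA
  obtain ⟨r, hr, hrs⟩ := h.exists_swap hs hs2 hs0
  set Fr := h.amb.frame with hFr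
  set S₀ : Fr.A := Fr.cls s with hS₀
  set R₀ : Fr.A := Fr.cls r with hR₀
  let B := QuadraticMap.polarBilin Fr.q
  have hRS : B R₀ S₀ = 1 := by rw [hR₀, hS₀, Fr.bil_cls hr hs, hrs]
  have hSS : B S₀ S₀ = 0 := QSpace.bil_self _
  have hRR : B R₀ R₀ = 0 := QSpace.bil_self _
  let X := LinearMap.BilinForm.orthogonal B (Submodule.span (ZMod 2) ({S₀, R₀} : Set Fr.A))
  have hX : ∀ a, a ∈ X ↔ B a S₀ = 0 ∧ B a R₀ = 0 := by
    intro a
    show a ∈ LinearMap.BilinForm.orthogonal B _ ↔ _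
    rw [LinearMap.BilinForm.mem_orthogonal_iff]
    constructor
    · intro ha
      exact ⟨by rw [QSpace.bil_comm]; exact ha _ (Submodule.subset_span (by simp)),
        by rw [QSpace.bil_comm]; exact ha _ (Submodule.subset_span (by simp))⟩
    · rintro ⟨ha1, ha2⟩ y hy
      obtain ⟨c₁, c₂, rfl⟩ := Submodule.mem_span_pair.mp hy
      show B _ a = 0
      rw [map_add, map_smul, map_smul, LinearMap.add_apply, LinearMap.smul_apply, LinearMap.smul_apply,
        QSpace.bil_comm S₀ a, QSpace.bil_comm R₀ a, ha1, ha2, smul_zero, smul_zero, add_zero]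
  have hSR : B S₀ R₀ = 1 := (QSpace.bil_comm _ _).trans hRS
  let p : Fr.A →ₗ[ZMod 2] Fr.A :=
    LinearMap.id + (B.flip R₀).smulRight S₀ + (B.flip S₀).smulRight R₀
  have hp : ∀ y, p y = y + B y R₀ • S₀ + B y S₀ • R₀ := fun y => rfl
  have hpX : ∀ y, p y ∈ X := by
    intro y
    rw [hX, hp]
    simp only [map_add, map_smul, LinearMap.add_apply, LinearMap.smul_apply, smul_eq_mul, hSS, hRR, hRS,
      hSR, mul_zero, mul_one, add_zero, CharTwo.add_self_eq_zero, and_self]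
  let qX : QuadraticForm (ZMod 2) X := Fr.q.comp X.subtype
  have hBX : ∀ a c : X, QuadraticMap.polarBilin qX a c = B a.1 c.1 := by
    intro a c
    simp only [QSpace.bil, QuadraticMap.polar, qX, B, QuadraticMap.comp_apply, map_add, QuadraticMap.polarBilin_apply_apply]
    rfl
  have hQX : QSpace qX := ⟨fun a ha => by
    refine Subtype.ext (Fr.qspace.nd _ fun y => ?_)
    have ha' : B a.1 (p y) = 0 := by rw [← hBX a ⟨p y, hpX y⟩]; exact ha _
    rw [hp, map_add, map_add, map_smul, map_smul, ((hX _).mp a.2).1, ((hX _).mp a.2).2, smul_zero, smul_zero,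
      add_zero, add_zero] at ha'
    exact ha'⟩
  -- dimensions
  have hS0 : S₀ ≠ 0 := hs0
  have hspan : finrank (ZMod 2) (Submodule.span (ZMod 2) ({S₀, R₀} : Set Fr.A)) = 2 := by
    have hli : LinearIndependent (ZMod 2) ![S₀, R₀] := by
      rw [LinearIndependent.pair_iff]
      intro c₁ c₂ e
      have e1 := congrArg (fun t => B t S₀) e
      simp only [map_add, map_smul, LinearMap.add_apply, LinearMap.smul_apply, hSS, hRS, smul_eq_mul, mul_zero,
        zero_add, mul_one, map_zero, LinearMap.zero_apply] at e1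
      rw [e1, zero_smul, add_zero] at e
      exact ⟨(smul_eq_zero.mp e).resolve_right hS0, e1⟩
    have h2 := finrank_span_eq_card hli
    have e : Set.range ![S₀, R₀] = {S₀, R₀} := by simp [Matrix.range_cons, Matrix.range_empty, Set.pair_comm]
    rw [e] at h2
    simpa using h2
  have hdX : finrank (ZMod 2) X = finrank (ZMod 2) Fr.A - 2 := by
    show finrank (ZMod 2) ↥(LinearMap.BilinForm.orthogonal B _) = _
    rw [Fr.qspace.finrank_orth, hspan]
  have hbig : 8 ≤ finrank (ZMod 2) Fr.A := h.amb.big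
  have hplus : 8 ≤ finrank (ZMod 2) X ∨
      ∃ T : Submodule (ZMod 2) X, 2 * finrank (ZMod 2) T = finrank (ZMod 2) X ∧ ∀ x ∈ T, qX x = 0 := by
    by_cases h10 : 10 ≤ finrank (ZMod 2) Fr.A
    · left; omega
    obtain ⟨T, hT, hTq⟩ := h.plus.resolve_left h10
    right
    let S1 := LinearMap.BilinForm.orthogonal B (Submodule.span (ZMod 2) ({S₀} : Set Fr.A))
    have hS1 : ∀ a, a ∈ S1 → B a S₀ = 0 := fun a ha => by
      rw [QSpace.bil_comm]
      exact LinearMap.BilinForm.mem_orthogonal_iff.mp ha _ (Submodule.mem_span_singleton_self _)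
    let T₁ := T ⊓ S1
    let f : T₁ →ₗ[ZMod 2] X := (p.comp T₁.subtype).codRestrict X fun y => hpX _
    have hker : ∀ y : T₁, f y = 0 → (y : Fr.A) = 0 ∨ (y : Fr.A) = S₀ := by
      intro y hy
      have e : p (y : Fr.A) = 0 := congrArg Subtype.val hy
      rw [hp, hS1 _ y.2.2, zero_smul, add_zero] at e
      rcases two_cases (B (y : Fr.A) R₀) with c | c
      · rw [c, zero_smul, add_zero] at e; exact Or.inl e
      · rw [c, one_smul] at e; exact Or.inr ((eq_neg_of_add_eq_zero_left e).trans (ZModModule.neg_eq_self _))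
    refine ⟨LinearMap.range f, ?_, ?_⟩
    · have hq0 : ∀ x ∈ LinearMap.range f, qX x = 0 := by
        rintro _ ⟨y, rfl⟩
        show Fr.q (p (y : Fr.A)) = 0
        rw [hp, hS1 _ y.2.2, zero_smul, add_zero, QSpace.map_add', QuadraticMap.map_smul, hTq _ y.2.1,
          hS₀, Fr.q_cls hs, (Fr.sqc_zero hs).mpr hs2, map_smul, ← hS₀, hS1 _ y.2.2]
        simp
      have hle : LinearMap.range f ≤ LinearMap.BilinForm.orthogonal (QuadraticMap.polarBilin qX) (LinearMap.range f) := by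
        intro x hx
        refine LinearMap.BilinForm.mem_orthogonal_iff.mpr fun y hy => ?_
        have e := hq0 _ (Submodule.add_mem _ hy hx)
        rw [QSpace.map_add', hq0 y hy, hq0 x hx, zero_add, zero_add] at e
        exact e
      have hup := Submodule.finrank_mono hle
      rw [hQX.finrank_orth] at hup
      have hrn := LinearMap.finrank_range_add_finrank_ker f
      have hk : finrank (ZMod 2) (LinearMap.ker f) ≤ 1 ∧
          (S₀ ∉ T → finrank (ZMod 2) (LinearMap.ker f) = 0) := by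
        have hinj : Function.Injective ((T₁.subtype).comp (LinearMap.ker f).subtype) :=
          Subtype.val_injective.comp Subtype.val_injective
        constructor
        · have h1 := LinearMap.finrank_range_of_inj hinj
          have h2 : LinearMap.range ((T₁.subtype).comp (LinearMap.ker f).subtype) ≤
              Submodule.span (ZMod 2) ({S₀} : Set Fr.A) := by
            rintro _ ⟨y, rfl⟩
            rcases hker y.1 y.2 with e | e
            · show ((y : T₁) : Fr.A) ∈ _; rw [e]; exact Submodule.zero_mem _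
            · show ((y : T₁) : Fr.A) ∈ _; rw [e]; exact Submodule.mem_span_singleton_self _
          have h3 := Submodule.finrank_mono h2
          have h4 := finrank_span_le_card (R := ZMod 2) ({S₀} : Set Fr.A)
          simp only [Set.toFinset_singleton, Finset.card_singleton] at h4
          omega
        · intro hST
          have : LinearMap.ker f = ⊥ := (Submodule.eq_bot_iff _).mpr fun y hy => by
            rcases hker y hy with e | e
            · exact Subtype.ext e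
            · exact absurd (e ▸ y.2.1) hST
          rw [this, finrank_bot]
      have hsum := Submodule.finrank_sup_add_finrank_inf_eq T S1
      have hS1d : finrank (ZMod 2) S1 + 1 = finrank (ZMod 2) Fr.A := by
        have h1 : finrank (ZMod 2) (Submodule.span (ZMod 2) ({S₀} : Set Fr.A)) = 1 := finrank_span_singleton hS0
        show finrank (ZMod 2) ↥(LinearMap.BilinForm.orthogonal B _) + 1 = _
        rw [Fr.qspace.finrank_orth, h1]; omega
      have hsup := Submodule.finrank_le (T ⊔ S1)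
      have hT1 : finrank (ZMod 2) T₁ = finrank (ZMod 2) ↥(T ⊓ S1) := rfl
      by_cases hST : S₀ ∈ T
      · have hTS : T ≤ S1 := by
          intro a ha
          refine LinearMap.BilinForm.mem_orthogonal_iff.mpr fun y hy => ?_
          obtain ⟨c, rfl⟩ := Submodule.mem_span_singleton.mp hy
          have e := hTq _ (T.add_mem (T.smul_mem c hST) ha)
          rw [QSpace.map_add', hTq _ (T.smul_mem c hST), hTq a ha, zero_add, zero_add] at e
          exact e
        have : finrank (ZMod 2) ↥(T ⊓ S1) = finrank (ZMod 2) T := by rw [inf_eq_left.mpr hTS]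
        have := hk.1
        omega
      · have := hk.2 hST
        omega
    · rintro _ ⟨y, rfl⟩
      show Fr.q (p (y : Fr.A)) = 0
      rw [hp, hS1 _ y.2.2, zero_smul, add_zero, QSpace.map_add', QuadraticMap.map_smul, hTq _ y.2.1,
        hS₀, Fr.q_cls hs, (Fr.sqc_zero hs).mpr hs2, map_smul, ← hS₀, hS1 _ y.2.2]
      simp
  -- the quotient group
  have hms := h.comm_of_fix hs hs2 hs0 hm hmN
  let Cm : Subgroup 𝔸ˣ := M ⊓ Subgroup.centralizer {s}
  have hCm : ∀ g : 𝔸ˣ, g ∈ Cm → g * s = s * g := fun g hg => Subgroup.mem_centralizer_singleton_iff.mp hg.2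
  have hCm' : ∀ g : 𝔸ˣ, g ∈ M → g * s = s * g → g ∈ Cm := fun g hg hgs =>
    ⟨hg, Subgroup.mem_centralizer_singleton_iff.mpr hgs⟩
  let zz : Cm := ⟨-s, hCm' _ (h.R_le (Fr.neg_mem' hs)) (by rw [neg_mul, mul_neg])⟩
  have hzz2 : zz * zz = 1 := Subtype.ext (by show -s * -s = 1; rw [neg_mul_neg, hs2])
  let Z : Subgroup Cm := Subgroup.zpowers zz
  have hZ : ∀ x, x ∈ Z ↔ x = 1 ∨ x = zz := by
    intro x
    constructor
    · rintro ⟨i, rfl⟩
      show zz ^ i = 1 ∨ zz ^ i = zz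
      rcases Int.even_or_odd i with ⟨j, rfl⟩ | ⟨j, rfl⟩
      · left; rw [← two_mul, zpow_mul, zpow_two, hzz2, one_zpow]
      · right; rw [zpow_add, zpow_mul, zpow_two, hzz2, one_zpow, one_mul, zpow_one]
    · rintro (rfl | rfl)
      · exact one_mem _
      · exact Subgroup.mem_zpowers zz
  haveI : Z.Normal := ⟨fun x hx g => by
    rcases (hZ x).mp hx with rfl | rfl
    · rw [mul_one, mul_inv_cancel]; exact one_mem _
    · have : g * zz * g⁻¹ = zz := mul_inv_eq_iff_eq_mul.mpr (Subtype.ext (by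
        show (g : 𝔸ˣ) * -s = -s * (g : 𝔸ˣ)
        rw [mul_neg, neg_mul, hCm g g.2]))
      rw [this]; exact hx⟩
  let mk := QuotientGroup.mk' Z
  have hmk : ∀ x y : Cm, mk x = mk y → ∃ c : ZMod 2, (y : 𝔸ˣ) = blk F s (sgn c) * x := by
    intro x y e
    rcases (hZ _).mp (QuotientGroup.eq.mp e) with e1 | e1
    · exact ⟨0, by rw [sgn_zero, h.blk_one hs hs2, one_mul, inv_mul_eq_one.mp e1]⟩
    · refine ⟨1, ?_⟩
      rw [sgn_one, h.blk_neg_one hs hs2, neg_mul, ← hCm x x.2, ← mul_neg]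
      exact congrArg Subtype.val (inv_mul_eq_iff_eq_mul.mp e1)
  have hmk' : ∀ (x y : Cm) (c : ZMod 2), (y : 𝔸ˣ) = blk F s (sgn c) * x → mk x = mk y := by
    intro x y c e
    refine QuotientGroup.eq.mpr ((hZ _).mpr ?_)
    rcases two_cases c with rfl | rfl
    · left; rw [sgn_zero, h.blk_one hs hs2, one_mul] at e; rw [Subtype.ext e, inv_mul_cancel]
    · right
      rw [sgn_one, h.blk_neg_one hs hs2, neg_mul, ← hCm x x.2, ← mul_neg] at e
      rw [inv_mul_eq_iff_eq_mul]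
      exact Subtype.ext e
  have hXs : ∀ a : X, anti (Fr.rep a.1) s = 0 := fun a => by
    rw [← Fr.bil_cls (Fr.rep_mem _) hs, Fr.cls_rep, ← hS₀]; exact ((hX _).mp a.2).1
  have hblk : ∀ w ∈ R, anti w s = 0 → blk F s w ∈ Cm := fun w hw hws =>
    hCm' _ (h.blk_mem hs hs2 hs0 hw hws) (h.blk_comm hs hs2 (anti_eq_zero.mp hws))
  let lift : X → Cm := fun a => ⟨blk F s (Fr.rep a.1), hblk _ (Fr.rep_mem _) (hXs a)⟩
  let ι : X → Cm ⧸ Z := fun a => mk (lift a)
  have hι : ∀ (a : X) (w : 𝔸ˣ) (hw : w ∈ R) (hws : anti w s = 0), Fr.cls w = a.1 →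
      ι a = mk ⟨blk F s w, hblk w hw hws⟩ := by
    intro a w hw hws e
    rcases (Fr.cls_eq_iff hw (Fr.rep_mem a.1)).mp (e.trans (Fr.cls_rep _).symm) with e1 | e1
    · exact congrArg mk (Subtype.ext (by show blk F s (Fr.rep a.1) = blk F s w; rw [e1]))
    · refine hmk' _ _ 1 ?_
      show blk F s w = blk F s (sgn 1) * blk F s (Fr.rep a.1)
      rw [e1, sgn_one, h.blk_neg hs hs2 (anti_eq_zero.mp (hXs a)), h.blk_neg_one hs hs2]
  let Kc : Subgroup Cm :=
    { carrier := {g | ((g : 𝔸ˣ) : 𝔸) * em F s = em F s}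
      one_mem' := by show ((1 : 𝔸ˣ) : 𝔸) * em F s = em F s; rw [Units.val_one, one_mul]
      mul_mem' := fun {x y} hx hy => by
        show (((x : 𝔸ˣ) * (y : 𝔸ˣ) : 𝔸ˣ) : 𝔸) * em F s = em F s
        rw [Units.val_mul, mul_assoc, hy, hx]
      inv_mem' := fun {x} hx => by
        show (((x : 𝔸ˣ)⁻¹ : 𝔸ˣ) : 𝔸) * em F s = em F s
        conv_lhs => rw [← hx, ← mul_assoc, Units.inv_mul, one_mul] }
  haveI hKn : Kc.Normal := ⟨fun x hx g => by
    show (((g : 𝔸ˣ) * (x : 𝔸ˣ) * (g : 𝔸ˣ)⁻¹ : 𝔸ˣ) : 𝔸) * em F s = em F s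
    have hgi : (g : 𝔸ˣ)⁻¹ * s = s * (g : 𝔸ˣ)⁻¹ :=
      (inv_mul_eq_iff_eq_mul).mpr (by rw [← mul_assoc, hCm g g.2, mul_inv_cancel_right])
    have hx' : ((x : 𝔸ˣ) : 𝔸) * em F s = em F s := hx
    rw [Units.val_mul, Units.val_mul, mul_assoc, ← h.commute_em hs hs2 hgi, mul_assoc, ← mul_assoc ((x : 𝔸ˣ) : 𝔸),
      hx', ← mul_assoc, ← h.commute_em hs hs2 (hCm g g.2), mul_assoc, Units.mul_inv, mul_one]⟩
  let K : Subgroup (Cm ⧸ Z) := Kc.map mk
  have hyp : SelfHyp qX K ι := by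
    refine ⟨Subgroup.Normal.map hKn mk (QuotientGroup.mk'_surjective Z), ?_, ?_, ?_, ?_, ?_, ?_⟩
    · intro a c
      have hm2 := R.mul_mem (Fr.rep_mem a.1) (Fr.rep_mem c.1)
      have hs2' : anti (Fr.rep a.1 * Fr.rep c.1) s = 0 := by
        rw [Fr.anti_mul_left (Fr.rep_mem _) (Fr.rep_mem _) hs, hXs, hXs, add_zero]
      rw [hι (a + c) _ hm2 hs2' (by rw [Fr.cls_mul (Fr.rep_mem _) (Fr.rep_mem _), Fr.cls_rep, Fr.cls_rep]; rfl)]
      show mk _ = mk (lift a) * mk (lift c)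
      rw [← map_mul]
      exact congrArg mk (Subtype.ext (h.blk_mul hs hs2 (anti_eq_zero.mp (hXs a)) (anti_eq_zero.mp (hXs c))))
    · intro a c e
      obtain ⟨b, hb⟩ := hmk _ _ e
      have hsa : (sgn b : 𝔸ˣ) * s = s * sgn b := sgn_comm b s
      have hd : Fr.rep c.1 * (sgn b * Fr.rep a.1)⁻¹ ∈ R :=
        R.mul_mem (Fr.rep_mem _) (R.inv_mem (R.mul_mem (Fr.sgn_mem b) (Fr.rep_mem _)))
      have hwa : sgn b * Fr.rep a.1 ∈ R := R.mul_mem (Fr.sgn_mem b) (Fr.rep_mem _)
      have hwas : anti (sgn b * Fr.rep a.1) s = 0 := by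
        rw [Fr.anti_mul_left (Fr.sgn_mem b) (Fr.rep_mem _) hs, anti_eq_zero.mpr hsa, hXs, add_zero]
      have hds : anti (Fr.rep c.1 * (sgn b * Fr.rep a.1)⁻¹) s = 0 := by
        rw [Fr.anti_mul_left (Fr.rep_mem _) (R.inv_mem hwa) hs, hXs, ← Fr.bil_cls (R.inv_mem hwa) hs,
          Fr.cls_inv hwa, Fr.bil_cls hwa hs, hwas, add_zero]
      have e1 : blk F s (Fr.rep c.1 * (sgn b * Fr.rep a.1)⁻¹) = 1 := by
        rw [h.blk_mul hs hs2 (anti_eq_zero.mp (hXs c)) (anti_eq_zero.mp (by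
          rw [← Fr.bil_cls (R.inv_mem hwa) hs, Fr.cls_inv hwa, Fr.bil_cls hwa hs, hwas])),
          h.blk_inv hs hs2 (anti_eq_zero.mp hwas), h.blk_mul hs hs2 hsa (anti_eq_zero.mp (hXs a))]
        exact mul_inv_eq_one.mpr hb
      have e2 : Fr.cls (Fr.rep c.1 * (sgn b * Fr.rep a.1)⁻¹) = c.1 + a.1 := by
        rw [Fr.cls_mul (Fr.rep_mem _) (R.inv_mem hwa), Fr.cls_inv hwa, Fr.cls_mul (Fr.sgn_mem b) (Fr.rep_mem _),
          Fr.cls_rep, Fr.cls_rep]
        rcases two_cases b with rfl | rfl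
        · rw [sgn_zero, Fr.cls_one, zero_add]
        · rw [sgn_one, (Fr.cls_eq_zero Fr.neg_one).mpr (Or.inr rfl), zero_add]
      rcases h.blk_eq_one hs hs2 hs0 hd hds e1 with e3 | e3
      · rw [e3, Fr.cls_one] at e2
        exact Subtype.ext (((eq_neg_of_add_eq_zero_left e2.symm).trans (ZModModule.neg_eq_self _)).symm)
      · rw [e3, ← hS₀] at e2
        have hmem : c.1 + a.1 ∈ X := X.add_mem c.2 a.2
        rw [← e2] at hmem
        have := ((hX _).mp hmem).2
        rw [QSpace.bil_comm, hRS] at this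
        exact absurd this one_ne_zero
    · intro a
      exact ⟨lift a, h.blk_mul_em hs hs2 hs0 (anti_eq_zero.mp (hXs a)), rfl⟩
    · intro a c ha hc hac k hk ek1 ek2
      obtain ⟨m', hm', rfl⟩ := hk
      have hsig : ∀ x : X, mk m' * ι x = ι x * mk m' → ∃ b : ZMod 2,
          (m' : 𝔸ˣ) * blk F s (Fr.rep x.1) = blk F s (sgn b) * (blk F s (Fr.rep x.1) * (m' : 𝔸ˣ)) := by
        intro x e
        obtain ⟨b, hb⟩ := hmk (lift x * m') (m' * lift x) (by rw [map_mul, map_mul]; exact e.symm)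
        exact ⟨b, hb⟩
      have hq1 : ∀ x : X, qX x = 1 → Fr.rep x.1 * Fr.rep x.1 = -1 := fun x hx => by
        rw [← Fr.sqc_one (Fr.rep_mem _), ← Fr.q_cls (Fr.rep_mem _), Fr.cls_rep]; exact hx
      have hab : anti (Fr.rep a.1) (Fr.rep c.1) = 1 := by
        rw [← Fr.bil_cls (Fr.rep_mem _) (Fr.rep_mem _), Fr.cls_rep, Fr.cls_rep, ← hac, hBX]
      obtain ⟨w, hw, hws, hmw⟩ := h.of_pair_sign hs hs2 hs0 m'.2.1 hm' (Fr.rep_mem a.1) (Fr.rep_mem c.1)
        (hXs a) (hXs c) (hq1 a ha) (hq1 c hc) hab (hsig a ek1) (hsig c ek2)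
      rcases two_cases (B (Fr.cls w) R₀) with e | e
      · refine ⟨⟨Fr.cls w, (hX _).mpr ⟨by rw [hS₀, Fr.bil_cls hw hs, hws], e⟩⟩, ?_⟩
        rw [hι _ w hw hws rfl]
        exact congrArg mk (Subtype.ext hmw.symm)
      · have hws2 : anti (w * s) s = 0 := by
          rw [Fr.anti_mul_left hw hs hs, hws, anti_eq_zero.mpr rfl, add_zero]
        refine ⟨⟨Fr.cls (w * s), (hX _).mpr ⟨by rw [hS₀, Fr.bil_cls (R.mul_mem hw hs) hs, hws2], ?_⟩⟩, ?_⟩
        · rw [Fr.cls_mul hw hs, map_add, LinearMap.add_apply, e, ← hS₀, QSpace.bil_comm, hRS]; rfl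
        · rw [hι _ _ (R.mul_mem hw hs) hws2 rfl]
          refine congrArg mk (Subtype.ext ?_)
          show blk F s (w * s) = _
          rw [h.blk_mul hs hs2 (anti_eq_zero.mp hws) rfl, h.blk_self hs hs2, mul_one, hmw]
    · intro g a c e
      obtain ⟨g', rfl⟩ := QuotientGroup.mk'_surjective Z g
      obtain ⟨b, hb⟩ := hmk (g' * lift a * g'⁻¹) (lift c) (by rw [map_mul, map_mul, map_inv]; exact e)
      replace hb : blk F s (Fr.rep c.1) = blk F s (sgn b) * ((g' : 𝔸ˣ) * blk F s (Fr.rep a.1) * (g' : 𝔸ˣ)⁻¹) := hb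
      have hsb : (sgn b : 𝔸ˣ) * s = s * sgn b := sgn_comm b s
      have hbb : blk F s (sgn b) * blk F s (sgn b) = 1 := by
        rw [← h.blk_mul hs hs2 hsb hsb, ← sgn_add, CharTwo.add_self_eq_zero, sgn_zero, h.blk_one hs hs2]
      have hcz : blk F s (sgn b) = 1 ∨ blk F s (sgn b) = -s := by
        rcases two_cases b with rfl | rfl
        · left; rw [sgn_zero, h.blk_one hs hs2]
        · right; rw [sgn_one, h.blk_neg_one hs hs2]
      have hcomm : ∀ y : 𝔸ˣ, y * s = s * y → blk F s (sgn b) * y = y * blk F s (sgn b) := by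
        intro y hy
        rcases hcz with e1 | e1 <;> rw [e1]
        · rw [one_mul, mul_one]
        · rw [neg_mul, mul_neg, hy]
      have hsq : ∀ x : X, blk F s (Fr.rep x.1) * blk F s (Fr.rep x.1) = blk F s (sgn (sqc (Fr.rep x.1))) := fun x => by
        rw [← h.blk_mul hs hs2 (anti_eq_zero.mp (hXs x)) (anti_eq_zero.mp (hXs x)), Fr.sq_eq (Fr.rep_mem _)]
      have hgas : ((g' : 𝔸ˣ) * blk F s (Fr.rep a.1) * (g' : 𝔸ˣ)⁻¹) * s =
          s * ((g' : 𝔸ˣ) * blk F s (Fr.rep a.1) * (g' : 𝔸ˣ)⁻¹) :=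
        hCm _ (Cm.mul_mem (Cm.mul_mem g'.2 (hblk _ (Fr.rep_mem _) (hXs a))) (Cm.inv_mem g'.2))
      have e2 : blk F s (sgn (sqc (Fr.rep c.1))) = (g' : 𝔸ˣ) * blk F s (sgn (sqc (Fr.rep a.1))) * (g' : 𝔸ˣ)⁻¹ := by
        obtain ⟨Y, hY⟩ : ∃ Y, Y = (g' : 𝔸ˣ) * blk F s (Fr.rep a.1) * (g' : 𝔸ˣ)⁻¹ := ⟨_, rfl⟩
        rw [← hY] at hb hgas
        calc blk F s (sgn (sqc (Fr.rep c.1))) = blk F s (sgn b) * (Y * blk F s (sgn b)) * Y := by
              rw [← hsq c, hb]; simp only [mul_assoc]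
          _ = blk F s (sgn b) * blk F s (sgn b) * (Y * Y) := by
              rw [← hcomm Y hgas]; simp only [mul_assoc]
          _ = _ := by rw [hbb, one_mul, hY, ← hsq a]; group
      have e3 : blk F s (sgn (sqc (Fr.rep c.1))) = blk F s (sgn (sqc (Fr.rep a.1))) := by
        rw [e2]
        refine mul_inv_eq_iff_eq_mul.mpr ?_
        rcases two_cases (sqc (Fr.rep a.1)) with e4 | e4 <;> rw [e4]
        · rw [sgn_zero, h.blk_one hs hs2, one_mul, mul_one]
        · rw [sgn_one, h.blk_neg_one hs hs2, neg_mul, mul_neg, hCm _ g'.2]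
      show Fr.q a.1 = Fr.q c.1
      rw [← Fr.cls_rep a.1, ← Fr.cls_rep c.1, Fr.q_cls (Fr.rep_mem _), Fr.q_cls (Fr.rep_mem _)]
      rcases two_cases (sqc (Fr.rep a.1)) with e4 | e4 <;> rcases two_cases (sqc (Fr.rep c.1)) with e5 | e5 <;>
        rw [e4, e5] at e3 ⊢
      · rw [sgn_zero, sgn_one, h.blk_one hs hs2, h.blk_neg_one hs hs2] at e3
        exact absurd e3 (h.neg_ne_one hs hs2 hs0)
      · rw [sgn_zero, sgn_one, h.blk_one hs hs2, h.blk_neg_one hs hs2] at e3
        exact absurd e3.symm (h.neg_ne_one hs hs2 hs0)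
    · intro u v hu hv
      have hq1 : ∀ x : X, qX x = 1 → Fr.rep x.1 * Fr.rep x.1 = -1 := fun x hx => by
        rw [← Fr.sqc_one (Fr.rep_mem _), ← Fr.q_cls (Fr.rep_mem _), Fr.cls_rep]; exact hx
      obtain ⟨g, hg, hgv⟩ := h.amb.pair_mem (Fr.rep_mem u.1) (Fr.rep_mem v.1) (hq1 u hu) (hq1 v hv)
      have hgs : g * s = s * g := h.amb.pair_comm hgv (anti_eq_zero.mp (hXs u)).symm (anti_eq_zero.mp (hXs v)).symm
      have hgM : g ∈ Cm := hCm' g (h.mem g hg
        (h.amb.pair_normalizes (Fr.rep_mem u.1) (Fr.rep_mem v.1) (hq1 u hu) (hq1 v hv) hgv)) hgs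
      refine ⟨mk ⟨g, hgM⟩, fun x => ?_⟩
      obtain ⟨y, hy, ey, hcy⟩ := h.amb.pair_act (Fr.rep_mem u.1) (Fr.rep_mem v.1) (hq1 u hu) (hq1 v hv) hgv
        (Fr.rep_mem x.1)
      rw [Fr.cls_rep, Fr.cls_rep, Fr.cls_rep] at hcy
      have hys : anti y s = 0 := by
        rw [← ey, anti_eq_zero, mul_assoc, (inv_mul_eq_iff_eq_mul).mpr (by
          rw [← mul_assoc, hgs, mul_inv_cancel_right]), ← mul_assoc, mul_assoc g, anti_eq_zero.mp (hXs x),
          ← mul_assoc, hgs]
        simp only [mul_assoc]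
      have hval : Fr.cls y = ((tt qX u v x : X) : Fr.A) := by
        rw [hcy]
        simp only [tt, tr, hBX, Submodule.coe_add, Submodule.coe_smul]
        rfl
      rw [hι _ y hy hys hval]
      show mk ⟨g, hgM⟩ * mk (lift x) * (mk ⟨g, hgM⟩)⁻¹ = _
      rw [← map_inv, ← map_mul, ← map_mul]
      refine congrArg mk (Subtype.ext ?_)
      show g * blk F s (Fr.rep x.1) * g⁻¹ = blk F s y
      rw [h.blk_conj hs hs2 hgs (anti_eq_zero.mp (hXs x)), ey]
  have hd6 : 6 ≤ finrank (ZMod 2) X := by omega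
  obtain ⟨d, hd⟩ := hyp.range_eq hQX hd6 hplus (k := mk ⟨m, hCm' m hm hms⟩) ⟨⟨m, hCm' m hm hms⟩, hmN, rfl⟩
  obtain ⟨c, hc⟩ := hmk _ _ hd
  refine ⟨sgn c * Fr.rep d.1, R.mul_mem (Fr.sgn_mem c) (Fr.rep_mem _), ?_, ?_⟩
  · rw [Fr.anti_mul_left (Fr.sgn_mem c) (Fr.rep_mem _) hs, anti_eq_zero.mpr (sgn_comm c s), hXs, add_zero]
  · rw [h.blk_mul hs hs2 (sgn_comm c s) (anti_eq_zero.mp (hXs d))]
    exact hc

end Over

end Cfsg.Agent.Lib.SympCent35
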