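import Mathlib
import Cfsg.Agent.Lib.SympCent35.Fixed

/-!
The centraliser in an overgroup of an involution of the group of symplectic type normalises that group.
-/

set_option autoImplicit false
set_option linter.unusedSectionVars false
set_option linter.style.haveILetI false

namespace Cfsg.Agent.Lib.SympCent35

open Module
open QSpace (tr tt)

variable {F : Type*} [Field F] {𝔸 : Type*} [Ring 𝔸] [Algebra F 𝔸] [Nontrivial 𝔸]

theorem inv_comm {g s : 𝔸ˣ} (hg : g * s = s * g) : g⁻¹ * s = s * g⁻¹ :=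
  inv_mul_eq_iff_eq_mul.mpr (by rw [← mul_assoc, hg, mul_inv_cancel_right])

theorem conj_comm {g x s : 𝔸ˣ} (hg : g * s = s * g) (hx : x * s = s * x) :
    g * x * g⁻¹ * s = s * (g * x * g⁻¹) := by
  rw [mul_assoc, inv_comm hg, ← mul_assoc, mul_assoc g x s, hx, ← mul_assoc, hg]; simp only [mul_assoc]

theorem em_neg (s : 𝔸ˣ) : em F (-s) = ep F s := by
  rw [em, ep, Units.val_neg, sub_neg_eq_add]

theorem ep_neg (s : 𝔸ˣ) : ep F (-s) = em F s := by
  rw [em, ep, Units.val_neg, ← sub_eq_add_neg]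

namespace Over

variable {R : Subgroup 𝔸ˣ} {adj : 𝔸 → 𝔸} {U G₀ M : Subgroup 𝔸ˣ} (h : Over F R adj U G₀ M)

include h

variable {s : 𝔸ˣ} (hs : s ∈ R) (hs2 : s * s = 1) (hs0 : h.amb.frame.cls s ≠ 0)
include hs hs2 hs0

theorem blk_sgn_inj {c c' : ZMod 2} (e : blk F s (sgn c) = blk F s (sgn c')) : c = c' := by
  rcases two_cases c with rfl | rfl <;> rcases two_cases c' with rfl | rfl
  · rfl
  · rw [sgn_zero, sgn_one, h.blk_one hs hs2, h.blk_neg_one hs hs2] at e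
    exact absurd e.symm (h.neg_ne_one hs hs2 hs0)
  · rw [sgn_zero, sgn_one, h.blk_one hs hs2, h.blk_neg_one hs hs2] at e
    exact absurd e (h.neg_ne_one hs hs2 hs0)
  · rfl

theorem blk_sgn_comm (c : ZMod 2) {y : 𝔸ˣ} (hy : y * s = s * y) :
    blk F s (sgn c) * y = y * blk F s (sgn c) := by
  rcases two_cases c with rfl | rfl
  · rw [sgn_zero, h.blk_one hs hs2, one_mul, mul_one]
  · rw [sgn_one, h.blk_neg_one hs hs2, neg_mul, mul_neg, hy]

theorem cls_of_blk {w w' : 𝔸ˣ} (hw : w ∈ R) (hws : anti w s = 0) (hw' : w' ∈ R) (hw's : anti w' s = 0)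
    {c : ZMod 2} (e : blk F s w = blk F s (sgn c) * blk F s w') :
    h.amb.frame.cls w + h.amb.frame.cls w' ∈ Submodule.span (ZMod 2) {h.amb.frame.cls s} := by
  have hp := R.mul_mem (h.amb.frame.sgn_mem c) hw'
  have hps : anti (sgn c * w') s = 0 := by
    rw [h.amb.frame.anti_mul_left (h.amb.frame.sgn_mem c) hw' hs, hw's, anti_eq_zero.mpr (sgn_comm c s), add_zero]
  have hd := R.mul_mem hw (R.inv_mem hp)
  have hpi : anti (sgn c * w')⁻¹ s = 0 := anti_eq_zero.mpr (inv_comm (anti_eq_zero.mp hps))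
  have hds : anti (w * (sgn c * w')⁻¹) s = 0 := by
    rw [h.amb.frame.anti_mul_left hw (R.inv_mem hp) hs, hws, hpi, add_zero]
  have e1 : blk F s (w * (sgn c * w')⁻¹) = 1 := by
    rw [h.blk_mul hs hs2 (anti_eq_zero.mp hws) (anti_eq_zero.mp hpi), h.blk_inv hs hs2 (anti_eq_zero.mp hps),
      h.blk_mul hs hs2 (sgn_comm c s) (anti_eq_zero.mp hw's), e, mul_inv_cancel]
  have hsc : h.amb.frame.cls (sgn c) = 0 := by
    rcases two_cases c with rfl | rfl
    · rw [sgn_zero, h.amb.frame.cls_one]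
    · rw [sgn_one, (h.amb.frame.cls_eq_zero h.amb.frame.neg_one).mpr (Or.inr rfl)]
  have e2 : h.amb.frame.cls (w * (sgn c * w')⁻¹) = h.amb.frame.cls w + h.amb.frame.cls w' := by
    rw [h.amb.frame.cls_mul hw (R.inv_mem hp), h.amb.frame.cls_inv hp,
      h.amb.frame.cls_mul (h.amb.frame.sgn_mem c) hw', hsc, zero_add]
  rcases h.blk_eq_one hs hs2 hs0 hd hds e1 with e3 | e3
  · rw [← e2, e3, h.amb.frame.cls_one]; exact Submodule.zero_mem _
  · rw [← e2, e3]; exact Submodule.mem_span_singleton_self _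

variable [Finite 𝔸ˣ]

/-- Conjugation carries restrictions to restrictions. -/
theorem exists_image {g w : 𝔸ˣ} (hg : g ∈ M) (hgs : g * s = s * g) (hw : w ∈ R) (hws : anti w s = 0) :
    ∃ w' ∈ R, anti w' s = 0 ∧ g * blk F s w * g⁻¹ = blk F s w' := by
  refine h.fix_eq hs hs2 hs0 (M.mul_mem (M.mul_mem hg (h.blk_mem hs hs2 hs0 hw hws)) (M.inv_mem hg)) ?_
  rw [Units.val_mul, Units.val_mul, mul_assoc, ← h.commute_em hs hs2 (inv_comm hgs), mul_assoc,
    ← mul_assoc _ (em F s), h.blk_mul_em hs hs2 hs0 (anti_eq_zero.mp hws), ← mul_assoc,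
    ← h.commute_em hs hs2 hgs, mul_assoc, Units.mul_inv, mul_one]

theorem blk_swap {x y : 𝔸ˣ} (hx : x ∈ R) (hxs : anti x s = 0) (hy : y ∈ R) (hys : anti y s = 0) :
    blk F s x * blk F s y = blk F s (sgn (anti x y)) * (blk F s y * blk F s x) := by
  have hc := sgn_comm (anti x y) s
  rw [← h.blk_mul hs hs2 (anti_eq_zero.mp hxs) (anti_eq_zero.mp hys),
    ← h.blk_mul hs hs2 (anti_eq_zero.mp hys) (anti_eq_zero.mp hxs),
    ← h.blk_mul hs hs2 hc (by rw [mul_assoc, anti_eq_zero.mp hxs, ← mul_assoc, anti_eq_zero.mp hys, mul_assoc]),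
    ← h.amb.frame.comm_eq hx hy]

theorem image_anti {g x y x' y' : 𝔸ˣ} (hgs : g * s = s * g) (hx : x ∈ R) (hxs : anti x s = 0) (hy : y ∈ R)
    (hys : anti y s = 0) (hx' : x' ∈ R) (hx's : anti x' s = 0) (hy' : y' ∈ R) (hy's : anti y' s = 0)
    (ex : g * blk F s x * g⁻¹ = blk F s x') (ey : g * blk F s y * g⁻¹ = blk F s y') :
    anti x' y' = anti x y := by
  refine h.blk_sgn_inj hs hs2 hs0 (mul_right_cancel (b := blk F s y' * blk F s x') ?_)
  rw [← h.blk_swap hs hs2 hs0 hx' hx's hy' hy's, ← ex, ← ey]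
  have hc := h.blk_sgn_comm hs hs2 hs0 (anti x y) hgs
  calc g * blk F s x * g⁻¹ * (g * blk F s y * g⁻¹) = g * (blk F s x * blk F s y) * g⁻¹ := by group
    _ = g * blk F s (sgn (anti x y)) * (blk F s y * blk F s x) * g⁻¹ := by
        rw [h.blk_swap hs hs2 hs0 hx hxs hy hys, ← mul_assoc g]
    _ = _ := by rw [← hc]; group

theorem image_sqc {g x x' : 𝔸ˣ} (hgs : g * s = s * g) (hx : x ∈ R) (hxs : anti x s = 0)
    (hx' : x' ∈ R) (hx's : anti x' s = 0) (ex : g * blk F s x * g⁻¹ = blk F s x') : sqc x' = sqc x := by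
  refine h.blk_sgn_inj hs hs2 hs0 ?_
  have hc := h.blk_sgn_comm hs hs2 hs0 (sqc x) hgs
  rw [← h.amb.frame.sq_eq hx', h.blk_mul hs hs2 (anti_eq_zero.mp hx's) (anti_eq_zero.mp hx's), ← ex]
  calc g * blk F s x * g⁻¹ * (g * blk F s x * g⁻¹) = g * (blk F s x * blk F s x) * g⁻¹ := by group
    _ = g * blk F s (sgn (sqc x)) * g⁻¹ := by
        rw [← h.blk_mul hs hs2 (anti_eq_zero.mp hxs) (anti_eq_zero.mp hxs), h.amb.frame.sq_eq hx]
    _ = _ := by rw [← hc, mul_inv_cancel_right]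

theorem image_mul {g x y z x' y' z' : 𝔸ˣ} (hx : x ∈ R) (hxs : anti x s = 0) (hy : y ∈ R) (hys : anti y s = 0)
    (hx' : x' ∈ R) (hx's : anti x' s = 0) (hy' : y' ∈ R) (hy's : anti y' s = 0) (hz' : z' ∈ R) (hz's : anti z' s = 0)
    (hz : z = x * y) (ex : g * blk F s x * g⁻¹ = blk F s x') (ey : g * blk F s y * g⁻¹ = blk F s y')
    (ez : g * blk F s z * g⁻¹ = blk F s z') :
    h.amb.frame.cls z' + (h.amb.frame.cls x' + h.amb.frame.cls y') ∈
      Submodule.span (ZMod 2) {h.amb.frame.cls s} := by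
  rw [← h.amb.frame.cls_mul hx' hy']
  refine h.cls_of_blk hs hs2 hs0 hz' hz's (R.mul_mem hx' hy')
    (by rw [h.amb.frame.anti_mul_left hx' hy' hs, hx's, hy's, add_zero]) (c := 0) ?_
  rw [sgn_zero, h.blk_one hs hs2, one_mul, h.blk_mul hs hs2 (anti_eq_zero.mp hx's) (anti_eq_zero.mp hy's),
    ← ex, ← ey, ← ez, hz, h.blk_mul hs hs2 (anti_eq_zero.mp hxs) (anti_eq_zero.mp hys)]
  group

/-- The image of a conjugate by a pair, modulo `s`. -/
theorem image_tt {g u v x u' v' x' y y' t : 𝔸ˣ} (hgs : g * s = s * g)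
    (huR : u ∈ R) (hus : anti u s = 0) (hvR : v ∈ R) (hvs : anti v s = 0) (hu : u * u = -1) (hv : v * v = -1)
    (ht : (t : 𝔸) = pairVal F u v) (hx : x ∈ R) (hxs : anti x s = 0) (hy : y = t * x * t⁻¹)
    (hu' : u' ∈ R) (hu's : anti u' s = 0) (hv' : v' ∈ R) (hv's : anti v' s = 0) (hx' : x' ∈ R) (hx's : anti x' s = 0)
    (hy' : y' ∈ R) (hy's : anti y' s = 0) (eu : g * blk F s u * g⁻¹ = blk F s u')
    (ev : g * blk F s v * g⁻¹ = blk F s v') (ex : g * blk F s x * g⁻¹ = blk F s x')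
    (ey : g * blk F s y * g⁻¹ = blk F s y') :
    h.amb.frame.cls y' + tt h.amb.frame.q (h.amb.frame.cls u') (h.amb.frame.cls v') (h.amb.frame.cls x') ∈
      Submodule.span (ZMod 2) {h.amb.frame.cls s} := by
  set Fr := h.amb.frame
  obtain ⟨y₀, hy₀, ey₀, hcy⟩ := h.amb.pair_act huR hvR hu hv ht hx
  rw [← hy] at ey₀
  subst ey₀
  have axv := h.image_anti hs hs2 hs0 hgs hx hxs hvR hvs hx' hx's hv' hv's ex ev
  have axu := h.image_anti hs hs2 hs0 hgs hx hxs huR hus hx' hx's hu' hu's ex eu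
  have avu := h.image_anti hs hs2 hs0 hgs hvR hvs huR hus hv' hv's hu' hu's ev eu
  obtain ⟨z, hz, hzs, hcz⟩ : ∃ z ∈ R, anti z s = 0 ∧
      (z = 1 ∨ z = u ∨ z = v ∨ z = v * u) := ⟨1, R.one_mem, anti_eq_zero.mpr (by rw [one_mul, mul_one]), Or.inl rfl⟩
  clear hz hzs hcz z
  have hcls : Fr.cls y = Fr.cls x + anti x v • Fr.cls v + (anti x u + anti x v * anti v u) • Fr.cls u := by
    rw [hcy, tt, tr, tr, map_add, map_smul, LinearMap.add_apply, LinearMap.smul_apply, Fr.bil_cls hx hvR,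
      Fr.bil_cls hx huR, Fr.bil_cls hvR huR, smul_eq_mul]
  have himg : ∀ (a : 𝔸ˣ) (a' : 𝔸ˣ) (b : 𝔸ˣ) (b' : 𝔸ˣ), a ∈ R → anti a s = 0 → b ∈ R → anti b s = 0 →
      a' ∈ R → anti a' s = 0 → b' ∈ R → anti b' s = 0 → g * blk F s a * g⁻¹ = blk F s a' →
      g * blk F s b * g⁻¹ = blk F s b' → Fr.cls a = Fr.cls b →
      Fr.cls a' + Fr.cls b' ∈ Submodule.span (ZMod 2) {Fr.cls s} := by
    intro a a' b b' ha has hb hbs ha' ha's hb' hb's ea eb e
    obtain ⟨c, hc⟩ : ∃ c : ZMod 2, a = sgn c * b := by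
      rcases (Fr.cls_eq_iff ha hb).mp e with rfl | rfl
      · exact ⟨0, by rw [sgn_zero, one_mul]⟩
      · exact ⟨1, by rw [sgn_one, neg_one_mul]⟩
    refine h.cls_of_blk hs hs2 hs0 ha' ha's hb' hb's (c := c) ?_
    rw [← ea, ← eb, hc, h.blk_mul hs hs2 (sgn_comm c s) (anti_eq_zero.mp hbs), ← mul_assoc g,
      ← h.blk_sgn_comm hs hs2 hs0 c hgs]
    group
  have htt : tt Fr.q (Fr.cls u') (Fr.cls v') (Fr.cls x') =
      Fr.cls x' + anti x v • Fr.cls v' + (anti x u + anti x v * anti v u) • Fr.cls u' := by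
    rw [tt, tr, tr, map_add, map_smul, LinearMap.add_apply, LinearMap.smul_apply, Fr.bil_cls hx' hv',
      Fr.bil_cls hx' hu', Fr.bil_cls hv' hu', smul_eq_mul, axv, axu, avu]
  have hxv : x * v ∈ R := R.mul_mem hx hvR
  have hxvs : anti (x * v) s = 0 := by rw [Fr.anti_mul_left hx hvR hs, hxs, hvs, add_zero]
  have hxv' : x' * v' ∈ R := R.mul_mem hx' hv'
  have hxvs' : anti (x' * v') s = 0 := by rw [Fr.anti_mul_left hx' hv' hs, hx's, hv's, add_zero]
  have exv : g * blk F s (x * v) * g⁻¹ = blk F s (x' * v') := by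
    rw [h.blk_mul hs hs2 (anti_eq_zero.mp hxs) (anti_eq_zero.mp hvs),
      h.blk_mul hs hs2 (anti_eq_zero.mp hx's) (anti_eq_zero.mp hv's), ← ex, ← ev]
    group
  have hmulu : ∀ a a' : 𝔸ˣ, anti a s = 0 → anti a' s = 0 → g * blk F s a * g⁻¹ = blk F s a' →
      g * blk F s (a * u) * g⁻¹ = blk F s (a' * u') := fun a a' ha ha' e => by
    rw [h.blk_mul hs hs2 (anti_eq_zero.mp ha) (anti_eq_zero.mp hus),
      h.blk_mul hs hs2 (anti_eq_zero.mp ha') (anti_eq_zero.mp hu's), ← e, ← eu]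
    group
  have hys : anti y s = 0 := by
    rw [hy, anti_eq_zero]
    exact conj_comm (h.amb.pair_comm ht (anti_eq_zero.mp hus).symm (anti_eq_zero.mp hvs).symm).symm.symm
      (anti_eq_zero.mp hxs)
  rw [htt]
  rcases two_cases (anti x v) with e1 | e1 <;> rcases two_cases (anti x u + anti x v * anti v u) with e2 | e2 <;>
    rw [e1] at hcls e2 ⊢ <;> rw [e2] at hcls ⊢ <;> simp only [zero_smul, one_smul, add_zero] at hcls ⊢
  · exact himg y y' x x' hy₀ hys hx hxs hy' hy's hx' hx's ey ex hcls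
  · have hm := R.mul_mem hx huR
    have hm' := R.mul_mem hx' hu'
    rw [← Fr.cls_mul hx' hu']
    exact himg y y' (x * u) (x' * u') hy₀ hys hm (by rw [Fr.anti_mul_left hx huR hs, hxs, hus, add_zero]) hy' hy's hm'
      (by rw [Fr.anti_mul_left hx' hu' hs, hx's, hu's, add_zero]) ey (hmulu x x' hxs hx's ex)
      (by rw [Fr.cls_mul hx huR]; exact hcls)
  · rw [← Fr.cls_mul hx' hv']
    exact himg y y' (x * v) (x' * v') hy₀ hys hxv hxvs hy' hy's hxv' hxvs' ey exv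
      (by rw [Fr.cls_mul hx hvR]; exact hcls)
  · rw [← Fr.cls_mul hx' hv', ← Fr.cls_mul hxv' hu']
    exact himg y y' (x * v * u) (x' * v' * u') hy₀ hys (R.mul_mem hxv huR)
      (by rw [Fr.anti_mul_left hxv huR hs, hxvs, hus, add_zero]) hy' hy's (R.mul_mem hxv' hu')
      (by rw [Fr.anti_mul_left hxv' hu' hs, hxvs', hu's, add_zero]) ey (hmulu _ _ hxvs hxvs' exv)
      (by rw [Fr.cls_mul hxv huR, Fr.cls_mul hx hvR]; exact hcls)

theorem blk_neg_mul {w : 𝔸ˣ} (hws : w * s = s * w) : blk F s w * blk F (-s) w = w := by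
  have hn2 : (-s) * (-s) = 1 := by rw [neg_mul_neg, hs2]
  have hws' : w * -s = -s * w := by rw [mul_neg, neg_mul, hws]
  refine Units.ext ?_
  rw [Units.val_mul, h.blk_val hs hs2 hws, h.blk_val (h.amb.frame.neg_mem' hs) hn2 hws', blkVal, blkVal,
    em_neg, ep_neg, add_mul, mul_add, mul_add, mul_assoc (w : 𝔸) (ep F s), ← mul_assoc (ep F s) (w : 𝔸),
    h.commute_ep hs hs2 hws, mul_assoc (w : 𝔸) (ep F s) (em F s), h.ep_mul_em hs hs2, mul_zero, mul_zero,
    mul_assoc (w : 𝔸) (ep F s) (ep F s), h.ep_mul_ep hs hs2, ← mul_assoc (em F s) (w : 𝔸),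
    h.commute_em hs hs2 hws, mul_assoc (w : 𝔸) (em F s), h.em_mul_em hs hs2, h.em_mul_ep hs hs2, add_zero,
    zero_add, ← mul_add, h.ep_add_em hs hs2, mul_one]

/-- An element acting on one eigenspace as signs on the restrictions does so on the other. -/
theorem signs_other {m : 𝔸ˣ} (hm : m ∈ M) (hms : m * s = s * m)
    (hsig : ∀ x ∈ R, anti x s = 0 → ∃ c : ZMod 2, m * blk F s x = blk F s (sgn c) * (blk F s x * m))
    {y : 𝔸ˣ} (hy : y ∈ R) (hys : anti y s = 0) :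
    ∃ c : ZMod 2, m * blk F (-s) y * m⁻¹ = blk F (-s) (sgn c) * blk F (-s) y := by
  classical
  haveI := h.amb.finA
  haveI := h.amb.finite
  set Fr := h.amb.frame
  choose c hc using hsig
  let Y := LinearMap.BilinForm.orthogonal (QuadraticMap.polarBilin Fr.q) (Submodule.span (ZMod 2) {Fr.cls s})
  have hY : ∀ x ∈ R, Fr.cls x ∈ Y ↔ anti x s = 0 := by
    intro x hx
    rw [LinearMap.BilinForm.mem_orthogonal_iff, ← Fr.bil_cls hx hs]
    constructor
    · intro e; rw [QSpace.bil_comm]; exact e _ (Submodule.mem_span_singleton_self _)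
    · intro e a ha
      obtain ⟨k, rfl⟩ := Submodule.mem_span_singleton.mp ha
      show QuadraticMap.polarBilin Fr.q _ (Fr.cls x) = 0
      rw [map_smul, LinearMap.smul_apply, QSpace.bil_comm, e, smul_zero]
  have hrs : ∀ a : Y, anti (Fr.rep a.1) s = 0 := fun a =>
    (hY _ (Fr.rep_mem _)).mp (by rw [Fr.cls_rep]; exact a.2)
  have huniq : ∀ (x : 𝔸ˣ) (hx : x ∈ R) (hxs : anti x s = 0) (k : ZMod 2),
      m * blk F s x = blk F s (sgn k) * (blk F s x * m) → c x hx hxs = k := fun x hx hxs k e =>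
    h.blk_sgn_inj hs hs2 hs0 (mul_right_cancel ((hc x hx hxs).symm.trans e))
  have hneg : ∀ (x : 𝔸ˣ) (hx : x ∈ R) (hxs : anti x s = 0) (x' : 𝔸ˣ) (hx' : x' ∈ R) (hx's : anti x' s = 0),
      Fr.cls x = Fr.cls x' → c x hx hxs = c x' hx' hx's := by
    intro x hx hxs x' hx' hx's e
    rcases (Fr.cls_eq_iff hx hx').mp e with rfl | rfl
    · rfl
    · refine huniq _ hx hxs _ ?_
      have e' := hc x' hx' hx's
      rw [h.blk_neg hs hs2 (anti_eq_zero.mp hx's), ← mul_assoc m, mul_neg, hms, ← neg_mul, mul_assoc (-s) m, e',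
        ← mul_assoc, ← h.blk_neg_one hs hs2, ← h.blk_sgn_comm hs hs2 hs0 _ (h.blk_comm hs hs2 (g := (-1 : 𝔸ˣ)) (by simp))]
      simp only [mul_assoc]
  let φ : Y →+ ZMod 2 := AddMonoidHom.mk' (fun a => c (Fr.rep a.1) (Fr.rep_mem _) (hrs a)) fun a a' => by
    have hmm := R.mul_mem (Fr.rep_mem a.1) (Fr.rep_mem a'.1)
    have hms' : anti (Fr.rep a.1 * Fr.rep a'.1) s = 0 := by
      rw [Fr.anti_mul_left (Fr.rep_mem _) (Fr.rep_mem _) hs, hrs, hrs, add_zero]
    refine (hneg _ (Fr.rep_mem _) (hrs (a + a')) _ hmm hms' (by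
      rw [Fr.cls_mul (Fr.rep_mem _) (Fr.rep_mem _), Fr.cls_rep, Fr.cls_rep, Fr.cls_rep]; rfl)).trans (huniq _ hmm hms' _ ?_)
    rw [h.blk_mul hs hs2 (anti_eq_zero.mp (hrs a)) (anti_eq_zero.mp (hrs a')), ← mul_assoc,
      hc _ (Fr.rep_mem a.1) (hrs a), mul_assoc, mul_assoc, hc _ (Fr.rep_mem a'.1) (hrs a'), sgn_add,
      h.blk_mul hs hs2 (sgn_comm _ s) (sgn_comm _ s), ← mul_assoc (blk F s (Fr.rep a.1)),
      ← h.blk_sgn_comm hs hs2 hs0 _ (h.blk_comm hs hs2 (anti_eq_zero.mp (hrs a)))]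
    simp only [mul_assoc]
  obtain ⟨a, ha⟩ := Fr.qspace.exists_rep Y (φ.toZModLinearMap 2)
  have hw := Fr.rep_mem a
  have hval : ∀ x (hx : x ∈ R) (hxs : anti x s = 0), anti (Fr.rep a) x = c x hx hxs := by
    intro x hx hxs
    rw [← Fr.bil_cls hw hx, Fr.cls_rep, ha ⟨Fr.cls x, (hY x hx).mpr hxs⟩]
    exact hneg _ (Fr.rep_mem _) _ x hx hxs (Fr.cls_rep _)
  have hss : anti s s = 0 := anti_eq_zero.mpr rfl
  have hws : anti (Fr.rep a) s = 0 := by
    rw [hval s hs hss]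
    exact huniq s hs hss 0 (by rw [sgn_zero, h.blk_one hs hs2, h.blk_self hs hs2]; simp)
  set w := Fr.rep a with hwdef
  have hws' := anti_eq_zero.mp hws
  -- the corrected element commutes with all restrictions
  let m₁ := (blk F s w)⁻¹ * m
  have hm₁ : m₁ ∈ M := M.mul_mem (M.inv_mem (h.blk_mem hs hs2 hs0 hw hws)) hm
  have hm₁s : m₁ * s = s * m₁ := by
    show (blk F s w)⁻¹ * m * s = s * ((blk F s w)⁻¹ * m)
    rw [mul_assoc, hms, ← mul_assoc, inv_comm (h.blk_comm hs hs2 hws'), mul_assoc]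
  have hm₁c : ∀ x ∈ R, anti x s = 0 → m₁ * blk F s x = blk F s x * m₁ := by
    intro x hx hxs
    show (blk F s w)⁻¹ * m * blk F s x = blk F s x * ((blk F s w)⁻¹ * m)
    rw [mul_assoc, hc x hx hxs, inv_mul_eq_iff_eq_mul, ← mul_assoc (blk F s w),
      h.blk_swap hs hs2 hs0 hw hws hx hxs, hval x hx hxs]
    simp only [mul_assoc, mul_inv_cancel_left]
  let e : 𝔸 := (m₁ : 𝔸) * ep F s
  obtain ⟨α, β, hαβ⟩ := Fr.exists_lin hs e fun x hx hxs => by
    have hxs' := anti_eq_zero.mp hxs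
    have e1 := congrArg (fun u : 𝔸ˣ => (u : 𝔸) * ep F s) (hm₁c x hx hxs)
    simp only [Units.val_mul, h.blk_val hs hs2 hxs', blkVal] at e1
    have hl : (m₁ : 𝔸) * ((x : 𝔸) * ep F s + em F s) * ep F s = (m₁ : 𝔸) * ((x : 𝔸) * ep F s) := by
      rw [mul_assoc, add_mul, mul_assoc, h.ep_mul_ep hs hs2, h.em_mul_ep hs hs2, add_zero]
    have hr : ((x : 𝔸) * ep F s + em F s) * (m₁ : 𝔸) * ep F s = (x : 𝔸) * ((m₁ : 𝔸) * ep F s) := by
      rw [mul_assoc, ← h.commute_ep hs hs2 hm₁s, ← mul_assoc, add_mul, mul_assoc, h.ep_mul_ep hs hs2,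
        h.em_mul_ep hs hs2, add_zero, mul_assoc, h.commute_ep hs hs2 hm₁s]
    rw [hl, hr] at e1
    show (x : 𝔸) * e = e * x
    rw [show e = (m₁ : 𝔸) * ep F s from rfl, ← e1, mul_assoc (m₁ : 𝔸) (ep F s), h.commute_ep hs hs2 hxs']
  have heP : e = (α + β) • ep F s := by
    have e2 : e * ep F s = e := by
      show (m₁ : 𝔸) * ep F s * ep F s = _
      rw [mul_assoc, h.ep_mul_ep hs hs2]
    have e3 : (s : 𝔸) * ep F s = ep F s := by rw [← h.commute_ep hs hs2 rfl, h.ep_mul_s hs hs2]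
    rw [← e2, hαβ, add_mul, smul_mul_assoc, smul_mul_assoc, one_mul, e3, ← add_smul]
  have hγ : (α + β) * (α + β) = 1 := by
    have a1 : adj (ep F s) = ep F s := by
      rw [ep, h.amb.adj_smul, h.amb.adj_add, h.amb.adj_one, h.amb.adj_mem s hs, inv_eq_of_mul_eq_one_right hs2]
    have e1 : adj e * e = ep F s := by
      show adj ((m₁ : 𝔸) * ep F s) * ((m₁ : 𝔸) * ep F s) = _
      rw [h.amb.adj_mul, a1, h.amb.adj_U (h.le hm₁), mul_assoc, ← mul_assoc ((m₁⁻¹ : 𝔸ˣ) : 𝔸), Units.inv_mul,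
        one_mul, h.ep_mul_ep hs hs2]
    rw [heP, h.amb.adj_smul, a1, smul_mul_smul_comm, h.ep_mul_ep hs hs2] at e1
    by_contra hne
    have : ((α + β) * (α + β) - 1) • ep F s = 0 := by rw [sub_smul, one_smul, e1, sub_self]
    exact h.ep_ne_zero hs hs2 hs0 ((smul_eq_zero.mp this).resolve_left (sub_ne_zero.mpr hne))
  have hns : (-s) ∈ R := Fr.neg_mem' hs
  have hn2 : (-s) * (-s) = 1 := by rw [neg_mul_neg, hs2]
  have hn0 : Fr.cls (-s) ≠ 0 := by rw [Fr.cls_neg hs]; exact hs0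
  have hanti : ∀ {x : 𝔸ˣ}, x ∈ R → anti x (-s) = anti x s := fun {x} _ => by
    rw [anti_comm, Fr.anti_neg_left hs, anti_comm]
  obtain ⟨m₂, hm₂, hm₂eq, hm₂N⟩ : ∃ m₂ ∈ M, (∃ b : ZMod 2, m₁ = blk F s (sgn b) * m₂) ∧
      (m₂ : 𝔸) * em F (-s) = em F (-s) := by
    rw [em_neg]
    rcases mul_self_eq_one_iff.mp hγ with e1 | e1
    · exact ⟨m₁, hm₁, ⟨0, by rw [sgn_zero, h.blk_one hs hs2, one_mul]⟩, by
        show e = _; rw [heP, e1, one_smul]⟩
    · refine ⟨-s * m₁, M.mul_mem (h.R_le hns) hm₁, ⟨1, by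
        rw [sgn_one, h.blk_neg_one hs hs2, ← mul_assoc, hn2, one_mul]⟩, ?_⟩
      rw [Units.val_mul, mul_assoc]
      show ((-s : 𝔸ˣ) : 𝔸) * e = _
      rw [heP, e1, mul_smul_comm, Units.val_neg, neg_mul, ← h.commute_ep hs hs2 rfl, h.ep_mul_s hs hs2,
        smul_neg, neg_one_smul, neg_neg]
  obtain ⟨b, hb⟩ := hm₂eq
  obtain ⟨w', hw', hw's, rfl⟩ := h.fix_eq hns hn2 hn0 hm₂ hm₂N
  rw [hanti hw'] at hw's
  have hys' := anti_eq_zero.mp hys
  have hyn : y * -s = -s * y := by rw [mul_neg, neg_mul, hys']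
  have hwn : w' * -s = -s * w' := by rw [mul_neg, neg_mul, anti_eq_zero.mp hw's]
  refine ⟨anti w' y, ?_⟩
  have hmeq : m = blk F s (sgn b * w) * blk F (-s) w' := by
    have e0 : m = blk F s w * m₁ := (mul_inv_cancel_left _ _).symm
    rw [e0, hb, ← mul_assoc, ← h.blk_sgn_comm hs hs2 hs0 b (h.blk_comm hs hs2 hws'),
      ← h.blk_mul hs hs2 (sgn_comm b s) hws']
  have hbw : sgn b * w * s = s * (sgn b * w) := by
    rw [mul_assoc, hws', ← mul_assoc, sgn_comm, mul_assoc]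
  have hc1 : ∀ z : 𝔸ˣ, z * -s = -s * z → blk F s (sgn b * w) * blk F (-s) z = blk F (-s) z * blk F s (sgn b * w) := by
    intro z hz
    have hzs : z * s = s * z := by rwa [mul_neg, neg_mul, neg_inj] at hz
    refine Units.ext ?_
    rw [Units.val_mul, Units.val_mul, h.blk_val hs hs2 hbw, h.blk_val hns hn2 hz, blkVal, blkVal, em_neg, ep_neg]
    simp only [mul_add, add_mul, mul_assoc]
    simp only [← mul_assoc (ep F s) (_ : 𝔸), ← mul_assoc (em F s) (_ : 𝔸), h.commute_ep hs hs2 hzs,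
      h.commute_em hs hs2 hzs, h.commute_ep hs hs2 hbw, h.commute_em hs hs2 hbw, mul_assoc, h.ep_mul_em hs hs2,
      h.em_mul_ep hs hs2, h.ep_mul_ep hs hs2, h.em_mul_em hs hs2, mul_zero, add_zero, zero_add]
    abel
  rw [hmeq]
  have k : ∀ a b' z : 𝔸ˣ, a * z = z * a → a * b' = b' * a → a * b' * z * (a * b')⁻¹ = b' * z * b'⁻¹ := by
    intro a b' z e1 e2
    rw [mul_inv_rev, e2]
    calc b' * a * z * (b'⁻¹ * a⁻¹) = b' * (a * z) * (b'⁻¹ * a⁻¹) := by group
      _ = b' * z * (a * b'⁻¹) * a⁻¹ := by rw [e1]; group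
      _ = b' * z * (b'⁻¹ * a) * a⁻¹ := by
          rw [show a * b'⁻¹ = b'⁻¹ * a from by
            rw [eq_inv_mul_iff_mul_eq, ← mul_assoc, ← e2, mul_inv_cancel_right]]
      _ = _ := by group
  rw [k _ _ _ (hc1 y hyn) (hc1 w' hwn), h.blk_swap hns hn2 hn0 hw' (by rw [hanti hw', hw's]) hy
    (by rw [hanti hy, hys]), ← mul_assoc, mul_inv_cancel_right]

/-- The centraliser of an involution of the group normalises the group. -/
theorem centralizer_normalizes {g : 𝔸ˣ} (hg : g ∈ M) (hgs : g * s = s * g) :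
    g ∈ Subgroup.normalizer (R : Set 𝔸ˣ) := by
  classical
  haveI := h.amb.finA
  haveI := h.amb.finite
  set Fr := h.amb.frame
  have hns : (-s) ∈ R := Fr.neg_mem' hs
  have hn2 : (-s) * (-s) = 1 := by rw [neg_mul_neg, hs2]
  have hn0 : Fr.cls (-s) ≠ 0 := by rw [Fr.cls_neg hs]; exact hs0
  have hanti : ∀ {x : 𝔸ˣ}, x ∈ R → anti x (-s) = anti x s := fun {x} _ => by
    rw [anti_comm, Fr.anti_neg_left hs, anti_comm]
  have hcn : ∀ {x : 𝔸ˣ}, x * s = s * x → x * -s = -s * x := fun {x} e => by rw [mul_neg, neg_mul, e]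
  have hgn := hcn hgs
  have imgP : ∀ w ∈ R, anti w s = 0 → ∃ w' ∈ R, anti w' s = 0 ∧ g * blk F s w * g⁻¹ = blk F s w' :=
    fun w hw hws => h.exists_image hs hs2 hs0 hg hgs hw hws
  have imgN : ∀ w ∈ R, anti w s = 0 → ∃ w' ∈ R, anti w' s = 0 ∧ g * blk F (-s) w * g⁻¹ = blk F (-s) w' := by
    intro w hw hws
    obtain ⟨w', hw', hw's, e⟩ := h.exists_image hns hn2 hn0 hg hgn hw (by rw [hanti hw, hws])
    exact ⟨w', hw', by rwa [hanti hw'] at hw's, e⟩
  have preN : ∀ z ∈ R, anti z s = 0 → ∃ x ∈ R, anti x s = 0 ∧ g * blk F (-s) x * g⁻¹ = blk F (-s) z := by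
    intro z hz hzs
    obtain ⟨x, hx, hxs, e⟩ := h.exists_image hns hn2 hn0 (M.inv_mem hg) (inv_comm hgn) hz (by rw [hanti hz, hzs])
    exact ⟨x, hx, by rwa [hanti hx] at hxs, by rw [← e]; group⟩
  have preP : ∀ z ∈ R, anti z s = 0 → ∃ x ∈ R, anti x s = 0 ∧ g * blk F s x * g⁻¹ = blk F s z := by
    intro z hz hzs
    obtain ⟨x, hx, hxs, e⟩ := h.exists_image hs hs2 hs0 (M.inv_mem hg) (inv_comm hgs) hz hzs
    exact ⟨x, hx, hxs, by rw [← e]; group⟩
  let SS := Submodule.span (ZMod 2) ({Fr.cls s} : Set Fr.A)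
  have hSs : ∀ a ∈ SS, ∀ z ∈ R, anti z s = 0 → QuadraticMap.polarBilin Fr.q (Fr.cls z) a = 0 := by
    intro a ha z hz hzs
    obtain ⟨k, rfl⟩ := Submodule.mem_span_singleton.mp ha
    rw [map_smul, Fr.bil_cls hz hs, hzs, smul_zero]
  -- the two images of an element of square minus one agree modulo `s`
  have key : ∀ u ∈ R, anti u s = 0 → u * u = -1 → ∀ up ∈ R, anti up s = 0 → g * blk F s u * g⁻¹ = blk F s up →
      ∀ un ∈ R, anti un s = 0 → g * blk F (-s) u * g⁻¹ = blk F (-s) un → Fr.cls up + Fr.cls un ∈ SS := by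
    intro u hu hus hu2 up hup hups eup un hun huns eun
    -- for each partner, the image lies in the span
    have step : ∀ v ∈ R, anti v s = 0 → v * v = -1 → anti u v = 1 → ∀ vn ∈ R, anti vn s = 0 →
        g * blk F (-s) v * g⁻¹ = blk F (-s) vn →
        ∃ k l : ZMod 2, Fr.cls up + (k • Fr.cls un + l • Fr.cls vn) ∈ SS := by
      intro v hv hvs hv2 huv vn hvn hvns evn
      obtain ⟨vp, hvp, hvps, evp⟩ := imgP v hv hvs
      have hup2 : up * up = -1 := by
        rw [← Fr.sqc_one hup, h.image_sqc hs hs2 hs0 hgs hu hus hup hups eup, Fr.sqc_one hu, hu2]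
      have hvp2 : vp * vp = -1 := by
        rw [← Fr.sqc_one hvp, h.image_sqc hs hs2 hs0 hgs hv hvs hvp hvps evp, Fr.sqc_one hv, hv2]
      have hab : anti up vp = 1 := by rw [h.image_anti hs hs2 hs0 hgs hu hus hv hvs hup hups hvp hvps eup evp, huv]
      obtain ⟨T, hT, hTv⟩ := h.amb.pair_mem hu hv hu2 hv2
      obtain ⟨T', hT', hT'v⟩ := h.amb.pair_mem hup hvp hup2 hvp2
      have hTM : T ∈ M := h.mem T hT (h.amb.pair_normalizes hu hv hu2 hv2 hTv)
      have hT'M : T' ∈ M := h.mem T' hT' (h.amb.pair_normalizes hup hvp hup2 hvp2 hT'v)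
      have hTs : T * s = s * T := h.amb.pair_comm hTv (anti_eq_zero.mp hus).symm (anti_eq_zero.mp hvs).symm
      have hT's : T' * s = s * T' := h.amb.pair_comm hT'v (anti_eq_zero.mp hups).symm (anti_eq_zero.mp hvps).symm
      have hcs : g * T * g⁻¹ * s = s * (g * T * g⁻¹) := conj_comm hgs hTs
      let m := T'⁻¹ * (g * T * g⁻¹)
      have hm : m ∈ M := M.mul_mem (M.inv_mem hT'M) (M.mul_mem (M.mul_mem hg hTM) (M.inv_mem hg))
      have hms : m * s = s * m := by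
        show T'⁻¹ * (g * T * g⁻¹) * s = s * (T'⁻¹ * (g * T * g⁻¹))
        rw [mul_assoc, hcs, ← mul_assoc, inv_comm hT's, mul_assoc]
      -- it acts by signs on the positive side
      have hsig : ∀ z ∈ R, anti z s = 0 → ∃ c : ZMod 2, m * blk F s z = blk F s (sgn c) * (blk F s z * m) := by
        intro z hz hzs
        obtain ⟨x, hx, hxs, ex⟩ := preP z hz hzs
        obtain ⟨y₁, hy₁, ey₁, hcy₁⟩ := h.amb.pair_act hu hv hu2 hv2 hTv hx
        obtain ⟨y₂, hy₂, ey₂, hcy₂⟩ := h.amb.pair_act hup hvp hup2 hvp2 hT'v hz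
        have hy₁s : anti y₁ s = 0 := by rw [← ey₁, anti_eq_zero]; exact conj_comm hTs (anti_eq_zero.mp hxs)
        have hy₂s : anti y₂ s = 0 := by rw [← ey₂, anti_eq_zero]; exact conj_comm hT's (anti_eq_zero.mp hzs)
        obtain ⟨y', hy', hy's, ey'⟩ := imgP y₁ hy₁ hy₁s
        have hcl := h.image_tt hs hs2 hs0 hgs hu hus hv hvs hu2 hv2 hTv hx hxs ey₁.symm hup hups hvp hvps hz hzs
          hy' hy's eup evp ex ey'
        rw [← hcy₂] at hcl
        obtain ⟨c, hc⟩ : ∃ c : ZMod 2, blk F s y' = blk F s (sgn c) * blk F s y₂ := by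
          obtain ⟨k, hk⟩ := Submodule.mem_span_singleton.mp hcl
          have hd : Fr.cls y' = Fr.cls y₂ ∨ Fr.cls y' = Fr.cls (s * y₂) := by
            rcases two_cases k with rfl | rfl
            · left; rw [zero_smul] at hk
              exact (eq_neg_of_add_eq_zero_left hk.symm).trans (ZModModule.neg_eq_self _)
            · right; rw [one_smul] at hk
              rw [Fr.cls_mul hs hy₂, hk, add_assoc, ZModModule.add_self, add_zero]
          rcases hd with e | e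
          · rcases (Fr.cls_eq_iff hy' hy₂).mp e with rfl | rfl
            · exact ⟨0, by rw [sgn_zero, h.blk_one hs hs2, one_mul]⟩
            · exact ⟨1, by rw [sgn_one, h.blk_neg_one hs hs2, h.blk_neg hs hs2 (anti_eq_zero.mp hy₂s)]⟩
          · have hsy : s * y₂ * s = s * (s * y₂) := by rw [mul_assoc, anti_eq_zero.mp hy₂s]
            rcases (Fr.cls_eq_iff hy' (R.mul_mem hs hy₂)).mp e with rfl | rfl
            · exact ⟨0, by rw [sgn_zero, h.blk_one hs hs2, one_mul,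
                h.blk_mul hs hs2 rfl (anti_eq_zero.mp hy₂s), h.blk_self hs hs2, one_mul]⟩
            · exact ⟨1, by rw [sgn_one, h.blk_neg_one hs hs2, h.blk_neg hs hs2 hsy,
                h.blk_mul hs hs2 rfl (anti_eq_zero.mp hy₂s), h.blk_self hs hs2, one_mul]⟩
        refine ⟨c, mul_inv_eq_iff_eq_mul.mp ?_ |>.trans (mul_assoc _ _ _)⟩
        have e1 : (g * T * g⁻¹) * blk F s z * (g * T * g⁻¹)⁻¹ = blk F s y' := by
          rw [← ex, ← ey', ← ey₁, ← h.blk_conj hs hs2 hTs (anti_eq_zero.mp hxs)]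
          group
        show T'⁻¹ * (g * T * g⁻¹) * blk F s z * (T'⁻¹ * (g * T * g⁻¹))⁻¹ = _
        calc T'⁻¹ * (g * T * g⁻¹) * blk F s z * (T'⁻¹ * (g * T * g⁻¹))⁻¹
            = T'⁻¹ * ((g * T * g⁻¹) * blk F s z * (g * T * g⁻¹)⁻¹) * T' := by group
          _ = T'⁻¹ * blk F s (sgn c) * (blk F s y₂) * T' := by rw [e1, hc, ← mul_assoc]
          _ = blk F s (sgn c) * (T'⁻¹ * (T' * blk F s z * T'⁻¹) * T') := by
              rw [← h.blk_sgn_comm hs hs2 hs0 c (inv_comm hT's), h.blk_conj hs hs2 hT's (anti_eq_zero.mp hzs), ey₂]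
              simp only [mul_assoc]
          _ = _ := by group
      -- on the other side
      have hvn2 : vn * vn = -1 := by
        rw [← Fr.sqc_one hvn, h.image_sqc hns hn2 hn0 hgn hv (by rw [hanti hv, hvs]) hvn
          (by rw [hanti hvn, hvns]) evn, Fr.sqc_one hv, hv2]
      have hb : Fr.cls up ∉ Submodule.span (ZMod 2) ({Fr.cls vp, Fr.cls s} : Set Fr.A) := by
        intro hm
        obtain ⟨k, l, hkl⟩ := Submodule.mem_span_pair.mp hm
        have := Fr.bil_cls hup hvp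
        rw [← hkl, map_add, map_smul, map_smul, LinearMap.add_apply, LinearMap.smul_apply, LinearMap.smul_apply,
          QSpace.bil_self, QSpace.bil_comm (Fr.cls s), Fr.bil_cls hvp hs, hvps, hab] at this
        simp at this
      obtain ⟨z₀, hz₀, hz₀a⟩ := Fr.qspace.exists_sep hb
      obtain ⟨z, hz, rfl⟩ := Fr.cls_surj z₀
      have hzv : anti z vp = 0 := by
        rw [← Fr.bil_cls hz hvp, hz₀ _ (Submodule.subset_span (by simp))]
      have hzs : anti z s = 0 := by rw [← Fr.bil_cls hz hs, hz₀ _ (Submodule.subset_span (by simp))]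
      obtain ⟨x, hx, hxs, ex⟩ := preN z hz hzs
      obtain ⟨y₁, hy₁, ey₁, hcy₁⟩ := h.amb.pair_act hu hv hu2 hv2 hTv hx
      obtain ⟨y₂, hy₂, ey₂, hcy₂⟩ := h.amb.pair_act hup hvp hup2 hvp2 hT'v hz
      have hy₁s : anti y₁ s = 0 := by rw [← ey₁, anti_eq_zero]; exact conj_comm hTs (anti_eq_zero.mp hxs)
      have hy₂s : anti y₂ s = 0 := by rw [← ey₂, anti_eq_zero]; exact conj_comm hT's (anti_eq_zero.mp hzs)
      obtain ⟨y', hy', hy's, ey'⟩ := imgN y₁ hy₁ hy₁s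
      have hcl := h.image_tt hns hn2 hn0 hgn hu (by rw [hanti hu, hus]) hv (by rw [hanti hv, hvs]) hu2 hv2 hTv hx
        (by rw [hanti hx, hxs]) ey₁.symm hun (by rw [hanti hun, huns]) hvn (by rw [hanti hvn, hvns]) hz
        (by rw [hanti hz, hzs]) hy' (by rw [hanti hy', hy's]) eun evn ex ey'
      rw [Fr.cls_neg hs] at hcl
      obtain ⟨c, hc⟩ := h.signs_other hs hs2 hs0 hm hms hsig hz hzs
      have hy'2 : Fr.cls y' + Fr.cls y₂ ∈ SS := by
        have e2 := h.cls_of_blk hns hn2 hn0 hy' (by rw [hanti hy', hy's]) hy₂ (by rw [hanti hy₂, hy₂s])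
          (c := c) (by
          have e1 : (g * T * g⁻¹) * blk F (-s) z * (g * T * g⁻¹)⁻¹ = blk F (-s) y' := by
            rw [← ex, ← ey', ← ey₁, ← h.blk_conj hns hn2 (hcn hTs) (hcn (anti_eq_zero.mp hxs))]
            group
          calc blk F (-s) y' = T' * (m * blk F (-s) z * m⁻¹) * T'⁻¹ := by rw [← e1]; simp only [m]; group
            _ = T' * blk F (-s) (sgn c) * blk F (-s) z * T'⁻¹ := by rw [hc, ← mul_assoc]
            _ = blk F (-s) (sgn c) * (T' * blk F (-s) z * T'⁻¹) := by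
                rw [← h.blk_sgn_comm hns hn2 hn0 c (hcn hT's)]; group
            _ = _ := by rw [h.blk_conj hns hn2 (hcn hT's) (hcn (anti_eq_zero.mp hzs)), ey₂])
        rwa [Fr.cls_neg hs] at e2
      have hsum := SS.add_mem hcl hy'2
      have hzu : anti z up = 1 := by rw [← Fr.bil_cls hz hup, hz₀a]
      rw [hcy₂, tt, tt, QSpace.tr_of_zero (v := Fr.cls vp) (by rw [Fr.bil_cls hz hvp, hzv]),
        QSpace.tr_of_one (v := Fr.cls up) (by rw [Fr.bil_cls hz hup, hzu]), tr, tr] at hsum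
      set Bz := QuadraticMap.polarBilin Fr.q
      refine ⟨Bz (Fr.cls z + Bz (Fr.cls z) (Fr.cls vn) • Fr.cls vn) (Fr.cls un), Bz (Fr.cls z) (Fr.cls vn), ?_⟩
      convert hsum using 1
      generalize Bz (Fr.cls z + Bz (Fr.cls z) (Fr.cls vn) • Fr.cls vn) (Fr.cls un) = k
      generalize Bz (Fr.cls z) (Fr.cls vn) = l
      have e0 : ∀ a : Fr.A, a + a = 0 := ZModModule.add_self
      calc Fr.cls up + (k • Fr.cls un + l • Fr.cls vn)
          = Fr.cls up + (k • Fr.cls un + l • Fr.cls vn) + (Fr.cls y' + Fr.cls y') + (Fr.cls z + Fr.cls z) := by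
            rw [e0, e0, add_zero, add_zero]
        _ = _ := by abel
    -- choose two partners
    have hu0 : Fr.cls u ∉ Submodule.span (ZMod 2) {Fr.cls s} := by
      intro hm
      have hqu : Fr.q (Fr.cls u) = 1 := by rw [Fr.q_cls hu, Fr.sqc_one hu, hu2]
      obtain ⟨k, hk⟩ := Submodule.mem_span_singleton.mp hm
      rcases two_cases k with rfl | rfl
      · rw [zero_smul] at hk; rw [← hk, QuadraticMap.map_zero] at hqu; exact zero_ne_one hqu
      · rw [one_smul] at hk; rw [← hk, Fr.q_cls hs, (Fr.sqc_zero hs).mpr hs2] at hqu; exact zero_ne_one hqu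
    obtain ⟨p₀, hp₀s, hp₀u⟩ := Fr.qspace.exists_sep hu0
    have hbig := h.amb.big
    obtain ⟨p₁, hp₁, hp₁S⟩ := Fr.qspace.exists_ns (S := Submodule.span (ZMod 2) ({Fr.cls u, Fr.cls s} : Set Fr.A))
      p₀ (Or.inl (by have := QSpace.span_two (Fr.cls u) (Fr.cls s); omega))
    obtain ⟨v₁, hv₁, rfl⟩ := Fr.cls_surj p₁
    rw [Fr.q_cls hv₁, Fr.sqc_one hv₁] at hp₁
    have huv₁ : anti u v₁ = 1 := by
      rw [anti_comm, ← Fr.bil_cls hv₁ hu, hp₁S _ (Submodule.subset_span (by simp)), hp₀u]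
    have hv₁s : anti v₁ s = 0 := by
      rw [← Fr.bil_cls hv₁ hs, hp₁S _ (Submodule.subset_span (by simp)), hp₀s _ (Submodule.mem_span_singleton_self _)]
    let S₃ := Submodule.span (ZMod 2) ({Fr.cls u, Fr.cls v₁, Fr.cls s} : Set Fr.A)
    have hS₃ : finrank (ZMod 2) S₃ ≤ 3 := Fr.qspace.finrank_span_three _ _ _
    let Y := LinearMap.BilinForm.orthogonal (QuadraticMap.polarBilin Fr.q) (Submodule.span (ZMod 2) {Fr.cls s})
    have hYd : 7 ≤ finrank (ZMod 2) Y := by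
      show 7 ≤ finrank (ZMod 2) ↥(LinearMap.BilinForm.orthogonal _ _)
      rw [Fr.qspace.finrank_orth, finrank_span_singleton hs0]; omega
    obtain ⟨x₀, hx₀Y, hx₀⟩ : ∃ x₀ ∈ Y, x₀ ∉ S₃ := by
      by_contra hne
      push Not at hne
      have := Submodule.finrank_mono (show Y ≤ S₃ from hne)
      omega
    obtain ⟨zc, hzcS, hzcx⟩ := Fr.qspace.exists_sep hx₀
    obtain ⟨zz, hzz, rfl⟩ := Fr.cls_surj zc
    have hx₀s : QuadraticMap.polarBilin Fr.q x₀ (Fr.cls s) = 0 := by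
      rw [QSpace.bil_comm]
      exact LinearMap.BilinForm.mem_orthogonal_iff.mp hx₀Y _ (Submodule.mem_span_singleton_self _)
    set Bf := QuadraticMap.polarBilin Fr.q with hBf
    let x₁ := x₀ + Bf x₀ (Fr.cls v₁) • Fr.cls u + Bf x₀ (Fr.cls u) • Fr.cls v₁
    have b1 : Bf (Fr.cls u) (Fr.cls v₁) = 1 := by rw [hBf, Fr.bil_cls hu hv₁, huv₁]
    have b1' : Bf (Fr.cls v₁) (Fr.cls u) = 1 := by rw [hBf, QSpace.bil_comm]; exact b1
    have b2 : Bf (Fr.cls u) (Fr.cls s) = 0 := by rw [hBf, Fr.bil_cls hu hs, hus]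
    have b3 : Bf (Fr.cls v₁) (Fr.cls s) = 0 := by rw [hBf, Fr.bil_cls hv₁ hs, hv₁s]
    have b4 : Bf (Fr.cls u) (Fr.cls u) = 0 := QSpace.bil_self _
    have b5 : Bf (Fr.cls v₁) (Fr.cls v₁) = 0 := QSpace.bil_self _
    have b6 : Bf (Fr.cls u) (Fr.cls zz) = 0 := (QSpace.bil_comm _ _).trans (hzcS _ (Submodule.subset_span (by simp)))
    have b7 : Bf (Fr.cls v₁) (Fr.cls zz) = 0 := (QSpace.bil_comm _ _).trans (hzcS _ (Submodule.subset_span (by simp)))
    have b8 : Bf x₀ (Fr.cls zz) = 1 := (QSpace.bil_comm _ _).trans hzcx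
    let S₄ := S₃ ⊔ Submodule.span (ZMod 2) {Fr.cls zz}
    have hS₄ : finrank (ZMod 2) S₄ ≤ 4 := by
      have h1 := Submodule.finrank_sup_add_finrank_inf_eq S₃ (Submodule.span (ZMod 2) {Fr.cls zz})
      have h2 := finrank_span_le_card (R := ZMod 2) ({Fr.cls zz} : Set Fr.A)
      simp only [Set.toFinset_singleton, Finset.card_singleton] at h2
      show finrank (ZMod 2) ↥(S₃ ⊔ Submodule.span (ZMod 2) {Fr.cls zz}) ≤ 4
      omega
    have m3 : ∀ a ∈ ({Fr.cls u, Fr.cls v₁, Fr.cls s} : Set Fr.A), a ∈ S₄ := fun a ha =>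
      Submodule.mem_sup_left (Submodule.subset_span ha)
    obtain ⟨p₂, hp₂, hp₂S⟩ := Fr.qspace.exists_ns (S := S₄) (Fr.cls v₁ + x₁)
      (Or.inr ⟨by omega, Fr.cls v₁, m3 _ (by simp), by
        rw [Fr.q_cls hv₁, (Fr.sqc_one hv₁).mpr hp₁]
        show 1 + Bf (Fr.cls v₁ + x₁) (Fr.cls v₁) = 1
        simp only [x₁, map_add, map_smul, LinearMap.add_apply, LinearMap.smul_apply, smul_eq_mul, b1, b5,
          mul_one, mul_zero, add_zero, zero_add, CharTwo.add_self_eq_zero]⟩)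
    obtain ⟨v₂, hv₂, rfl⟩ := Fr.cls_surj p₂
    rw [Fr.q_cls hv₂, Fr.sqc_one hv₂] at hp₂
    have huv₂ : anti u v₂ = 1 := by
      rw [anti_comm, ← Fr.bil_cls hv₂ hu, hp₂S _ (m3 _ (by simp))]
      show Bf (Fr.cls v₁ + x₁) (Fr.cls u) = 1
      simp only [x₁, map_add, map_smul, LinearMap.add_apply, LinearMap.smul_apply, smul_eq_mul, b1', b4,
        mul_one, mul_zero, add_zero, zero_add, CharTwo.add_self_eq_zero]
    have hv₂s : anti v₂ s = 0 := by
      rw [← Fr.bil_cls hv₂ hs, hp₂S _ (m3 _ (by simp))]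
      show Bf (Fr.cls v₁ + x₁) (Fr.cls s) = 0
      simp only [x₁, map_add, map_smul, LinearMap.add_apply, LinearMap.smul_apply, smul_eq_mul, b2, b3, hx₀s,
        mul_zero, add_zero]
    have hv₂z : anti v₂ zz = 1 := by
      rw [← Fr.bil_cls hv₂ hzz, hp₂S _ (Submodule.mem_sup_right (Submodule.mem_span_singleton_self _))]
      show Bf (Fr.cls v₁ + x₁) (Fr.cls zz) = 1
      simp only [x₁, map_add, map_smul, LinearMap.add_apply, LinearMap.smul_apply, smul_eq_mul, b6, b7, b8,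
        mul_zero, add_zero, zero_add]
    have hzzs : anti zz s = 0 := by
      rw [← Fr.bil_cls hzz hs, hzcS _ (Submodule.subset_span (by simp))]
    obtain ⟨n₁, hn₁, hn₁s, en₁⟩ := imgN v₁ hv₁ hv₁s
    obtain ⟨n₂, hn₂, hn₂s, en₂⟩ := imgN v₂ hv₂ hv₂s
    obtain ⟨nz, hnz, hnzs, enz⟩ := imgN zz hzz hzzs
    obtain ⟨k₁, l₁, e₁⟩ := step v₁ hv₁ hv₁s hp₁ huv₁ n₁ hn₁ hn₁s en₁
    obtain ⟨k₂, l₂, e₂⟩ := step v₂ hv₂ hv₂s hp₂ huv₂ n₂ hn₂ hn₂s en₂
    have tn : ∀ {x}, x ∈ R → anti x s = 0 → anti x (-s) = 0 := fun hx e => by rw [hanti hx, e]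
    have i1 : anti nz un = 0 := by
      rw [h.image_anti hns hn2 hn0 hgn hzz (tn hzz hzzs) hu (tn hu hus) hnz (tn hnz hnzs) hun (tn hun huns) enz eun,
        ← Fr.bil_cls hzz hu, hzcS _ (Submodule.subset_span (by simp))]
    have i2 : anti nz n₁ = 0 := by
      rw [h.image_anti hns hn2 hn0 hgn hzz (tn hzz hzzs) hv₁ (tn hv₁ hv₁s) hnz (tn hnz hnzs) hn₁ (tn hn₁ hn₁s) enz en₁,
        ← Fr.bil_cls hzz hv₁, hzcS _ (Submodule.subset_span (by simp))]
    have i3 : anti nz n₂ = 1 := by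
      rw [h.image_anti hns hn2 hn0 hgn hzz (tn hzz hzzs) hv₂ (tn hv₂ hv₂s) hnz (tn hnz hnzs) hn₂ (tn hn₂ hn₂s) enz en₂,
        anti_comm, hv₂z]
    have hd := hSs _ (SS.add_mem e₁ e₂) nz hnz hnzs
    have j1 : Bf (Fr.cls nz) (Fr.cls un) = 0 := by rw [hBf, Fr.bil_cls hnz hun, i1]
    have j2 : Bf (Fr.cls nz) (Fr.cls n₁) = 0 := by rw [hBf, Fr.bil_cls hnz hn₁, i2]
    have j3 : Bf (Fr.cls nz) (Fr.cls n₂) = 1 := by rw [hBf, Fr.bil_cls hnz hn₂, i3]
    simp only [map_add, map_smul, smul_eq_mul, j1, j2, j3, mul_zero, mul_one, add_zero, zero_add] at hd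
    rw [← add_assoc, CharTwo.add_self_eq_zero, zero_add] at hd
    rw [hd, zero_smul, add_zero] at e₂
    rcases two_cases k₂ with rfl | rfl
    · rw [zero_smul, add_zero] at e₂
      exfalso
      obtain ⟨vp, hvp, hvps, evp⟩ := imgP v₁ hv₁ hv₁s
      have := hSs _ e₂ vp hvp hvps
      rw [Fr.bil_cls hvp hup, anti_comm, h.image_anti hs hs2 hs0 hgs hu hus hv₁ hv₁s hup hups hvp hvps eup evp,
        huv₁] at this
      exact one_ne_zero this
    · rwa [one_smul] at e₂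
  -- both images of any element agree modulo `s`
  have keyAll : ∀ w ∈ R, anti w s = 0 → ∀ wp ∈ R, anti wp s = 0 → g * blk F s w * g⁻¹ = blk F s wp →
      ∀ wn ∈ R, anti wn s = 0 → g * blk F (-s) w * g⁻¹ = blk F (-s) wn → Fr.cls wp + Fr.cls wn ∈ SS := by
    intro w hw hws wp hwp hwps ewp wn hwn hwns ewn
    rcases Fr.sq w hw with e | e
    swap
    · exact key w hw hws e wp hwp hwps ewp wn hwn hwns ewn
    obtain ⟨c, hc, d, hd, hc2, hd2, hcs, hds, hwcd⟩ := h.amb.exists_factor hw hs hws e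
    obtain ⟨cp, hcp, hcps, ecp⟩ := imgP c hc hcs
    obtain ⟨dp, hdp, hdps, edp⟩ := imgP d hd hds
    obtain ⟨cn, hcn', hcns, ecn⟩ := imgN c hc hcs
    obtain ⟨dn, hdn, hdns, edn⟩ := imgN d hd hds
    have a1 := h.image_mul hs hs2 hs0 hc hcs hd hds hcp hcps hdp hdps hwp hwps hwcd ecp edp ewp
    have a2 := h.image_mul hns hn2 hn0 hc (by rw [hanti hc, hcs]) hd (by rw [hanti hd, hds]) hcn'
      (by rw [hanti hcn', hcns]) hdn (by rw [hanti hdn, hdns]) hwn (by rw [hanti hwn, hwns]) hwcd ecn edn ewn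
    rw [Fr.cls_neg hs] at a2
    have a3 := key c hc hcs hc2 cp hcp hcps ecp cn hcn' hcns ecn
    have a4 := key d hd hds hd2 dp hdp hdps edp dn hdn hdns edn
    have := SS.add_mem (SS.add_mem a1 a2) (SS.add_mem a3 a4)
    convert this using 1
    have e0 : ∀ a : Fr.A, a + a = 0 := ZModModule.add_self
    calc Fr.cls wp + Fr.cls wn = Fr.cls wp + Fr.cls wn + (Fr.cls cp + Fr.cls cp) + (Fr.cls dp + Fr.cls dp)
          + (Fr.cls cn + Fr.cls cn) + (Fr.cls dn + Fr.cls dn) := by simp only [e0, add_zero]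
      _ = _ := by abel
  -- elements commuting with `s`
  have hconj : ∀ w ∈ R, anti w s = 0 → g * w * g⁻¹ ∈ R ∧ anti (g * w * g⁻¹) s = 0 := by
    intro w hw hws
    refine ⟨?_, anti_eq_zero.mpr (conj_comm hgs (anti_eq_zero.mp hws))⟩
    obtain ⟨wp, hwp, hwps, ewp⟩ := imgP w hw hws
    obtain ⟨wn, hwn, hwns, ewn⟩ := imgN w hw hws
    obtain ⟨k, hk⟩ := Submodule.mem_span_singleton.mp (keyAll w hw hws wp hwp hwps ewp wn hwn hwns ewn)
    have e : g * w * g⁻¹ = blk F s wp * blk F (-s) wn := by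
      rw [← ewp, ← ewn]
      conv_lhs => rw [← h.blk_neg_mul hs hs2 hs0 (anti_eq_zero.mp hws)]
      group
    have hwn' : wn = wp ∨ wn = -wp ∨ wn = wp * -s ∨ wn = -(wp * -s) := by
      have hm := R.mul_mem hwp hns
      rcases two_cases k with rfl | rfl
      · rw [zero_smul] at hk
        rcases (Fr.cls_eq_iff hwn hwp).mp ((eq_neg_of_add_eq_zero_right hk.symm).trans (ZModModule.neg_eq_self _))
          with e | e
        · exact Or.inl e
        · exact Or.inr (Or.inl e)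
      · rw [one_smul] at hk
        have hcl : Fr.cls wn = Fr.cls (wp * -s) := by
          rw [Fr.cls_mul hwp hns, Fr.cls_neg hs, hk, ← add_assoc, ZModModule.add_self, zero_add]
        rcases (Fr.cls_eq_iff hwn hm).mp hcl with e | e
        · exact Or.inr (Or.inr (Or.inl e))
        · exact Or.inr (Or.inr (Or.inr e))
    have hwps' := anti_eq_zero.mp hwps
    have hwsn : wp * -s * -s = -s * (wp * -s) := by rw [← mul_assoc (-s), ← hcn hwps']
    have b1 : blk F s wp * blk F (-s) wp = wp := h.blk_neg_mul hs hs2 hs0 hwps'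
    have b2 : blk F s wp * blk F (-s) (-wp) = wp * s := by
      rw [h.blk_neg hns hn2 (hcn hwps'), neg_neg, ← mul_assoc, h.blk_comm hs hs2 hwps', mul_assoc, b1, hwps']
    rcases hwn' with rfl | rfl | rfl | rfl
    · rw [e, b1]; exact hwp
    · rw [e, b2]; exact R.mul_mem hwp hs
    · rw [e, h.blk_mul hns hn2 (hcn hwps') rfl, h.blk_self hns hn2, mul_one, b1]; exact hwp
    · rw [e, h.blk_neg hns hn2 hwsn, h.blk_mul hns hn2 (hcn hwps') rfl, h.blk_self hns hn2, mul_one,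
        ← h.blk_neg hns hn2 (hcn hwps'), b2]
      exact R.mul_mem hwp hs
  have hconj' : ∀ w ∈ R, anti w s = 0 → g⁻¹ * w * g ∈ R ∧ anti (g⁻¹ * w * g) s = 0 := by
    intro w hw hws
    have hfin : Function.Surjective (fun x : {x : 𝔸ˣ // x ∈ R ∧ anti x s = 0} =>
        (⟨g * x.1 * g⁻¹, hconj x.1 x.2.1 x.2.2⟩ : {x : 𝔸ˣ // x ∈ R ∧ anti x s = 0})) :=
      Finite.surjective_of_injective fun a b e => Subtype.ext (mul_left_cancel (mul_right_cancel (congrArg Subtype.val e)))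
    obtain ⟨⟨x, hx, hxs⟩, e⟩ := hfin ⟨w, hw, hws⟩
    have e' : g * x * g⁻¹ = w := congrArg Subtype.val e
    have : g⁻¹ * w * g = x := by rw [← e']; group
    rw [this]; exact ⟨hx, hxs⟩
  obtain ⟨r, hr, hrs⟩ := h.exists_swap hs hs2 hs0
  have hrneg := (Fr.anti_one hr hs).mp hrs
  have hes : g * r * g⁻¹ * r⁻¹ * s = s * (g * r * g⁻¹ * r⁻¹) := by
    have hr' : r⁻¹ * s = -(s * r⁻¹) := by
      rw [inv_mul_eq_iff_eq_mul, mul_neg, ← mul_assoc, hrneg, neg_mul, neg_neg, mul_inv_cancel_right]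
    rw [mul_assoc, hr', mul_neg, ← mul_assoc, mul_assoc (g * r), inv_comm hgs, ← mul_assoc, mul_assoc g r s,
      hrneg, mul_neg, neg_mul, neg_mul, neg_neg, ← mul_assoc, hgs]
    simp only [mul_assoc]
  obtain ⟨u, hu, hus, hcomm⟩ := Fr.exists_twist (b := s) (e := g * r * g⁻¹ * r⁻¹) hs hes (by
    intro x hx hxs
    obtain ⟨hx', hx's⟩ := hconj' x hx hxs
    have hcl : g * r * g⁻¹ * r⁻¹ * x = sgn (anti r⁻¹ x + anti r (g⁻¹ * x * g)) * (x * (g * r * g⁻¹ * r⁻¹)) := by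
      calc g * r * g⁻¹ * r⁻¹ * x = g * r * g⁻¹ * (sgn (anti r⁻¹ x) * (x * r⁻¹)) := by
            rw [mul_assoc, ← Fr.comm_eq (R.inv_mem hr) hx]
        _ = sgn (anti r⁻¹ x) * (g * (r * (g⁻¹ * x * g)) * g⁻¹ * r⁻¹) := by
            rw [← mul_assoc (g * r * g⁻¹), ← sgn_comm]; group
        _ = sgn (anti r⁻¹ x) * (g * (sgn (anti r (g⁻¹ * x * g)) * ((g⁻¹ * x * g) * r)) * g⁻¹ * r⁻¹) := by
            rw [← Fr.comm_eq hr hx']
        _ = _ := by rw [← mul_assoc g, ← sgn_comm, sgn_add]; group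
    rcases two_cases (anti r⁻¹ x + anti r (g⁻¹ * x * g)) with e | e <;> rw [e] at hcl
    · left; rw [hcl, sgn_zero, one_mul]
    · right; rw [hcl, sgn_one, neg_one_mul])
  obtain ⟨α, β, hαβ⟩ := Fr.exists_lin hs ((g * r * g⁻¹ * r⁻¹ * u⁻¹ : 𝔸ˣ) : 𝔸) fun x hx hxs => by
    rw [← Units.val_mul, ← Units.val_mul, hcomm x hx hxs]
  have hmU : g * r * g⁻¹ * r⁻¹ * u⁻¹ ∈ U := by
    refine U.mul_mem ?_ (U.inv_mem (h.amb.R_le_U hu))
    exact U.mul_mem (U.mul_mem (U.mul_mem (h.le hg) (h.amb.R_le_U hr)) (U.inv_mem (h.le hg))) (U.inv_mem (h.amb.R_le_U hr))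
  have hsv : adj (s : 𝔸) = (s : 𝔸) := by rw [h.amb.adj_mem s hs, inv_eq_of_mul_eq_one_right hs2]
  have e1 := (h.amb.mem_U _).mp hmU
  rw [hαβ, h.amb.adj_add, h.amb.adj_smul, h.amb.adj_smul, h.amb.adj_one, hsv, add_mul, mul_add, mul_add,
    smul_mul_smul_comm, smul_mul_smul_comm, smul_mul_smul_comm, smul_mul_smul_comm, one_mul, one_mul, mul_one,
    h.val_sq hs hs2] at e1
  have h2ab : α * β + β * α = 0 := by
    by_contra hne
    have e3 : (α * β + β * α) • (s : 𝔸) = (1 - (α * α + β * β)) • (1 : 𝔸) := by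
      linear_combination (norm := module) e1
    have e4 : (s : 𝔸) = ((α * β + β * α)⁻¹ * (1 - (α * α + β * β))) • (1 : 𝔸) := by
      rw [← smul_smul, ← e3, inv_smul_smul₀ hne]
    have e5 : r * s = s * r := Units.ext (by
      rw [Units.val_mul, Units.val_mul, e4, mul_smul_comm, smul_mul_assoc, one_mul, mul_one])
    rw [anti_eq_zero.mpr e5] at hrs
    exact zero_ne_one hrs
  have hcases : (α = 0 ∧ β * β = 1) ∨ (β = 0 ∧ α * α = 1) := by
    have hab : α * β = 0 := by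
      have : (2 : F) * (α * β) = 0 := by rw [← h2ab]; ring
      exact (mul_eq_zero.mp this).resolve_left Fr.two
    have hone : α * α + β * β = 1 := by
      by_contra hne
      have e3 : (α * α + β * β - 1) • (1 : 𝔸) = 0 := by
        rw [sub_smul, one_smul, add_smul, sub_eq_zero]
        rw [mul_comm β α, hab, zero_smul] at e1
        simpa using e1
      exact hne (sub_eq_zero.mp ((smul_eq_zero.mp e3).resolve_right one_ne_zero))
    rcases mul_eq_zero.mp hab with rfl | rfl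
    · exact Or.inl ⟨rfl, by simpa using hone⟩
    · exact Or.inr ⟨rfl, by simpa using hone⟩
  have hmR : g * r * g⁻¹ * r⁻¹ * u⁻¹ ∈ R := by
    have key : ∀ t ∈ R, ((g * r * g⁻¹ * r⁻¹ * u⁻¹ : 𝔸ˣ) : 𝔸) = t ∨
        ((g * r * g⁻¹ * r⁻¹ * u⁻¹ : 𝔸ˣ) : 𝔸) = -(t : 𝔸) → g * r * g⁻¹ * r⁻¹ * u⁻¹ ∈ R := by
      intro t ht e
      rcases e with e | e
      · rw [Units.ext e]; exact ht
      · rw [show g * r * g⁻¹ * r⁻¹ * u⁻¹ = -t from Units.ext (by rw [e, Units.val_neg])]; exact Fr.neg_mem' ht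
    rcases hcases with ⟨rfl, hb⟩ | ⟨rfl, ha⟩
    · refine key s hs ?_
      rw [hαβ]
      rcases mul_self_eq_one_iff.mp hb with rfl | rfl
      · left; simp
      · right; simp
    · refine key 1 R.one_mem ?_
      rw [hαβ]
      rcases mul_self_eq_one_iff.mp ha with rfl | rfl
      · left; simp
      · right; simp
  have hgr : g * r * g⁻¹ ∈ R := by
    have := R.mul_mem (R.mul_mem hmR hu) hr
    rwa [inv_mul_cancel_right, inv_mul_cancel_right] at this
  refine Subgroup.mem_normalizer_fintype fun x hx => ?_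
  rcases two_cases (anti x s) with e | e
  · exact (hconj x hx e).1
  · have hx' := R.mul_mem hx (R.inv_mem hr)
    have hxs' : anti (x * r⁻¹) s = 0 := by
      rw [Fr.anti_mul_left hx (R.inv_mem hr) hs, e, ← Fr.bil_cls (R.inv_mem hr) hs, Fr.cls_inv hr,
        Fr.bil_cls hr hs, hrs]
      rfl
    have := R.mul_mem (hconj _ hx' hxs').1 hgr
    rw [show g * (x * r⁻¹) * g⁻¹ * (g * r * g⁻¹) = g * x * g⁻¹ by group] at this
    exact this

end Over

end Cfsg.Agent.Lib.SympCent35
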