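import Mathlib
import Cfsg.Agent.Lib.SympCent35.Cent
import Cfsg.Agent.Lib.SympFusion78.Singular

/-!
An overgroup of the normaliser of a group of symplectic type in which the centralisers of quaternion subgroups
behave well normalises that group. Also the transitivity of the normaliser on quaternion pairs.
-/

set_option autoImplicit false
set_option linter.unusedSectionVars false
set_option linter.style.haveILetI false

namespace Cfsg.Agent.Lib.SympCent35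

open Module
open QSpace (tr tt)
open Cfsg.Agent.Lib.SympFusion78

variable {F : Type*} [Field F] {𝔸 : Type*} [Ring 𝔸] [Algebra F 𝔸] [Nontrivial 𝔸]

namespace Over

variable {R : Subgroup 𝔸ˣ} {adj : 𝔸 → 𝔸} {U G₀ M : Subgroup 𝔸ˣ} (h : Over F R adj U G₀ M)

include h

theorem scalar_isometry {m : 𝔸ˣ} (hm : m ∈ U) {α : F} (e : (m : 𝔸) = α • 1) : m = 1 ∨ m = -1 := by
  have e1 := (h.amb.mem_U m).mp hm
  rw [e, h.amb.adj_smul, h.amb.adj_one, smul_mul_smul_comm, mul_one] at e1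
  have : α * α = 1 := by
    by_contra hne
    have e2 : (α * α - 1) • (1 : 𝔸) = 0 := by rw [sub_smul, one_smul, e1, sub_self]
    exact hne (sub_eq_zero.mp ((smul_eq_zero.mp e2).resolve_right one_ne_zero))
  rcases mul_self_eq_one_iff.mp this with rfl | rfl
  · exact Or.inl (Units.ext (by rw [e, one_smul, Units.val_one]))
  · exact Or.inr (Units.ext (by rw [e, neg_one_smul, Units.val_neg, Units.val_one]))

/-- The overgroup normalises the group. -/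
theorem normalizes [Finite 𝔸ˣ] : M ≤ Subgroup.normalizer (R : Set 𝔸ˣ) := by
  classical
  haveI := h.amb.finA
  haveI := h.amb.finite
  set Fr := h.amb.frame
  have hRM := h.R_le
  let z : M := ⟨-1, hRM Fr.neg_one⟩
  have hz2 : z * z = 1 := Subtype.ext (by show (-1 : 𝔸ˣ) * -1 = 1; rw [neg_mul_neg, one_mul])
  let Z : Subgroup M := Subgroup.zpowers z
  have hZ : ∀ x, x ∈ Z ↔ x = 1 ∨ x = z := by
    intro x
    constructor
    · rintro ⟨i, rfl⟩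
      show z ^ i = 1 ∨ z ^ i = z
      rcases Int.even_or_odd i with ⟨j, rfl⟩ | ⟨j, rfl⟩
      · left; rw [← two_mul, zpow_mul, zpow_two, hz2, one_zpow]
      · right; rw [zpow_add, zpow_mul, zpow_two, hz2, one_zpow, one_mul, zpow_one]
    · rintro (rfl | rfl)
      · exact one_mem _
      · exact Subgroup.mem_zpowers z
  haveI : Z.Normal := ⟨fun x hx g => by
    rcases (hZ x).mp hx with rfl | rfl
    · rw [mul_one, mul_inv_cancel]; exact one_mem _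
    · have : g * z * g⁻¹ = z := mul_inv_eq_iff_eq_mul.mpr (Subtype.ext (by
        show (g : 𝔸ˣ) * -1 = -1 * (g : 𝔸ˣ)
        rw [mul_neg_one, neg_one_mul]))
      rw [this]; exact hx⟩
  let mk := QuotientGroup.mk' Z
  have hmk : ∀ x y : M, mk x = mk y ↔ ((y : 𝔸ˣ) = x ∨ (y : 𝔸ˣ) = -(x : 𝔸ˣ)) := by
    intro x y
    rw [show mk x = mk y ↔ x⁻¹ * y ∈ Z from QuotientGroup.eq, hZ]
    constructor
    · rintro (e | e)
      · exact Or.inl (congrArg Subtype.val (inv_mul_eq_one.mp e)).symm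
      · right
        rw [← mul_neg_one (x : 𝔸ˣ)]
        exact congrArg Subtype.val (inv_mul_eq_iff_eq_mul.mp e)
    · rintro (e | e)
      · left; rw [Subtype.ext e, inv_mul_cancel]
      · right
        rw [inv_mul_eq_iff_eq_mul]
        exact Subtype.ext (by rw [e, ← mul_neg_one]; rfl)
  let cl : R → M ⧸ Z := fun r => mk ⟨r, hRM r.2⟩
  let A' : Subgroup (M ⧸ Z) :=
    { carrier := Set.range cl
      one_mem' := ⟨1, map_one mk⟩
      mul_mem' := by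
        rintro _ _ ⟨a, rfl⟩ ⟨b, rfl⟩
        exact ⟨a * b, by show mk _ = mk _ * mk _; rw [← map_mul]; rfl⟩
      inv_mem' := by
        rintro _ ⟨a, rfl⟩
        exact ⟨a⁻¹, by show mk _ = (mk _)⁻¹; rw [← map_inv]; rfl⟩ }
  have hcl : ∀ a b : R, cl a = cl b ↔ ((b : 𝔸ˣ) = a ∨ (b : 𝔸ˣ) = -(a : 𝔸ˣ)) := fun a b => hmk _ _
  have hcls : ∀ a b : R, cl a = cl b ↔ Fr.cls (b : 𝔸ˣ) = Fr.cls a := fun a b => by
    rw [hcl, Fr.cls_eq_iff b.2 a.2]
  let qG : M ⧸ Z → ZMod 2 := fun x => if ∃ r : R, cl r = x ∧ sqc (r : 𝔸ˣ) = 1 then 1 else 0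
  have hq : ∀ r : R, qG (cl r) = sqc (r : 𝔸ˣ) := by
    intro r
    rcases two_cases (sqc (r : 𝔸ˣ)) with e | e <;> rw [e]
    · refine if_neg ?_
      rintro ⟨r', e1, e2⟩
      rw [Fr.sqc_cls r'.2 r.2 ((hcls r' r).mp e1).symm, e] at e2
      exact zero_ne_one e2
    · exact if_pos ⟨r, rfl, e⟩
  have hmul : ∀ a b : R, cl a * cl b = cl (a * b) := fun a b => by
    show mk _ * mk _ = mk _
    rw [← map_mul]; rfl
  have hpol : ∀ a b : R, pol qG (cl a) (cl b) = anti (a : 𝔸ˣ) b := fun a b => by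
    unfold pol
    rw [hmul, hq, hq, hq, Subgroup.coe_mul, Fr.sqc_mul a.2 b.2]
    generalize anti (a : 𝔸ˣ) b = x
    generalize sqc (a : 𝔸ˣ) = y
    generalize sqc (b : 𝔸ˣ) = w
    revert x y w; decide
  have hone : ∀ a : R, cl a = 1 → (a : 𝔸ˣ) = 1 ∨ (a : 𝔸ˣ) = -1 := fun a e => by
    have : cl 1 = cl a := by rw [e]; exact map_one mk
    exact (hcl 1 a).mp this
  have hne1 : ∀ a : R, cl a ≠ 1 → Fr.cls (a : 𝔸ˣ) ≠ 0 := fun a ha e => ha (by
    rw [← show cl 1 = 1 from map_one mk, hcls]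
    rw [e, OneMemClass.coe_one, Fr.cls_one])
  -- the normaliser of the image
  have hnorm : ∀ m : M, mk m ∈ Subgroup.normalizer (A' : Set (M ⧸ Z)) →
      (m : 𝔸ˣ) ∈ Subgroup.normalizer (R : Set 𝔸ˣ) := by
    intro m hm
    refine Subgroup.mem_normalizer_fintype fun x hx => ?_
    obtain ⟨y, hy⟩ := (Subgroup.mem_normalizer_iff.mp hm (cl ⟨x, hx⟩)).mp ⟨⟨x, hx⟩, rfl⟩
    have e : mk ⟨y, hRM y.2⟩ = mk (m * ⟨x, hRM hx⟩ * m⁻¹) := by rw [map_mul, map_mul, map_inv]; exact hy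
    rcases (hmk _ _).mp e with e1 | e1
    · have e2 : (m : 𝔸ˣ) * x * (m : 𝔸ˣ)⁻¹ = (y : 𝔸ˣ) := e1
      rw [e2]; exact y.2
    · have e2 : (m : 𝔸ˣ) * x * (m : 𝔸ˣ)⁻¹ = -(y : 𝔸ˣ) := e1
      rw [e2]; exact Fr.neg_mem' y.2
  have hnorm' : ∀ m : M, (m : 𝔸ˣ) ∈ Subgroup.normalizer (R : Set 𝔸ˣ) →
      mk m ∈ Subgroup.normalizer (A' : Set (M ⧸ Z)) := by
    intro m hm
    haveI : Finite (M ⧸ Z) := inferInstance
    refine Subgroup.mem_normalizer_fintype fun x hx => ?_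
    obtain ⟨r, rfl⟩ := hx
    refine ⟨⟨(m : 𝔸ˣ) * r * (m : 𝔸ˣ)⁻¹, (Subgroup.mem_normalizer_iff.mp hm _).mp r.2⟩, ?_⟩
    show mk _ = mk m * mk _ * (mk m)⁻¹
    rw [← map_inv, ← map_mul, ← map_mul]; rfl
  have hsq : ∀ (g : M ⧸ Z) (a b : R), g * cl a * g⁻¹ = cl b → sqc (b : 𝔸ˣ) = sqc (a : 𝔸ˣ) := by
    intro g a b e
    obtain ⟨m, rfl⟩ := QuotientGroup.mk'_surjective Z g
    have e' : mk (m * ⟨a, hRM a.2⟩ * m⁻¹) = mk ⟨b, hRM b.2⟩ := by rw [map_mul, map_mul, map_inv]; exact e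
    refine Fr.sqc_eq b.2 ?_
    have hc : ∀ c : ZMod 2, (m : 𝔸ˣ) * sgn c * (m : 𝔸ˣ)⁻¹ = sgn c := fun c => by
      rw [← sgn_comm, mul_inv_cancel_right]
    rcases (hmk _ _).mp e' with e1 | e1
    · rw [show (b : 𝔸ˣ) = (m : 𝔸ˣ) * a * (m : 𝔸ˣ)⁻¹ from e1, ← hc (sqc (a : 𝔸ˣ)), ← Fr.sq_eq a.2]; group
    · rw [show (b : 𝔸ˣ) = -((m : 𝔸ˣ) * a * (m : 𝔸ˣ)⁻¹) from e1, neg_mul_neg, ← hc (sqc (a : 𝔸ˣ)),
        ← Fr.sq_eq a.2]
      group
  have hquad : Quad A' qG := by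
    refine ⟨?_, ?_, ?_, ?_⟩
    · rintro _ ⟨a, rfl⟩
      rw [hmul, ← show cl 1 = 1 from map_one mk, hcl]
      rcases Fr.sq a a.2 with e | e
      · left; show (1 : 𝔸ˣ) = (a : 𝔸ˣ) * a; rw [e]
      · right; show (1 : 𝔸ˣ) = -((a : 𝔸ˣ) * a); rw [e, neg_neg]
    · rintro _ ⟨a, rfl⟩ _ ⟨a', rfl⟩ _ ⟨c, rfl⟩
      rw [hmul, hpol, hpol, hpol, Subgroup.coe_mul, Fr.anti_mul_left a.2 a'.2 c.2]
    · rintro _ ⟨a, rfl⟩ ha
      obtain ⟨y, hy, hay⟩ := Fr.sep a a.2 (fun e => hne1 a ha (by rw [e, Fr.cls_one]))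
        (fun e => hne1 a ha ((Fr.cls_eq_zero a.2).mpr (Or.inr e)))
      exact ⟨cl ⟨y, hy⟩, ⟨⟨y, hy⟩, rfl⟩, by rw [hpol]; exact fun e => hay (anti_eq_zero.mp e)⟩
    · rintro g hg _ ⟨a, rfl⟩
      obtain ⟨b, hb⟩ := (Subgroup.mem_normalizer_iff.mp hg (cl a)).mp ⟨a, rfl⟩
      rw [← hb, hq, hq, hsq g a b hb.symm]
  have hpairs : Quad.HasTransvPairs A' qG := by
    rintro _ ⟨v, rfl⟩ _ ⟨w, rfl⟩ hv hw
    rw [hq, Fr.sqc_one v.2] at hv
    rw [hq, Fr.sqc_one w.2] at hw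
    obtain ⟨T, hT, hTv⟩ := h.amb.pair_mem v.2 w.2 hv hw
    have hTn := h.amb.pair_normalizes v.2 w.2 hv hw hTv
    refine ⟨mk ⟨T, h.mem T hT hTn⟩, hnorm' _ hTn, ?_⟩
    rintro _ ⟨x, rfl⟩ hxw
    rw [hpol] at hxw
    obtain ⟨y, hy, ey, hcy⟩ := h.amb.pair_act v.2 w.2 hv hw hTv x.2
    rw [tt, QSpace.tr_of_zero (v := Fr.cls (w : 𝔸ˣ)) (by rw [Fr.bil_cls x.2 w.2, hxw])] at hcy
    have e0 : mk ⟨T, h.mem T hT hTn⟩ * cl x * (mk ⟨T, h.mem T hT hTn⟩)⁻¹ = cl ⟨y, hy⟩ := by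
      show mk _ * mk _ * (mk _)⁻¹ = mk _
      rw [← map_inv, ← map_mul, ← map_mul]
      exact congrArg mk (Subtype.ext ey)
    constructor
    · intro hxv
      rw [hpol] at hxv
      rw [e0, hcls]
      show Fr.cls (x : 𝔸ˣ) = Fr.cls y
      rw [hcy, QSpace.tr_of_zero (by rw [Fr.bil_cls x.2 v.2, hxv])]
    · intro hxv
      rw [hpol] at hxv
      rw [e0, hmul, hcls]
      show Fr.cls ((x : 𝔸ˣ) * v) = Fr.cls y
      rw [hcy, QSpace.tr_of_one (by rw [Fr.bil_cls x.2 v.2, hxv]), Fr.cls_mul x.2 v.2]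
  have hself : Subgroup.normalizer (A' : Set (M ⧸ Z)) ⊓ Subgroup.centralizer (A' : Set (M ⧸ Z)) ≤ A' := by
    rintro g ⟨hg, hgc⟩
    obtain ⟨m, rfl⟩ := QuotientGroup.mk'_surjective Z g
    have hsig : ∀ x ∈ R, anti x 1 = 0 → (m : 𝔸ˣ) * x = x * m ∨ (m : 𝔸ˣ) * x = -(x * m) := by
      intro x hx _
      have e : mk (⟨x, hRM hx⟩ * m) = mk (m * ⟨x, hRM hx⟩) := by
        rw [map_mul, map_mul]; exact Subgroup.mem_centralizer_iff.mp hgc _ ⟨⟨x, hx⟩, rfl⟩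
      exact (hmk _ _).mp e
    obtain ⟨u, hu, -, hcomm⟩ := Fr.exists_twist R.one_mem (by rw [mul_one, one_mul]) hsig
    obtain ⟨α, hα⟩ := Fr.exists_scalar (((m : 𝔸ˣ) * u⁻¹ : 𝔸ˣ) : 𝔸) fun x hx => by
      rw [← Units.val_mul, ← Units.val_mul, hcomm x hx (anti_eq_zero.mpr (by rw [mul_one, one_mul]))]
    refine ⟨⟨u, hu⟩, (hmk _ _).mpr ?_⟩
    rcases h.scalar_isometry (U.mul_mem (h.le m.2) (U.inv_mem (h.amb.R_le_U hu))) hα with e | e
    · left; exact mul_inv_eq_one.mp e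
    · right
      show (m : 𝔸ˣ) = -u
      rw [mul_inv_eq_iff_eq_mul.mp e, neg_one_mul]
  have hcent : ∀ a ∈ A', a ≠ 1 → qG a = 0 →
      Subgroup.centralizer {a} ≤ Subgroup.normalizer (A' : Set (M ⧸ Z)) := by
    rintro _ ⟨a, rfl⟩ ha hqa g hg
    obtain ⟨m, rfl⟩ := QuotientGroup.mk'_surjective Z g
    rw [hq, Fr.sqc_zero a.2] at hqa
    have e : mk (m * ⟨a, hRM a.2⟩) = mk (⟨a, hRM a.2⟩ * m) := by
      rw [map_mul, map_mul]; exact Subgroup.mem_centralizer_singleton_iff.mp hg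
    refine hnorm' m ?_
    rcases (hmk _ _).mp e with e1 | e1
    · exact h.centralizer_normalizes a.2 hqa (hne1 a ha) m.2 e1.symm
    · obtain ⟨y, hy, hys⟩ := h.exists_swap a.2 hqa (hne1 a ha)
      have e2 : (m : 𝔸ˣ) * y * a = (a : 𝔸ˣ) * ((m : 𝔸ˣ) * y) := by
        rw [mul_assoc, (Fr.anti_one hy a.2).mp hys, mul_neg, ← mul_assoc, ← neg_mul]
        rw [show -((m : 𝔸ˣ) * a) = (a : 𝔸ˣ) * m from e1.symm, mul_assoc]
      have e3 := h.centralizer_normalizes a.2 hqa (hne1 a ha) (M.mul_mem m.2 (hRM hy)) e2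
      have := Subgroup.mul_mem _ e3 (Subgroup.inv_mem _ (Subgroup.le_normalizer hy))
      rwa [mul_inv_cancel_right] at this
  have hF : Fus A' qG := ⟨hquad, hcent, by
    rintro g _ ⟨a, rfl⟩ ⟨b, hb⟩
    rw [← hb, hq, hq, hsq g a b hb.symm], hself, hpairs⟩
  -- the halves
  have hhalf : ∀ c ∈ A', qG c = 1 → ∃ L, Half A' qG c L := by
    rintro _ ⟨b, rfl⟩ hqb
    rw [hq, Fr.sqc_one b.2] at hqb
    let L : Subgroup (M ⧸ Z) := ((Subgroup.centralizer {(b : 𝔸ˣ)}).comap M.subtype).map mk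
    have hL : ∀ g : M ⧸ Z, g ∈ L ↔ ∃ m : M, (m : 𝔸ˣ) * b = (b : 𝔸ˣ) * m ∧ mk m = g := by
      intro g
      constructor
      · rintro ⟨m, hm, rfl⟩
        exact ⟨m, Subgroup.mem_centralizer_singleton_iff.mp hm, rfl⟩
      · rintro ⟨m, hm, rfl⟩
        exact ⟨m, Subgroup.mem_centralizer_singleton_iff.mpr hm, rfl⟩
    have hmL : ∀ m : M, mk m ∈ L → (m : 𝔸ˣ) * b = (b : 𝔸ˣ) * m := by
      intro m hm
      obtain ⟨m', hm', e⟩ := (hL _).mp hm
      rcases (hmk _ _).mp e with e1 | e1 <;> rw [e1]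
      · exact hm'
      · rw [neg_mul, mul_neg, hm']
    refine ⟨L, ?_, ?_, ?_, ?_, ?_, ?_, ?_⟩
    · intro g hg
      obtain ⟨m, hm, rfl⟩ := (hL g).mp hg
      refine Subgroup.mem_centralizer_singleton_iff.mpr ?_
      show mk m * mk _ = mk _ * mk m
      rw [← map_mul, ← map_mul]
      exact congrArg mk (Subtype.ext hm)
    · rintro _ ⟨a, rfl⟩ ha
      rw [hpol] at ha
      exact (hL _).mpr ⟨_, anti_eq_zero.mp ha, rfl⟩
    · rintro _ ⟨a, rfl⟩ ha hmem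
      rw [hpol, anti_eq_zero.mpr (hmL _ hmem)] at ha
      exact zero_ne_one ha
    · rintro g hg hgL _ ⟨a, rfl⟩ ha
      obtain ⟨m, rfl⟩ := QuotientGroup.mk'_surjective Z g
      rw [hpol] at ha
      have e : mk (m * ⟨b, hRM b.2⟩) = mk (⟨b, hRM b.2⟩ * m) := by
        rw [map_mul, map_mul]; exact Subgroup.mem_centralizer_singleton_iff.mp hg
      rcases (hmk _ _).mp e with e1 | e1
      · exact absurd ((hL _).mpr ⟨m, e1.symm, rfl⟩) hgL
      · refine (hL _).mpr ⟨m * ⟨a, hRM a.2⟩, ?_, by rw [map_mul]⟩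
        show (m : 𝔸ˣ) * a * b = (b : 𝔸ˣ) * ((m : 𝔸ˣ) * a)
        rw [mul_assoc, (Fr.anti_one a.2 b.2).mp ha, mul_neg, ← mul_assoc, ← neg_mul]
        rw [show -((m : 𝔸ˣ) * b) = (b : 𝔸ˣ) * m from e1.symm, mul_assoc]
    · rintro _ ⟨w, rfl⟩ hwb hqw
      rw [hpol] at hwb
      rw [hq, Fr.sqc_one w.2] at hqw
      obtain ⟨T, hT, hTv⟩ := h.amb.pair_mem w.2 b.2 hqw hqb
      have hTn := h.amb.pair_normalizes w.2 b.2 hqw hqb hTv
      refine ⟨mk ⟨T, h.mem T hT hTn⟩, hnorm' _ hTn,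
        (hL _).mpr ⟨_, h.amb.pair_comm hTv (anti_eq_zero.mp hwb).symm rfl, rfl⟩, ?_, ?_⟩
      · show mk _ * mk _ = mk _ * mk _
        rw [← map_mul, ← map_mul]
        refine congrArg mk (Subtype.ext (Units.ext ?_))
        show ((T * T : 𝔸ˣ) : 𝔸) = (((w : 𝔸ˣ) * (b : 𝔸ˣ) : 𝔸ˣ) : 𝔸)
        have ew := h.amb.val_neg_one_sq hqw
        have eb := h.amb.val_neg_one_sq hqb
        have ewb : ((w : 𝔸ˣ) : 𝔸) * ((b : 𝔸ˣ) : 𝔸) = ((b : 𝔸ˣ) : 𝔸) * ((w : 𝔸ˣ) : 𝔸) := by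
          rw [← Units.val_mul, anti_eq_zero.mp hwb, Units.val_mul]
        have w2 : (1 + ((w : 𝔸ˣ) : 𝔸)) * (1 + ((w : 𝔸ˣ) : 𝔸)) = (2 : F) • ((w : 𝔸ˣ) : 𝔸) := by
          rw [two_smul, mul_add, mul_one, add_mul, one_mul, ew]; abel
        have b2 : (1 + ((b : 𝔸ˣ) : 𝔸)) * (1 + ((b : 𝔸ˣ) : 𝔸)) = (2 : F) • ((b : 𝔸ˣ) : 𝔸) := by
          rw [two_smul, mul_add, mul_one, add_mul, one_mul, eb]; abel
        have sw : (1 + ((b : 𝔸ˣ) : 𝔸)) * (1 + ((w : 𝔸ˣ) : 𝔸)) = (1 + ((w : 𝔸ˣ) : 𝔸)) * (1 + ((b : 𝔸ˣ) : 𝔸)) := by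
          simp only [mul_add, add_mul, mul_one, one_mul, ewb]; abel
        rw [Units.val_mul, Units.val_mul, hTv, pairVal, smul_mul_smul_comm, mul_assoc (1 + ((w : 𝔸ˣ) : 𝔸)),
          ← mul_assoc (1 + ((b : 𝔸ˣ) : 𝔸)), sw, mul_assoc (1 + ((w : 𝔸ˣ) : 𝔸)) (1 + ((b : 𝔸ˣ) : 𝔸)), b2,
          ← mul_assoc, w2, smul_mul_smul_comm, smul_smul,
          show (2 : F)⁻¹ * 2⁻¹ * (2 * 2) = (2⁻¹ * 2) * (2⁻¹ * 2) by ring, h.amb.half_two, one_mul, one_smul]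
      · rintro _ ⟨x, rfl⟩ hxb
        rw [hpol] at hxb
        obtain ⟨y, hy, ey, hcy⟩ := h.amb.pair_act w.2 b.2 hqw hqb hTv x.2
        rw [tt, QSpace.tr_of_zero (v := Fr.cls (b : 𝔸ˣ)) (by rw [Fr.bil_cls x.2 b.2, hxb])] at hcy
        have e0 : mk ⟨T, h.mem T hT hTn⟩ * cl x * (mk ⟨T, h.mem T hT hTn⟩)⁻¹ = cl ⟨y, hy⟩ := by
          show mk _ * mk _ * (mk _)⁻¹ = mk _
          rw [← map_inv, ← map_mul, ← map_mul]
          exact congrArg mk (Subtype.ext ey)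
        rw [e0, hpol]
        rcases two_cases (anti (x : 𝔸ˣ) w) with e | e <;> rw [e]
        · rw [sel_zero, mul_one, hcls]
          show Fr.cls (x : 𝔸ˣ) = Fr.cls y
          rw [hcy, QSpace.tr_of_zero (by rw [Fr.bil_cls x.2 w.2, e])]
        · rw [sel_one, hmul, hcls]
          show Fr.cls ((x : 𝔸ˣ) * w) = Fr.cls y
          rw [hcy, QSpace.tr_of_one (by rw [Fr.bil_cls x.2 w.2, e]), Fr.cls_mul x.2 w.2]
    · rintro g hg hgL hfix
      obtain ⟨m, rfl⟩ := QuotientGroup.mk'_surjective Z g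
      have hmb := hmL m hgL
      have hsig : ∀ x ∈ R, anti x b = 0 → (m : 𝔸ˣ) * x = x * m ∨ (m : 𝔸ˣ) * x = -(x * m) := by
        intro x hx hxb
        have e := hfix (cl ⟨x, hx⟩) ⟨⟨x, hx⟩, rfl⟩ (by rw [hpol]; exact hxb)
        rw [mul_inv_eq_iff_eq_mul] at e
        have e' : mk (⟨x, hRM hx⟩ * m) = mk (m * ⟨x, hRM hx⟩) := by rw [map_mul, map_mul]; exact e.symm
        exact (hmk _ _).mp e'
      obtain ⟨u, hu, hub, hcomm⟩ := Fr.exists_twist b.2 hmb hsig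
      obtain ⟨α, β, hαβ⟩ := Fr.exists_lin b.2 (((m : 𝔸ˣ) * u⁻¹ : 𝔸ˣ) : 𝔸) fun x hx hxb => by
        rw [← Units.val_mul, ← Units.val_mul, hcomm x hx hxb]
      have hu' : anti u⁻¹ b = 0 := by
        rw [← Fr.bil_cls (R.inv_mem hu) b.2, Fr.cls_inv hu, Fr.bil_cls hu b.2, hub]
      refine ⟨cl ⟨u⁻¹, R.inv_mem hu⟩, ⟨_, rfl⟩, by rw [hpol]; exact hu', fun k hk => ?_⟩
      obtain ⟨n, hnb, rfl⟩ := (hL k).mp hk
      have e1 : mk m * cl ⟨u⁻¹, R.inv_mem hu⟩ = cl ⟨u⁻¹, R.inv_mem hu⟩ * mk m :=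
        mul_inv_eq_iff_eq_mul.mp (hfix _ ⟨_, rfl⟩ (by rw [hpol]; exact hu'))
      rw [← e1]
      show mk m * mk _ * mk n = mk n * (mk m * mk _)
      rw [← map_mul, ← map_mul, ← map_mul]
      refine congrArg mk (Subtype.ext (Units.ext ?_))
      show ((((m : 𝔸ˣ) * u⁻¹) * (n : 𝔸ˣ) : 𝔸ˣ) : 𝔸) = (((n : 𝔸ˣ) * ((m : 𝔸ˣ) * u⁻¹) : 𝔸ˣ) : 𝔸)
      have enb : ((n : 𝔸ˣ) : 𝔸) * ((b : 𝔸ˣ) : 𝔸) = ((b : 𝔸ˣ) : 𝔸) * ((n : 𝔸ˣ) : 𝔸) := by
        rw [← Units.val_mul, hnb, Units.val_mul]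
      rw [Units.val_mul _ (n : 𝔸ˣ), Units.val_mul (n : 𝔸ˣ), hαβ, add_mul, mul_add, smul_mul_assoc, smul_mul_assoc,
        mul_smul_comm, mul_smul_comm, one_mul, mul_one, enb]
    · rintro g hg hgL hzz hcen hfix
      obtain ⟨m, rfl⟩ := QuotientGroup.mk'_surjective Z g
      have hmb := hmL m hgL
      have hsig : ∀ x ∈ R, anti x b = 0 → (m : 𝔸ˣ) * x = x * m ∨ (m : 𝔸ˣ) * x = -(x * m) := by
        intro x hx hxb
        have e := hfix (cl ⟨x, hx⟩) ⟨⟨x, hx⟩, rfl⟩ (by rw [hpol]; exact hxb)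
        rw [mul_inv_eq_iff_eq_mul] at e
        have e' : mk (⟨x, hRM hx⟩ * m) = mk (m * ⟨x, hRM hx⟩) := by rw [map_mul, map_mul]; exact e.symm
        exact (hmk _ _).mp e'
      obtain ⟨u, hu, hub, hcomm⟩ := Fr.exists_twist b.2 hmb hsig
      obtain ⟨α, β, hαβ⟩ := Fr.exists_lin b.2 (((m : 𝔸ˣ) * u⁻¹ : 𝔸ˣ) : 𝔸) fun x hx hxb => by
        rw [← Units.val_mul, ← Units.val_mul, hcomm x hx hxb]
      have hspan : Fr.cls u ∈ Submodule.span (ZMod 2) {Fr.cls (b : 𝔸ˣ)} := by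
        by_contra hnot
        obtain ⟨v₀, hv₀b, hv₀u⟩ := Fr.qspace.exists_sep hnot
        obtain ⟨v, hv, hvS⟩ := Fr.qspace.exists_ns
          (S := Submodule.span (ZMod 2) ({Fr.cls u, Fr.cls (b : 𝔸ˣ)} : Set Fr.A)) v₀ (Or.inl (by
            have := QSpace.span_two (Fr.cls u) (Fr.cls (b : 𝔸ˣ))
            have := h.amb.big
            omega))
        obtain ⟨w, hw, rfl⟩ := Fr.cls_surj v
        rw [Fr.q_cls hw, Fr.sqc_one hw] at hv
        have hwb : anti w b = 0 := by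
          rw [← Fr.bil_cls hw b.2, hvS _ (Submodule.subset_span (by simp)), hv₀b _ (Submodule.mem_span_singleton_self _)]
        have hwu : anti u w = 1 := by
          rw [anti_comm, ← Fr.bil_cls hw hu, hvS _ (Submodule.subset_span (by simp)), hv₀u]
        obtain ⟨T, hT, hTv⟩ := h.amb.pair_mem hw b.2 hv hqb
        have hTn := h.amb.pair_normalizes hw b.2 hv hqb hTv
        have hTb := h.amb.pair_comm hTv (anti_eq_zero.mp hwb).symm (rfl : (b : 𝔸ˣ) * b = b * b)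
        have e : mk (m * ⟨T, h.mem T hT hTn⟩) = mk (⟨T, h.mem T hT hTn⟩ * m) := by
          rw [map_mul, map_mul]; exact hcen _ ((hL _).mpr ⟨_, hTb, rfl⟩)
        obtain ⟨y, hy, ey, hcy⟩ := h.amb.pair_act hw b.2 hv hqb hTv hu
        have ec : T * ((m : 𝔸ˣ) * u⁻¹) = (m : 𝔸ˣ) * u⁻¹ * T := Units.ext (by
          have eTb : (T : 𝔸) * ((b : 𝔸ˣ) : 𝔸) = ((b : 𝔸ˣ) : 𝔸) * (T : 𝔸) := by
            rw [← Units.val_mul, hTb, Units.val_mul]
          rw [Units.val_mul T, Units.val_mul _ T, hαβ, add_mul, mul_add, smul_mul_assoc, smul_mul_assoc,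
            mul_smul_comm, mul_smul_comm, one_mul, mul_one, eTb])
        -- so `u` is fixed up to sign
        have eu : y = u ∨ y = -u := by
          have e0 : T * u * T⁻¹ = ((m : 𝔸ˣ) * u⁻¹)⁻¹ * (T * (m : 𝔸ˣ) * T⁻¹) := by
            rw [eq_inv_mul_iff_mul_eq, ← mul_assoc, ← mul_assoc, ← ec]; group
          rcases (hmk _ _).mp e with e1 | e1
          · left
            rw [← ey, e0, show T * (m : 𝔸ˣ) = (m : 𝔸ˣ) * T from e1]; group
          · right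
            rw [← ey, e0, show T * (m : 𝔸ˣ) = -((m : 𝔸ˣ) * T) from e1, neg_mul, mul_neg, mul_inv_cancel_right]
            congr 1; group
        have : Fr.cls y = Fr.cls u := by
          rcases eu with rfl | rfl
          · rfl
          · exact Fr.cls_neg hu
        rw [hcy, tt, QSpace.tr_of_zero (v := Fr.cls (b : 𝔸ˣ)) (by rw [Fr.bil_cls hu b.2, hub]),
          QSpace.tr_of_one (by rw [Fr.bil_cls hu hw, hwu]), add_eq_left] at this
        have hq0 := Fr.q_cls hw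
        rw [this, QuadraticMap.map_zero, (Fr.sqc_one hw).mpr hv] at hq0
        exact zero_ne_one hq0
      obtain ⟨u', hu'R, hu'e, hum⟩ : ∃ u' : 𝔸ˣ, u' ∈ R ∧ (u' = 1 ∨ u' = b) ∧ (u = u' ∨ u = -u') := by
        obtain ⟨c, hc⟩ := Submodule.mem_span_singleton.mp hspan
        rcases two_cases c with rfl | rfl
        · rw [zero_smul] at hc
          exact ⟨1, R.one_mem, Or.inl rfl, (Fr.cls_eq_zero hu).mp hc.symm⟩
        · rw [one_smul] at hc
          exact ⟨b, b.2, Or.inr rfl, (Fr.cls_eq_iff hu b.2).mp hc.symm⟩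
      obtain ⟨α', β', hm'⟩ : ∃ α' β' : F, ((m : 𝔸ˣ) : 𝔸) = α' • 1 + β' • ((b : 𝔸ˣ) : 𝔸) := by
        have em : ((m : 𝔸ˣ) : 𝔸) = (α • (1 : 𝔸) + β • ((b : 𝔸ˣ) : 𝔸)) * (u : 𝔸) := by
          rw [← hαβ, ← Units.val_mul, inv_mul_cancel_right]
        have eb := h.amb.val_neg_one_sq hqb
        rcases hum with rfl | rfl <;> rcases hu'e with rfl | rfl
        · exact ⟨α, β, by rw [em, Units.val_one, mul_one]⟩
        · exact ⟨-β, α, by rw [em, add_mul, smul_mul_assoc, smul_mul_assoc, one_mul, eb]; module⟩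
        · exact ⟨-α, -β, by rw [em, Units.val_neg, Units.val_one, mul_neg, mul_one]; module⟩
        · exact ⟨β, -α, by
            rw [em, Units.val_neg, mul_neg, add_mul, smul_mul_assoc, smul_mul_assoc, one_mul, eb]; module⟩
      have eb := h.amb.val_neg_one_sq hqb
      have hbne : ∀ c : F, ((b : 𝔸ˣ) : 𝔸) ≠ c • (1 : 𝔸) := by
        intro c e
        have hb0 : Fr.cls (b : 𝔸ˣ) ≠ 0 := fun e0 => by
          have := Fr.q_cls b.2
          rw [e0, QuadraticMap.map_zero, (Fr.sqc_one b.2).mpr hqb] at this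
          exact zero_ne_one this
        obtain ⟨y, hy, hby⟩ := Fr.sep b b.2 (fun e' => hb0 (by rw [e', Fr.cls_one]))
          (fun e' => hb0 ((Fr.cls_eq_zero b.2).mpr (Or.inr e')))
        exact hby (Units.ext (by rw [Units.val_mul, Units.val_mul, e, smul_mul_assoc, mul_smul_comm, one_mul, mul_one]))
      have hab : α' * β' = 0 := by
        have esq : ∃ c : F, ((m : 𝔸ˣ) : 𝔸) * ((m : 𝔸ˣ) : 𝔸) = c • 1 := by
          have e : mk 1 = mk (m * m) := by rw [map_one, map_mul]; exact hzz.symm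
          rcases (hmk _ _).mp e with e1 | e1
          · exact ⟨1, by rw [← Units.val_mul, show (m : 𝔸ˣ) * m = 1 from e1, Units.val_one, one_smul]⟩
          · exact ⟨-1, by
              rw [← Units.val_mul, show (m : 𝔸ˣ) * m = -1 from e1, Units.val_neg, Units.val_one, neg_one_smul]⟩
        obtain ⟨c, hc⟩ := esq
        rw [hm', add_mul, mul_add, mul_add, smul_mul_smul_comm, smul_mul_smul_comm, smul_mul_smul_comm,
          smul_mul_smul_comm, one_mul, one_mul, mul_one, eb] at hc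
        by_contra hne
        have h2 : (2 : F) * (α' * β') ≠ 0 := mul_ne_zero Fr.two hne
        refine hbne (((2 : F) * (α' * β'))⁻¹ * (c - α' * α' + β' * β')) ?_
        rw [← smul_smul, eq_inv_smul_iff₀ h2]
        linear_combination (norm := module) hc
      rcases mul_eq_zero.mp hab with rfl | rfl
      · right
        rw [zero_smul, zero_add] at hm'
        rcases h.scalar_isometry (m := (b : 𝔸ˣ)⁻¹ * (m : 𝔸ˣ))
          (U.mul_mem (U.inv_mem (h.amb.R_le_U b.2)) (h.le m.2)) (α := β')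
          (by rw [Units.val_mul, hm', mul_smul_comm, Units.inv_mul]) with e | e
        · exact ((hmk _ _).mpr (Or.inl (inv_mul_eq_one.mp e).symm)).symm
        · refine ((hmk _ _).mpr (Or.inr ?_)).symm
          show (m : 𝔸ˣ) = -(b : 𝔸ˣ)
          rw [inv_mul_eq_iff_eq_mul.mp e, mul_neg_one]
      · left
        rw [zero_smul, add_zero] at hm'
        rw [← map_one mk]
        rcases h.scalar_isometry (h.le m.2) hm' with e | e
        · exact congrArg mk (Subtype.ext e)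
        · exact ((hmk _ _).mpr (Or.inr (by rw [e]; rfl))).symm
  -- size and elements
  have hinj : ∀ a b : Fr.A, cl ⟨_, Fr.rep_mem a⟩ = cl ⟨_, Fr.rep_mem b⟩ → a = b := fun a b e => by
    have := (hcls _ _).mp e
    rw [Fr.cls_rep, Fr.cls_rep] at this
    exact this.symm
  have hcard : 256 ≤ Nat.card A' := by
    have h1 : Nat.card Fr.A ≤ Nat.card A' :=
      Nat.card_le_card_of_injective (fun a => (⟨cl ⟨_, Fr.rep_mem a⟩, _, rfl⟩ : A'))
        fun a b e => hinj a b (congrArg Subtype.val e)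
    rw [Module.natCard_eq_pow_finrank (K := ZMod 2), Nat.card_zmod] at h1
    have := Nat.pow_le_pow_right (show 2 > 0 by norm_num) h.amb.big
    omega
  have hbot : finrank (ZMod 2) (⊥ : Submodule (ZMod 2) Fr.A) = 0 := finrank_bot _ _
  obtain ⟨u₀, hu₀, -⟩ := Fr.qspace.exists_ns (S := ⊥) 0 (Or.inl (by have := h.amb.big; omega))
  have hu₀b : u₀ ∉ (⊥ : Submodule (ZMod 2) Fr.A) := by
    rw [Submodule.mem_bot]; rintro rfl; rw [QuadraticMap.map_zero] at hu₀; exact zero_ne_one hu₀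
  obtain ⟨w₀, -, hw₀⟩ := Fr.qspace.exists_sep hu₀b
  obtain ⟨v₀, hv₀, hv₀S⟩ := Fr.qspace.exists_ns (S := Submodule.span (ZMod 2) ({u₀, w₀} : Set Fr.A)) 0
    (Or.inl (by have := QSpace.span_two u₀ w₀; have := h.amb.big; omega))
  have hqA : ∀ a : Fr.A, qG (cl ⟨_, Fr.rep_mem a⟩) = Fr.q a := fun a => by
    rw [hq, ← Fr.q_cls (Fr.rep_mem a), Fr.cls_rep]
  have hsum : Fr.q (u₀ + v₀) = 0 := by
    rw [QSpace.map_add', hu₀, hv₀, QSpace.bil_comm, hv₀S u₀ (Submodule.subset_span (by simp)), map_zero,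
      LinearMap.zero_apply, add_zero]
    rfl
  have hne : u₀ + v₀ ≠ 0 := by
    intro e
    have e' := (eq_neg_of_add_eq_zero_right e).trans (ZModModule.neg_eq_self _)
    have := hv₀S w₀ (Submodule.subset_span (by simp))
    rw [e', map_zero, LinearMap.zero_apply, QSpace.bil_comm, hw₀] at this
    exact one_ne_zero this
  have htop := hF.normalizer_eq_top (Or.inl hcard) (fun e => absurd e (by omega)) hhalf
    (a := cl ⟨_, Fr.rep_mem (u₀ + v₀)⟩) (c := cl ⟨_, Fr.rep_mem u₀⟩) ⟨_, rfl⟩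
    (fun e => hne (by
      rcases hone _ e with e1 | e1
      · rw [← Fr.cls_rep (u₀ + v₀), show Fr.rep (u₀ + v₀) = 1 from e1, Fr.cls_one]
      · rw [← Fr.cls_rep (u₀ + v₀), show Fr.rep (u₀ + v₀) = -1 from e1, (Fr.cls_eq_zero Fr.neg_one).mpr (Or.inr rfl)]))
    (by rw [hqA, hsum]) ⟨_, rfl⟩ (by rw [hqA, hu₀])
  intro m hm
  exact hnorm ⟨m, hm⟩ (htop ▸ Subgroup.mem_top _)

end Over

namespace Amb

variable {R : Subgroup 𝔸ˣ} {adj : 𝔸 → 𝔸} {U G₀ : Subgroup 𝔸ˣ} (h : Amb F R adj U G₀)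

include h

/-- The normaliser moves one anticommuting pair of square minus one to any other, up to sign. -/
theorem exists_conj_pair {a b a' b' : 𝔸ˣ} (ha : a ∈ R) (hb : b ∈ R) (ha' : a' ∈ R) (hb' : b' ∈ R)
    (ha2 : a * a = -1) (hb2 : b * b = -1) (ha'2 : a' * a' = -1) (hb'2 : b' * b' = -1)
    (hab : anti a b = 1) (hab' : anti a' b' = 1) :
    ∃ g ∈ G₀, g ∈ Subgroup.normalizer (R : Set 𝔸ˣ) ∧
      h.frame.cls (g * a * g⁻¹) = h.frame.cls a' ∧ h.frame.cls (g * b * g⁻¹) = h.frame.cls b' := by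
  classical
  haveI := h.finA
  set Fr := h.frame
  set S := Subgroup.normalizer (R : Set 𝔸ˣ)
  have hbig := h.big
  set Bf := QuadraticMap.polarBilin Fr.q
  -- one step
  have step : ∀ x ∈ R, ∀ y ∈ R, x * x = -1 → y * y = -1 → anti x y = 1 → ∀ z ∈ R,
      anti z x = anti z y → ∃ g ∈ G₀, g ∈ S ∧ Fr.cls (g * x * g⁻¹) = Fr.cls y ∧ Fr.cls (g * z * g⁻¹) = Fr.cls z := by
    intro x hx y hy hx2 hy2 hxy z hz hzxy
    have hqx : Fr.q (Fr.cls x) = 1 := by rw [Fr.q_cls hx, Fr.sqc_one hx, hx2]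
    have hqy : Fr.q (Fr.cls y) = 1 := by rw [Fr.q_cls hy, Fr.sqc_one hy, hy2]
    have hBxy : Bf (Fr.cls x) (Fr.cls y) = 1 := by rw [show Bf = _ from rfl, Fr.bil_cls hx hy, hxy]
    obtain ⟨c, hc, hcS⟩ := Fr.qspace.exists_ns
      (S := Submodule.span (ZMod 2) ({Fr.cls x, Fr.cls y, Fr.cls z} : Set Fr.A)) 0
      (Or.inl (by have := Fr.qspace.finrank_span_three (Fr.cls x) (Fr.cls y) (Fr.cls z); omega))
    obtain ⟨w, hw, rfl⟩ := Fr.cls_surj c
    rw [Fr.q_cls hw, Fr.sqc_one hw] at hc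
    have hxym := R.mul_mem hx hy
    have hxy2 : x * y * (x * y) = -1 := by
      rw [← Fr.sqc_one hxym, Fr.sqc_mul hx hy, (Fr.sqc_one hx).mpr hx2, (Fr.sqc_one hy).mpr hy2, hxy]
      rfl
    obtain ⟨g, hg, hgv⟩ := h.pair_mem hw hxym hc hxy2
    refine ⟨g, hg, h.pair_normalizes hw hxym hc hxy2 hgv, ?_, ?_⟩
    · obtain ⟨r, hr, er, hcr⟩ := h.pair_act hw hxym hc hxy2 hgv hx
      rw [Fr.cls_mul hx hy, tt] at hcr
      have e1 : tr Fr.q (Fr.cls x + Fr.cls y) (Fr.cls x) = Fr.cls y := by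
        rw [QSpace.tr_of_one (by rw [map_add, QSpace.bil_self, zero_add]; exact hBxy), ← add_assoc,
          ZModModule.add_self, zero_add]
      rw [e1, QSpace.tr_of_zero (by
        rw [QSpace.bil_comm, hcS _ (Submodule.subset_span (by simp)), map_zero, LinearMap.zero_apply])] at hcr
      rw [er, hcr]
    · obtain ⟨r, hr, er, hcr⟩ := h.pair_act hw hxym hc hxy2 hgv hz
      rw [Fr.cls_mul hx hy, tt] at hcr
      have e1 : tr Fr.q (Fr.cls x + Fr.cls y) (Fr.cls z) = Fr.cls z := by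
        refine QSpace.tr_of_zero ?_
        rw [map_add, Fr.bil_cls hz hx, Fr.bil_cls hz hy, hzxy, CharTwo.add_self_eq_zero]
      rw [e1, QSpace.tr_of_zero (by
        rw [QSpace.bil_comm, hcS _ (Submodule.subset_span (by simp)), map_zero, LinearMap.zero_apply])] at hcr
      rw [er, hcr]
  -- two steps
  have move : ∀ x ∈ R, ∀ y ∈ R, x * x = -1 → y * y = -1 → ∀ z ∈ R, anti z x = anti z y →
      (anti x z = 1 ∨ Fr.cls z = 0) →
      ∃ g ∈ G₀, g ∈ S ∧ Fr.cls (g * x * g⁻¹) = Fr.cls y ∧ Fr.cls (g * z * g⁻¹) = Fr.cls z := by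
    intro x hx y hy hx2 hy2 z hz hzxy hcase
    by_cases heq : Fr.cls x = Fr.cls y
    · exact ⟨1, G₀.one_mem, S.one_mem, by rw [one_mul, inv_one, mul_one, heq], by rw [one_mul, inv_one, mul_one]⟩
    rcases two_cases (anti x y) with hxy | hxy
    swap
    · exact step x hx y hy hx2 hy2 hxy z hz hzxy
    -- an intermediate element
    have hne : Fr.cls x ∉ Submodule.span (ZMod 2) ({Fr.cls x + Fr.cls y} : Set Fr.A) := by
      intro hm
      obtain ⟨k, hk⟩ := Submodule.mem_span_singleton.mp hm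
      rcases two_cases k with rfl | rfl
      · rw [zero_smul] at hk
        have := Fr.q_cls hx
        rw [← hk, QuadraticMap.map_zero, (Fr.sqc_one hx).mpr hx2] at this
        exact zero_ne_one this
      · rw [one_smul, add_eq_left] at hk
        have := Fr.q_cls hy
        rw [hk, QuadraticMap.map_zero, (Fr.sqc_one hy).mpr hy2] at this
        exact zero_ne_one this
    obtain ⟨t, htS, htx⟩ := Fr.qspace.exists_sep hne
    have hty : Bf t (Fr.cls y) = 1 := by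
      have h0 := htS _ (Submodule.mem_span_singleton_self _)
      rw [map_add, htx, CharTwo.add_eq_zero] at h0
      exact h0.symm
    obtain ⟨v₀, hv₀x, hv₀y, hv₀z⟩ : ∃ v₀, Bf v₀ (Fr.cls x) = 1 ∧ Bf v₀ (Fr.cls y) = 1 ∧
        (Fr.cls z = 0 ∨ Bf v₀ (Fr.cls z) = anti x z) := by
      rcases hcase with hxz | hz0
      swap
      · exact ⟨t, htx, hty, Or.inl hz0⟩
      rcases two_cases (Bf t (Fr.cls z)) with e | e
      swap
      · exact ⟨t, htx, hty, Or.inr (by rw [e, hxz])⟩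
      refine ⟨t + Fr.cls x, ?_, ?_, Or.inr ?_⟩
      · rw [map_add, LinearMap.add_apply, htx, QSpace.bil_self, add_zero]
      · rw [map_add, LinearMap.add_apply, hty, show Bf = _ from rfl, Fr.bil_cls hx hy, hxy, add_zero]
      · rw [map_add, LinearMap.add_apply, e, show Bf = _ from rfl, Fr.bil_cls hx hz, zero_add]
    obtain ⟨c, hc, hcS⟩ := Fr.qspace.exists_ns
      (S := Submodule.span (ZMod 2) ({Fr.cls x, Fr.cls y, Fr.cls z} : Set Fr.A)) v₀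
      (Or.inl (by have := Fr.qspace.finrank_span_three (Fr.cls x) (Fr.cls y) (Fr.cls z); omega))
    obtain ⟨w, hw, rfl⟩ := Fr.cls_surj c
    rw [Fr.q_cls hw, Fr.sqc_one hw] at hc
    have hwx : anti x w = 1 := by
      rw [anti_comm, ← Fr.bil_cls hw hx, hcS _ (Submodule.subset_span (by simp)), hv₀x]
    have hwy : anti w y = 1 := by rw [← Fr.bil_cls hw hy, hcS _ (Submodule.subset_span (by simp)), hv₀y]
    have hwz : anti z w = anti z x := by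
      rw [anti_comm z w, anti_comm z x]
      rcases hv₀z with e | e
      · rw [← Fr.bil_cls hw hz, ← Fr.bil_cls hx hz, e, map_zero, map_zero]
      · rw [← Fr.bil_cls hw hz, hcS _ (Submodule.subset_span (by simp)), e]
    obtain ⟨g₁, hg₁, hn₁, e₁, f₁⟩ := step x hx w hw hx2 hc hwx z hz hwz.symm
    obtain ⟨g₂, hg₂, hn₂, e₂, f₂⟩ := step w hw y hy hc hy2 hwy z hz (hwz.trans hzxy)
    refine ⟨g₂ * g₁, G₀.mul_mem hg₂ hg₁, S.mul_mem hn₂ hn₁, ?_, ?_⟩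
    · have hx' := (Subgroup.mem_normalizer_iff.mp hn₁ x).mp hx
      rw [show g₂ * g₁ * x * (g₂ * g₁)⁻¹ = g₂ * (g₁ * x * g₁⁻¹) * g₂⁻¹ by group]
      rcases (Fr.cls_eq_iff hx' hw).mp e₁ with e | e <;> rw [e]
      · exact e₂
      · rw [mul_neg, neg_mul, Fr.cls_neg ((Subgroup.mem_normalizer_iff.mp hn₂ w).mp hw)]; exact e₂
    · have hz' := (Subgroup.mem_normalizer_iff.mp hn₁ z).mp hz
      rw [show g₂ * g₁ * z * (g₂ * g₁)⁻¹ = g₂ * (g₁ * z * g₁⁻¹) * g₂⁻¹ by group]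
      rcases (Fr.cls_eq_iff hz' hz).mp f₁ with e | e <;> rw [e]
      · exact f₂
      · rw [mul_neg, neg_mul, Fr.cls_neg ((Subgroup.mem_normalizer_iff.mp hn₂ z).mp hz)]; exact f₂
  have h1z : ∀ x : 𝔸ˣ, anti 1 x = 0 := fun x => anti_eq_zero.mpr (by rw [one_mul, mul_one])
  obtain ⟨g₁, hg₁, hn₁, e₁, -⟩ := move a ha a' ha' ha2 ha'2 1 R.one_mem (by rw [h1z, h1z]) (Or.inr Fr.cls_one)
  obtain ⟨b₁, hb₁, hb₁d⟩ : ∃ b₁, b₁ ∈ R ∧ b₁ = g₁ * b * g₁⁻¹ := ⟨_, (Subgroup.mem_normalizer_iff.mp hn₁ b).mp hb, rfl⟩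
  have hb₁2 : b₁ * b₁ = -1 := by
    rw [hb₁d, show g₁ * b * g₁⁻¹ * (g₁ * b * g₁⁻¹) = g₁ * (b * b) * g₁⁻¹ by group, hb2, mul_neg_one, neg_mul,
      mul_inv_cancel]
  have ha₁ := (Subgroup.mem_normalizer_iff.mp hn₁ a).mp ha
  have hab₁ : anti a' b₁ = 1 := by
    rw [← Fr.bil_cls ha' hb₁, ← e₁, Fr.bil_cls ha₁ hb₁, Fr.anti_one ha₁ hb₁, hb₁d]
    rw [show g₁ * a * g₁⁻¹ * (g₁ * b * g₁⁻¹) = g₁ * (a * b) * g₁⁻¹ by group, (Fr.anti_one ha hb).mp hab,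
      mul_neg, neg_mul]
    congr 1; group
  obtain ⟨g₂, hg₂, hn₂, e₂, f₂⟩ := move b₁ hb₁ b' hb' hb₁2 hb'2 a' ha'
    (by rw [hab₁, hab']) (Or.inl (by rw [anti_comm, hab₁]))
  refine ⟨g₂ * g₁, G₀.mul_mem hg₂ hg₁, S.mul_mem hn₂ hn₁, ?_, ?_⟩
  · rw [show g₂ * g₁ * a * (g₂ * g₁)⁻¹ = g₂ * (g₁ * a * g₁⁻¹) * g₂⁻¹ by group]
    rcases (Fr.cls_eq_iff ha₁ ha').mp e₁ with e | e <;> rw [e]
    · exact f₂
    · rw [mul_neg, neg_mul, Fr.cls_neg ((Subgroup.mem_normalizer_iff.mp hn₂ a').mp ha')]; exact f₂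
  · rw [show g₂ * g₁ * b * (g₂ * g₁)⁻¹ = g₂ * (g₁ * b * g₁⁻¹) * g₂⁻¹ by group, ← hb₁d]
    exact e₂

end Amb

end Cfsg.Agent.Lib.SympCent35
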