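import Cfsg.Agent.Lib.SympCent35.QuatFrame
import Cfsg.Agent.Lib.Sym78T.Step

/-!
Centralisers of quaternion pairs in the orthogonal case: they are symplectic groups, the group of symplectic type
induces one of minus type there, and an overgroup of the normaliser either normalises it or contains the whole
centraliser.
-/

set_option autoImplicit false
set_option linter.unusedSectionVars false
set_option linter.style.haveILetI false

namespace Cfsg.Agent.Lib.SympCent35

open Module

universe u v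

variable {F : Type u} [Field F] {V : Type v} [AddCommGroup V] [Module F V] [Nontrivial V]


/-- A group of plus type of isometries of a symmetric form, absolutely irreducible, with centre `±1`. -/
structure OrthAmb (B : LinearMap.BilinForm F V) (R : Subgroup (Module.End F V)ˣ) (adj : Module.End F V → Module.End F V)
    (U G₀ : Subgroup (Module.End F V)ˣ) (j : ℕ) : Prop where
  amb : Amb F R adj U G₀
  sym : ∀ u v, B u v = B v u
  nd : ∀ v, v ≠ 0 → ∃ w, B v w ≠ 0
  hU : ∀ g : (Module.End F V)ˣ, g ∈ U ↔ ∀ u v, B ((g : Module.End F V) u) ((g : Module.End F V) v) = B u v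
  card : Nat.card R = 2 ^ (1 + 2 * (j + 1))
  dim : finrank F V = 2 ^ (j + 1)
  half : ∃ T : Submodule (ZMod 2) amb.frame.A, finrank (ZMod 2) T = j + 1 ∧ ∀ x ∈ T, amb.frame.q x = 0

/-- An anticommuting pair of square minus one. -/
structure QPair (R : Subgroup (Module.End F V)ˣ) (b₁ b₂ : (Module.End F V)ˣ) : Prop where
  m₁ : b₁ ∈ R
  m₂ : b₂ ∈ R
  s₁ : b₁ * b₁ = -1
  s₂ : b₂ * b₂ = -1
  ac : anti b₁ b₂ = 1

/-- A frame adapted to a pair. -/
structure Adapted (B : LinearMap.BilinForm F V) (σ k : Module.End F V) (b₁ b₂ : (Module.End F V)ˣ) : Prop where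
  fr : QFrame B σ k
  comm : ∀ a : Module.End F V,
    (a * σ = σ * a ∧ a * k = k * a) ↔ (a * b₁ = b₁ * a ∧ a * b₂ = b₂ * a)

namespace QFrame

variable {B : LinearMap.BilinForm F V} {σ k : Module.End F V} (D : QFrame B σ k)

include D

theorem Φ_neg_one : D.Φ (-1) = -1 := Units.ext (LinearMap.ext fun v => by
  rw [Φ_val, Units.val_neg, Units.val_one, Units.val_neg, Units.val_one, D.ext_apply]
  simp only [LinearMap.neg_apply, Module.End.one_apply, Submodule.coe_neg, map_neg]
  rw [← neg_add, ← D.recompose])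

end QFrame

namespace OrthAmb

variable {B : LinearMap.BilinForm F V} {R : Subgroup (Module.End F V)ˣ} {adj : Module.End F V → Module.End F V}
  {U G₀ : Subgroup (Module.End F V)ˣ} {j : ℕ} (h : OrthAmb B R adj U G₀ j) {b₁ b₂ : (Module.End F V)ˣ} (hb : QPair R b₁ b₂)

include h

theorem iso {x : (Module.End F V)ˣ} (hx : x ∈ R) (u v : V) :
    B ((x : Module.End F V) u) ((x : Module.End F V) v) = B u v :=
  (h.hU x).mp (h.amb.R_le_U hx) u v

include hb

theorem exists_adapted {x y : F} (hxy : x * x + y * y = -1) : ∃ σ k, Adapted B σ k b₁ b₂ := by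
  obtain ⟨a, ha⟩ : ∃ a : Module.End F V, a = b₁ := ⟨_, rfl⟩
  obtain ⟨c, hc⟩ : ∃ c : Module.End F V, c = b₂ := ⟨_, rfl⟩
  have a2 : a * a = -1 := by rw [ha, h.amb.val_neg_one_sq hb.s₁]
  have c2 : c * c = -1 := by rw [hc, h.amb.val_neg_one_sq hb.s₂]
  have ca : c * a = -(a * c) := by
    rw [ha, hc, ← Units.val_mul, ← Units.val_mul, ← Units.val_neg,
      (h.amb.frame.anti_one hb.m₂ hb.m₁).mp (by rw [anti_comm]; exact hb.ac)]
  have aca : a * c * a = c := by
    rw [mul_assoc, ca, mul_neg, ← mul_assoc, a2, neg_one_mul, neg_neg]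
  have acc : a * c * c = -a := by rw [mul_assoc, c2, mul_neg_one]
  have aac : a * (a * c) = -c := by rw [← mul_assoc, a2, neg_one_mul]
  have cac : c * (a * c) = a := by rw [← mul_assoc, ca, neg_mul, acc, neg_neg]
  refine ⟨x • a + y • c, a * c, ⟨h.amb.frame.two, h.sym, h.nd, ?_, ?_, ?_, ?_, ?_⟩, ?_⟩
  · intro v
    rw [← Module.End.mul_apply]
    have : (x • a + y • c) * (x • a + y • c) = (-(x * x + y * y)) • (1 : Module.End F V) := by
      simp only [add_mul, mul_add, smul_mul_smul_comm, a2, c2, ca, smul_neg]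
      module
    rw [this, hxy, neg_neg, one_smul, Module.End.one_apply]
  · intro v
    have : a * c * (a * c) = -1 := by rw [mul_assoc, cac, a2]
    rw [← Module.End.mul_apply, this, LinearMap.neg_apply, Module.End.one_apply]
  · intro v
    have : (x • a + y • c) * (a * c) = -(a * c * (x • a + y • c)) := by
      simp only [add_mul, mul_add, smul_mul_assoc, mul_smul_comm, aac, cac, aca, acc]
      module
    rw [← Module.End.mul_apply, this, LinearMap.neg_apply, Module.End.mul_apply]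
  · intro u v
    have hskew : ∀ b ∈ R, b * b = -1 → B ((b : Module.End F V) u) v = -B u ((b : Module.End F V) v) := by
      intro b hbR hb2
      have e := h.iso hbR ((b : Module.End F V) u) v
      rw [← Module.End.mul_apply, h.amb.val_neg_one_sq hb2, LinearMap.neg_apply, Module.End.one_apply,
        map_neg, LinearMap.neg_apply] at e
      rw [← e]
    simp only [LinearMap.add_apply, LinearMap.smul_apply, map_add, map_smul, LinearMap.neg_apply]
    rw [ha, hc, hskew _ hb.m₁ hb.s₁, hskew _ hb.m₂ hb.s₂]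
    simp only [smul_eq_mul]; ring
  · intro u v
    rw [ha, hc, Module.End.mul_apply, Module.End.mul_apply, h.iso hb.m₁, h.iso hb.m₂]
  · intro e
    rw [← ha, ← hc]
    constructor
    · rintro ⟨hs, hk⟩
      -- the pair lies in the algebra of the two new elements
      have ea : a = -(x • (x • a + y • c) - y • (a * c * (x • a + y • c))) := by
        simp only [mul_add, mul_smul_comm, aca, acc]
        calc a = (-(x * x + y * y)) • a := by rw [hxy, neg_neg, one_smul]
          _ = _ := by module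
      have ec : c = -(y • (x • a + y • c) + x • (a * c * (x • a + y • c))) := by
        simp only [mul_add, mul_smul_comm, aca, acc]
        calc c = (-(x * x + y * y)) • c := by rw [hxy, neg_neg, one_smul]
          _ = _ := by module
      generalize x • a + y • c = s at hs ea ec
      have hks : e * (a * c * s) = a * c * s * e := by
        rw [← mul_assoc e, hk, mul_assoc (a * c) e, hs, ← mul_assoc (a * c)]
      generalize a * c * s = t at hks ea ec
      constructor
      · rw [ea]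
        simp only [mul_neg, neg_mul, mul_sub, sub_mul, mul_smul_comm, smul_mul_assoc, hs, hks]
      · rw [ec]
        simp only [mul_neg, neg_mul, mul_add, add_mul, mul_smul_comm, smul_mul_assoc, hs, hks]
    · rintro ⟨e1, e2⟩
      refine ⟨?_, by rw [← mul_assoc, e1, mul_assoc, e2, mul_assoc]⟩
      simp only [mul_add, add_mul, mul_smul_comm, smul_mul_assoc, e1, e2]

variable {σ k : Module.End F V} (D : Adapted B σ k b₁ b₂)
include D

theorem Φ_comm (x : (Module.End F D.fr.W)ˣ) : D.fr.Φ x * b₁ = b₁ * D.fr.Φ x ∧ D.fr.Φ x * b₂ = b₂ * D.fr.Φ x := by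
  obtain ⟨e1, e2⟩ := (D.comm _).mp ⟨D.fr.ext_σ (x : Module.End F D.fr.W), D.fr.ext_k _⟩
  exact ⟨Units.ext (by simpa [QFrame.Φ_val] using e1), Units.ext (by simpa [QFrame.Φ_val] using e2)⟩

theorem exists_pre {g : (Module.End F V)ˣ} (h1 : g * b₁ = b₁ * g) (h2 : g * b₂ = b₂ * g) : ∃ x, D.fr.Φ x = g := by
  obtain ⟨e1, e2⟩ := (D.comm (g : Module.End F V)).mpr
    ⟨by rw [← Units.val_mul, h1, Units.val_mul], by rw [← Units.val_mul, h2, Units.val_mul]⟩
  exact D.fr.exists_Φ e1 e2

theorem mem_U_iff (x : (Module.End F D.fr.W)ˣ) : D.fr.Φ x ∈ U ↔ x ∈ Sym78.spSub D.fr.form := by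
  rw [h.hU, D.fr.mem_spSub]

/-- The elements of the group are those of the centraliser times the four elements of the pair. -/
theorem decomp {x : (Module.End F V)ˣ} (hx : x ∈ R) : ∃ c w, D.fr.Φ c ∈ R ∧ x = D.fr.Φ c * w ∧
    w ∈ ({1, b₁, b₂, b₁ * b₂} : Set (Module.End F V)ˣ) := by
  have hw : ∃ w ∈ ({1, b₁, b₂, b₁ * b₂} : Set (Module.End F V)ˣ), w ∈ R ∧ anti w b₁ = anti x b₁ ∧ anti w b₂ = anti x b₂ := by
    have h11 : anti b₁ b₁ = 0 := anti_eq_zero.mpr rfl
    have h22 : anti b₂ b₂ = 0 := anti_eq_zero.mpr rfl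
    have h21 : anti b₂ b₁ = 1 := by rw [anti_comm]; exact hb.ac
    have h01 : ∀ b : (Module.End F V)ˣ, anti 1 b = 0 := fun b => anti_eq_zero.mpr (by rw [one_mul, mul_one])
    rcases two_cases (anti x b₁) with e | e <;> rcases two_cases (anti x b₂) with e' | e' <;> rw [e, e']
    · exact ⟨1, by simp, R.one_mem, h01 _, h01 _⟩
    · exact ⟨b₁, by simp, hb.m₁, h11, hb.ac⟩
    · exact ⟨b₂, by simp, hb.m₂, h21, h22⟩
    · refine ⟨b₁ * b₂, by simp, R.mul_mem hb.m₁ hb.m₂, ?_, ?_⟩
      · rw [h.amb.frame.anti_mul_left hb.m₁ hb.m₂ hb.m₁, h11, h21, zero_add]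
      · rw [h.amb.frame.anti_mul_left hb.m₁ hb.m₂ hb.m₂, h22, hb.ac, add_zero]
  obtain ⟨w, hw, hwR, e1, e2⟩ := hw
  have hz : ∀ b ∈ R, anti w b = anti x b → anti (x * w⁻¹) b = 0 := fun b hbR e => by
    rw [h.amb.frame.anti_mul_left hx (R.inv_mem hwR) hbR, ← h.amb.frame.bil_cls (R.inv_mem hwR) hbR,
      h.amb.frame.cls_inv hwR, h.amb.frame.bil_cls hwR hbR, e, CharTwo.add_self_eq_zero]
  obtain ⟨c, hc⟩ := h.exists_pre hb D (anti_eq_zero.mp (hz _ hb.m₁ e1)) (anti_eq_zero.mp (hz _ hb.m₂ e2))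
  exact ⟨c, w, hc ▸ R.mul_mem hx (R.inv_mem hwR), by rw [hc, inv_mul_cancel_right], hw⟩

theorem comm_of_comap {g : (Module.End F V)ˣ} (h1 : g * b₁ = b₁ * g) (h2 : g * b₂ = b₂ * g)
    (hc : ∀ c, D.fr.Φ c ∈ R → g * D.fr.Φ c = D.fr.Φ c * g) {x : (Module.End F V)ˣ} (hx : x ∈ R) : g * x = x * g := by
  obtain ⟨c, w, hcR, rfl, hw⟩ := h.decomp hb D hx
  have hgw : g * w = w * g := by
    rcases hw with rfl | rfl | rfl | rfl
    · rw [one_mul, mul_one]
    · exact h1
    · exact h2
    · rw [← mul_assoc, h1, mul_assoc, h2, ← mul_assoc]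
  rw [← mul_assoc, hc c hcR, mul_assoc, hgw, mul_assoc]

theorem card_comap : Nat.card (R.comap D.fr.Φ) = 2 ^ (1 + 2 * j) := by
  haveI := h.amb.finite
  let f : R →* Multiplicative (ZMod 2 × ZMod 2) :=
    { toFun := fun x => Multiplicative.ofAdd (anti (x : (Module.End F V)ˣ) b₁, anti (x : (Module.End F V)ˣ) b₂)
      map_one' := by
        rw [show anti ((1 : R) : (Module.End F V)ˣ) b₁ = 0 from anti_eq_zero.mpr (by simp),
          show anti ((1 : R) : (Module.End F V)ˣ) b₂ = 0 from anti_eq_zero.mpr (by simp)]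
        rfl
      map_mul' := fun x y => by
        rw [Subgroup.coe_mul, h.amb.frame.anti_mul_left x.2 y.2 hb.m₁,
          h.amb.frame.anti_mul_left x.2 y.2 hb.m₂]
        rfl }
  have h11 : anti b₁ b₁ = 0 := anti_eq_zero.mpr rfl
  have h22 : anti b₂ b₂ = 0 := anti_eq_zero.mpr rfl
  have h21 : anti b₂ b₁ = 1 := by rw [anti_comm]; exact hb.ac
  have hf : Function.Surjective f := by
    rintro a
    obtain ⟨⟨c, d⟩, rfl⟩ := Multiplicative.ofAdd.surjective a
    rcases two_cases c with rfl | rfl <;> rcases two_cases d with rfl | rfl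
    · exact ⟨1, map_one f⟩
    · exact ⟨⟨b₁, hb.m₁⟩, by show Multiplicative.ofAdd _ = _; rw [h11, hb.ac]⟩
    · exact ⟨⟨b₂, hb.m₂⟩, by show Multiplicative.ofAdd _ = _; rw [h21, h22]⟩
    · refine ⟨⟨b₁ * b₂, R.mul_mem hb.m₁ hb.m₂⟩, ?_⟩
      show Multiplicative.ofAdd _ = _
      rw [h.amb.frame.anti_mul_left hb.m₁ hb.m₂ hb.m₁, h.amb.frame.anti_mul_left hb.m₁ hb.m₂ hb.m₂,
        h11, h22, h21, hb.ac]
      rfl
  have hker : ∀ c : (R.comap D.fr.Φ), (⟨D.fr.Φ c.1, c.2⟩ : R) ∈ f.ker := fun c => by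
    rw [MonoidHom.mem_ker]
    show Multiplicative.ofAdd _ = _
    rw [anti_eq_zero.mpr (h.Φ_comm hb D c.1).1, anti_eq_zero.mpr (h.Φ_comm hb D c.1).2]
    rfl
  have hbij : Function.Bijective fun c : (R.comap D.fr.Φ) => (⟨_, hker c⟩ : f.ker) := by
    refine ⟨fun c c' e => Subtype.ext (D.fr.Φ_injective (congrArg (fun t : f.ker => ((t : R) : (Module.End F V)ˣ)) e)), ?_⟩
    rintro ⟨⟨x, hx⟩, hxk⟩
    have e : (anti x b₁, anti x b₂) = (0, 0) := congrArg Multiplicative.toAdd (MonoidHom.mem_ker.mp hxk)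
    obtain ⟨c, hc⟩ := h.exists_pre hb D (anti_eq_zero.mp (congrArg Prod.fst e))
      (anti_eq_zero.mp (congrArg Prod.snd e))
    exact ⟨⟨c, show D.fr.Φ c ∈ R by rw [hc]; exact hx⟩, Subtype.ext (Subtype.ext hc)⟩
  rw [Nat.card_congr (Equiv.ofBijective _ hbij)]
  have e := Subgroup.card_eq_card_quotient_mul_card_subgroup f.ker
  rw [Nat.card_congr (QuotientGroup.quotientKerEquivOfSurjective f hf).toEquiv, h.card,
    Nat.card_congr Multiplicative.toAdd, Nat.card_prod, Nat.card_zmod,
    show 1 + 2 * (j + 1) = 2 + (1 + 2 * j) by ring, pow_add, show (2 : ℕ) ^ 2 = 2 * 2 from rfl] at e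
  exact (mul_left_cancel₀ (by norm_num) e).symm

theorem small_of_elem {E : Subgroup (Module.End F D.fr.W)ˣ} (hE : E ≤ R.comap D.fr.Φ)
    (hc : ∀ x ∈ E, ∀ y ∈ E, x * y = y * x) (hs : ∀ x ∈ E, x * x = 1) : Nat.card E < 2 ^ (j + 1) := by
  classical
  haveI := h.amb.finA
  haveI := h.amb.finite
  set Fr := h.amb.frame
  let cl : E → Fr.A := fun e => Fr.cls (D.fr.Φ e.1)
  have hm : ∀ e : E, D.fr.Φ e.1 ∈ R := fun e => hE e.2
  have hadd : ∀ e e', cl (e * e') = cl e + cl e' := fun e e' => by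
    show Fr.cls (D.fr.Φ (e.1 * e'.1)) = _
    rw [map_mul, Fr.cls_mul (hm e) (hm e')]
  have hone : cl 1 = 0 := by show Fr.cls (D.fr.Φ 1) = 0; rw [map_one, Fr.cls_one]
  let S : Submodule (ZMod 2) Fr.A :=
    { carrier := Set.range cl
      zero_mem' := ⟨1, hone⟩
      add_mem' := by rintro _ _ ⟨e, rfl⟩ ⟨e', rfl⟩; exact ⟨e * e', hadd e e'⟩
      smul_mem' := by
        rintro c _ ⟨e, rfl⟩
        rcases two_cases c with rfl | rfl
        · exact ⟨1, by rw [hone, zero_smul]⟩
        · exact ⟨e, (one_smul _ _).symm⟩ }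
  let P := Submodule.span (ZMod 2) ({Fr.cls b₁, Fr.cls b₂} : Set Fr.A)
  have hSq : ∀ x ∈ S, Fr.q x = 0 := by
    rintro _ ⟨e, rfl⟩
    rw [Fr.q_cls (hm e), Fr.sqc_zero (hm e), ← map_mul, hs e.1 e.2, map_one]
  have hSS : ∀ x ∈ S, ∀ y ∈ S, QuadraticMap.polarBilin Fr.q x y = 0 := by
    rintro _ ⟨e, rfl⟩ _ ⟨e', rfl⟩
    rw [Fr.bil_cls (hm e) (hm e'), anti_eq_zero, ← map_mul, hc e.1 e.2 e'.1 e'.2, map_mul]
  have hSP : ∀ x ∈ S, QuadraticMap.polarBilin Fr.q x (Fr.cls b₁) = 0 ∧
      QuadraticMap.polarBilin Fr.q x (Fr.cls b₂) = 0 := by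
    rintro _ ⟨e, rfl⟩
    rw [Fr.bil_cls (hm e) hb.m₁, Fr.bil_cls (hm e) hb.m₂]
    exact ⟨anti_eq_zero.mpr (h.Φ_comm hb D _).1, anti_eq_zero.mpr (h.Φ_comm hb D _).2⟩
  have hq1 : Fr.q (Fr.cls b₁) = 1 := by rw [Fr.q_cls hb.m₁, Fr.sqc_one hb.m₁]; exact hb.s₁
  have hq2 : Fr.q (Fr.cls b₂) = 1 := by rw [Fr.q_cls hb.m₂, Fr.sqc_one hb.m₂]; exact hb.s₂
  have h12 : QuadraticMap.polarBilin Fr.q (Fr.cls b₁) (Fr.cls b₂) = 1 := by rw [Fr.bil_cls hb.m₁ hb.m₂, hb.ac]
  have hP : ∀ x ∈ P, x ≠ 0 → Fr.q x = 1 := by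
    intro x hx hx0
    obtain ⟨a, b, rfl⟩ := Submodule.mem_span_pair.mp hx
    rcases two_cases a with rfl | rfl <;> rcases two_cases b with rfl | rfl
    · simp at hx0
    · simpa using hq2
    · simpa using hq1
    · rw [one_smul, one_smul, QSpace.map_add', hq1, hq2, h12]; rfl
  by_contra hlt
  push Not at hlt
  -- the size of the image
  have hscard : Nat.card E ≤ 2 * Nat.card S := by
    let f : E →* Multiplicative S :=
      { toFun := fun e => Multiplicative.ofAdd ⟨cl e, e, rfl⟩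
        map_one' := congrArg Multiplicative.ofAdd (Subtype.ext hone)
        map_mul' := fun e e' => congrArg Multiplicative.ofAdd (Subtype.ext (hadd e e')) }
    have e := Subgroup.card_eq_card_quotient_mul_card_subgroup f.ker
    have hk : Nat.card f.ker ≤ 2 := by
      have : Nat.card f.ker = ((fun t : f.ker => D.fr.Φ t.1.1) '' Set.univ).ncard := by
        rw [Set.ncard_image_of_injective _ (fun t t' ht =>
          Subtype.ext (Subtype.ext (D.fr.Φ_injective ht))), Set.ncard_univ]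
      rw [this]
      refine (Set.ncard_le_ncard (t := ({1, -1} : Set (Module.End F V)ˣ)) ?_ (Set.toFinite _)).trans
        ((Set.ncard_insert_le _ _).trans (by rw [Set.ncard_singleton]))
      rintro _ ⟨t, -, rfl⟩
      have : cl t.1 = 0 := congrArg Subtype.val (congrArg Multiplicative.toAdd (MonoidHom.mem_ker.mp t.2))
      rcases (Fr.cls_eq_zero (hm t.1)).mp this with e | e <;> simp [e]
    rw [e, Nat.card_congr (QuotientGroup.quotientKerEquivRange f).toEquiv, mul_comm]
    exact Nat.mul_le_mul hk ((Subgroup.card_le_card_group f.range).trans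
      (Nat.card_congr Multiplicative.toAdd).le)
  have hsdim : j ≤ finrank (ZMod 2) S := by
    have h2 : 2 * 2 ^ j ≤ 2 * 2 ^ finrank (ZMod 2) S := by
      have := Module.natCard_eq_pow_finrank (K := ZMod 2) (V := S)
      rw [Nat.card_zmod] at this
      rw [← this, mul_comm 2 (2 ^ j), ← pow_succ]
      exact hlt.trans hscard
    exact (Nat.pow_le_pow_iff_right one_lt_two).mp (Nat.le_of_mul_le_mul_left h2 two_pos)
  have hA : finrank (ZMod 2) Fr.A = 2 * (j + 1) := Fr.finrank_A h.card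
  -- the orthogonal of the image
  set So := LinearMap.BilinForm.orthogonal (QuadraticMap.polarBilin Fr.q) S
  have hle : S ⊔ P ≤ So := by
    refine sup_le (fun x hx => LinearMap.BilinForm.mem_orthogonal_iff.mpr fun y hy => hSS y hy x hx) ?_
    refine Submodule.span_le.mpr ?_
    intro x hx
    refine LinearMap.BilinForm.mem_orthogonal_iff.mpr fun y hy => ?_
    rcases hx with rfl | rfl
    · exact (hSP y hy).1
    · exact (hSP y hy).2
  have hdisj : S ⊓ P = ⊥ := by
    rw [eq_bot_iff]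
    rintro x ⟨hxS, hxP⟩
    by_contra hx0
    exact zero_ne_one ((hSq x hxS).symm.trans (hP x hxP hx0))
  have hP2 : finrank (ZMod 2) P = 2 := by
    have hli : LinearIndependent (ZMod 2) ![Fr.cls b₁, Fr.cls b₂] := by
      rw [LinearIndependent.pair_iff]
      intro a b e
      have e1 := congrArg (fun x => QuadraticMap.polarBilin Fr.q x (Fr.cls b₂)) e
      have e2 := congrArg (fun x => QuadraticMap.polarBilin Fr.q x (Fr.cls b₁)) e
      simp only [map_add, LinearMap.add_apply, map_smul, LinearMap.smul_apply, QSpace.bil_self, h12,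
        QSpace.bil_comm (Fr.cls b₂) (Fr.cls b₁), map_zero, LinearMap.zero_apply, smul_eq_mul, mul_zero,
        mul_one, add_zero, zero_add] at e1 e2
      exact ⟨e1, e2⟩
    have := finrank_span_eq_card hli
    rw [Fintype.card_fin, Matrix.range_cons_cons_empty] at this
    exact this
  have hSo : finrank (ZMod 2) So = 2 * (j + 1) - finrank (ZMod 2) S := by rw [Fr.qspace.finrank_orth, hA]
  have hsum : finrank (ZMod 2) ↥(S ⊔ P) = finrank (ZMod 2) S + 2 := by
    have := Submodule.finrank_sup_add_finrank_inf_eq S P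
    rw [hdisj, finrank_bot, hP2] at this
    omega
  have heq : S ⊔ P = So := Submodule.eq_of_le_of_finrank_le hle (by omega)
  obtain ⟨T, hT, hTq⟩ := h.half
  have hTT : T ≤ LinearMap.BilinForm.orthogonal (QuadraticMap.polarBilin Fr.q) T := fun x hx =>
    LinearMap.BilinForm.mem_orthogonal_iff.mpr fun y hy => by
      have e := hTq _ (T.add_mem hy hx)
      rw [QSpace.map_add', hTq y hy, hTq x hx, zero_add, zero_add] at e
      exact e
  have hTo : LinearMap.BilinForm.orthogonal (QuadraticMap.polarBilin Fr.q) T = T :=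
    (Submodule.eq_of_le_of_finrank_le hTT (by rw [Fr.qspace.finrank_orth, hA, hT]; omega)).symm
  have hsub : LinearMap.BilinForm.orthogonal (QuadraticMap.polarBilin Fr.q) (T ⊔ S) ≤ T ⊓ S := by
    intro x hx
    have hxT : x ∈ T := by
      rw [← hTo]; exact LinearMap.BilinForm.mem_orthogonal_iff.mpr fun y hy =>
        LinearMap.BilinForm.mem_orthogonal_iff.mp hx y (Submodule.mem_sup_left hy)
    have hxS : x ∈ S ⊔ P := by
      rw [heq]; exact LinearMap.BilinForm.mem_orthogonal_iff.mpr fun y hy =>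
        LinearMap.BilinForm.mem_orthogonal_iff.mp hx y (Submodule.mem_sup_right hy)
    obtain ⟨s, hsS, p, hp, rfl⟩ := Submodule.mem_sup.mp hxS
    by_cases hp0 : p = 0
    · exact ⟨hxT, by rw [hp0, add_zero]; exact hsS⟩
    · exfalso
      have e := hTq _ hxT
      rw [QSpace.map_add', hSq s hsS, hP p hp hp0, zero_add] at e
      obtain ⟨a, b, rfl⟩ := Submodule.mem_span_pair.mp hp
      rw [map_add, map_smul, map_smul, (hSP s hsS).1, (hSP s hsS).2] at e
      simp at e
  have h3 := Submodule.finrank_mono hsub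
  rw [Fr.qspace.finrank_orth, hA] at h3
  have h4 := Submodule.finrank_sup_add_finrank_inf_eq T S
  have h5 := Submodule.finrank_mono hle
  omega

/-- The group induced on the fixed space is of symplectic type and of minus type. -/
theorem ext [FiniteDimensional F V] : Sym78.Ext D.fr.form j (R.comap D.fr.Φ) := by
  haveI := h.amb.finite
  have hinj := D.fr.Φ_injective
  have hdim : finrank F D.fr.W = 2 ^ j := by
    have e := D.fr.finrank_eq
    rw [h.dim, pow_succ] at e
    omega
  refine ⟨h.amb.frame.two, Module.nontrivial_of_finrank_pos (R := F) (by rw [hdim]; positivity),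
    D.fr.form_alt, D.fr.form_nd, fun x hx => (h.mem_U_iff hb D x).mp (h.amb.R_le_U hx),
    ?_, h.card_comap hb D, fun a ha => ?_, fun a ha b hb' => ?_, fun a ha hc => ?_, fun T hT => ?_,
    fun E hE hc hs => h.small_of_elem hb D hE hc hs, hdim⟩
  · show D.fr.Φ (-1) ∈ R
    rw [D.fr.Φ_neg_one]; exact h.amb.frame.neg_one
  · rcases h.amb.frame.sq _ ha with e | e
    · exact Or.inl (hinj (by rw [map_mul, e, map_one]))
    · exact Or.inr (hinj (by rw [map_mul, e, D.fr.Φ_neg_one]))
  · have hneg : ∀ x, D.fr.Φ (-x) = -D.fr.Φ x := fun x => by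
      rw [show -x = -1 * x from (neg_one_mul x).symm, map_mul, D.fr.Φ_neg_one, neg_one_mul]
    rcases two_cases (anti (D.fr.Φ a) (D.fr.Φ b)) with e | e
    · exact Or.inl (hinj (by rw [map_mul, map_mul]; exact anti_eq_zero.mp e))
    · exact Or.inr (hinj (by rw [hneg, map_mul, map_mul]; exact (h.amb.frame.anti_one ha hb').mp e))
  · have hall : ∀ x ∈ R, D.fr.Φ a * x = x * D.fr.Φ a := fun x hx => h.comm_of_comap hb D
      (h.Φ_comm hb D a).1 (h.Φ_comm hb D a).2 (fun c hcR => by rw [← map_mul, ← map_mul, hc c hcR]) hx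
    by_contra hne
    push Not at hne
    obtain ⟨y, hy, hne'⟩ := h.amb.frame.sep _ ha
      (fun e => hne.1 (hinj (by rw [e, map_one]))) (fun e => hne.2 (hinj (by rw [e, D.fr.Φ_neg_one])))
    exact hne' (hall y hy)
  · obtain ⟨h1, h2⟩ := (D.comm (D.fr.ext T)).mp ⟨D.fr.ext_σ T, D.fr.ext_k T⟩
    obtain ⟨α, hα⟩ := h.amb.frame.exists_scalar (D.fr.ext T) fun x hx => by
      obtain ⟨c, w, hcR, rfl, hw⟩ := h.decomp hb D hx
      have hTw : D.fr.ext T * (w : Module.End F V) = w * D.fr.ext T := by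
        rcases hw with rfl | rfl | rfl | rfl
        · rw [Units.val_one, one_mul, mul_one]
        · exact h1
        · exact h2
        · rw [Units.val_mul, ← mul_assoc, h1, mul_assoc, h2, ← mul_assoc]
      rw [Units.val_mul, mul_assoc, ← hTw, ← mul_assoc, QFrame.Φ_val, ← map_mul, ← hT c hcR, map_mul,
        ← QFrame.Φ_val, ← mul_assoc]
    refine ⟨α, LinearMap.ext fun w => Subtype.ext ?_⟩
    rw [← D.fr.ext_coe T w, hα]
    rfl

end OrthAmb

end Cfsg.Agent.Lib.SympCent35
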