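import Cfsg.Agent.Lib.Sym78.Basic
import Cfsg.Agent.Lib.SympCent35.Main

/-!
The frame of a quaternion pair in an orthogonal space: the space is two copies of the fixed space of an
involution in the algebra of the pair, and the centraliser of the pair is the isometry group of an alternating
form on that space.
-/

set_option autoImplicit false
set_option linter.unusedSectionVars false
set_option linter.style.haveILetI false

namespace Cfsg.Agent.Lib.SympCent35

open Module

variable {F : Type*} [Field F] {V : Type*} [AddCommGroup V] [Module F V]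

/-- Two endomorphisms generating a matrix algebra of degree two, with their behaviour towards a symmetric form. -/
structure QFrame (B : LinearMap.BilinForm F V) (σ k : Module.End F V) : Prop where
  two : (2 : F) ≠ 0
  sym : ∀ u v, B u v = B v u
  nd : ∀ v, v ≠ 0 → ∃ w, B v w ≠ 0
  ss : ∀ v, σ (σ v) = v
  kk : ∀ v, k (k v) = -v
  sk : ∀ v, σ (k v) = -k (σ v)
  skew : ∀ u v, B (σ u) v = -B u (σ v)
  iso : ∀ u v, B (k u) (k v) = B u v

namespace QFrame

variable {B : LinearMap.BilinForm F V} {σ k : Module.End F V} (D : QFrame B σ k)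

/-- The fixed space. -/
abbrev W (_D : QFrame B σ k) : Submodule F V := LinearMap.ker (σ - 1)

include D

theorem mem_W {v : V} : v ∈ D.W ↔ σ v = v := by
  rw [LinearMap.mem_ker, LinearMap.sub_apply, Module.End.one_apply, sub_eq_zero]

theorem fix (w : D.W) : σ (w : V) = w := D.mem_W.mp w.2

theorem B_k_left (u v : V) : B (k u) v = -B u (k v) := by
  rw [← D.iso u (k v), D.kk, map_neg, neg_neg]

theorem B_W (u v : D.W) : B (u : V) (v : V) = 0 := by
  have h := D.skew (u : V) (v : V)
  rw [D.fix, D.fix] at h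
  have h2 : (2 : F) * B (u : V) (v : V) = 0 := by linear_combination h
  exact (mul_eq_zero.mp h2).resolve_left D.two

theorem half (v : V) : (2 : F)⁻¹ • (v + v) = v := by
  rw [← two_smul F v, smul_smul, inv_mul_cancel₀ D.two, one_smul]

/-- The projection to the fixed space. -/
def pr : V →ₗ[F] D.W :=
  LinearMap.codRestrict D.W ((2 : F)⁻¹ • (1 + σ)) fun v => D.mem_W.mpr (by
    rw [LinearMap.smul_apply, map_smul, LinearMap.add_apply, Module.End.one_apply, map_add, D.ss, add_comm])

/-- The second coordinate. -/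
def pr' : V →ₗ[F] D.W := D.pr.comp (-k)

theorem coe_pr (v : V) : (D.pr v : V) = (2 : F)⁻¹ • (v + σ v) := rfl

theorem coe_pr' (v : V) : (D.pr' v : V) = (2 : F)⁻¹ • (-k v + k (σ v)) := by
  show (2 : F)⁻¹ • (-k v + σ (-k v)) = _
  rw [map_neg, D.sk, neg_neg]

theorem recompose (v : V) : v = (D.pr v : V) + k (D.pr' v : V) := by
  rw [D.coe_pr, D.coe_pr', map_smul, map_add, map_neg, D.kk, D.kk, neg_neg, ← smul_add,
    show v + σ v + (v + -σ v) = v + v by abel, D.half]

theorem pr_coe (w : D.W) : D.pr (w : V) = w := Subtype.ext (by rw [D.coe_pr, D.fix, D.half])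

theorem pr'_coe (w : D.W) : D.pr' (w : V) = 0 := Subtype.ext (by
  rw [D.coe_pr', D.fix, neg_add_cancel, smul_zero, Submodule.coe_zero])

theorem pr_k (v : V) : D.pr (k v) = -D.pr' v := by
  show _ = -D.pr (-k v)
  rw [map_neg, neg_neg]

theorem pr'_k (v : V) : D.pr' (k v) = D.pr v := by
  show D.pr (-k (k v)) = _
  rw [D.kk, neg_neg]

theorem pr_σ (v : V) : D.pr (σ v) = D.pr v := Subtype.ext (by rw [D.coe_pr, D.coe_pr, D.ss, add_comm])

theorem pr'_σ (v : V) : D.pr' (σ v) = -D.pr' v := by
  show D.pr (-k (σ v)) = -D.pr (-k v)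
  rw [show -k (σ v) = σ (k v) by rw [D.sk], D.pr_σ, map_neg, neg_neg]

/-- The endomorphism of the whole space acting in both copies as the given one. -/
def ext : Module.End F D.W →* Module.End F V where
  toFun h := D.W.subtype ∘ₗ h ∘ₗ D.pr + k ∘ₗ D.W.subtype ∘ₗ h ∘ₗ D.pr'
  map_one' := LinearMap.ext fun v => (D.recompose v).symm
  map_mul' h h' := LinearMap.ext fun v => by
    simp only [Module.End.mul_apply, LinearMap.add_apply, LinearMap.comp_apply, Submodule.subtype_apply,
      map_add, D.pr_coe, D.pr_k, D.pr'_k, D.pr'_coe, map_zero, neg_zero, zero_add, add_zero]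

theorem ext_apply (h : Module.End F D.W) (v : V) :
    D.ext h v = (h (D.pr v) : V) + k (h (D.pr' v) : V) := rfl

theorem pr_ext (h : Module.End F D.W) (v : V) : D.pr (D.ext h v) = h (D.pr v) := by
  rw [D.ext_apply, map_add, D.pr_coe, D.pr_k, D.pr'_coe, neg_zero, add_zero]

theorem pr'_ext (h : Module.End F D.W) (v : V) : D.pr' (D.ext h v) = h (D.pr' v) := by
  rw [D.ext_apply, map_add, D.pr'_coe, D.pr'_k, D.pr_coe, zero_add]

theorem ext_coe (h : Module.End F D.W) (w : D.W) : D.ext h (w : V) = h w := by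
  rw [D.ext_apply, D.pr_coe, D.pr'_coe, map_zero, Submodule.coe_zero, map_zero, add_zero]

theorem ext_σ (h : Module.End F D.W) : D.ext h * σ = σ * D.ext h := LinearMap.ext fun v => by
  rw [Module.End.mul_apply, Module.End.mul_apply, D.ext_apply, D.ext_apply, D.pr_σ, D.pr'_σ, map_neg,
    map_add σ, D.fix, D.sk, D.fix, Submodule.coe_neg, map_neg]

theorem ext_k (h : Module.End F D.W) : D.ext h * k = k * D.ext h := LinearMap.ext fun v => by
  rw [Module.End.mul_apply, Module.End.mul_apply, D.ext_apply, D.ext_apply, D.pr_k, D.pr'_k, map_neg,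
    map_add k, D.kk, Submodule.coe_neg]
  abel

theorem ext_injective : Function.Injective D.ext := fun h h' e => LinearMap.ext fun w => Subtype.ext (by
  rw [← D.ext_coe h w, e, D.ext_coe])

/-- What commutes with both endomorphisms comes from the fixed space. -/
theorem exists_ext {a : Module.End F V} (hs : a * σ = σ * a) (hk : a * k = k * a) : ∃ h, D.ext h = a := by
  refine ⟨D.pr ∘ₗ a ∘ₗ D.W.subtype, LinearMap.ext fun v => ?_⟩
  have hs' : ∀ x, σ (a x) = a (σ x) := fun x => by
    rw [← Module.End.mul_apply, ← hs, Module.End.mul_apply]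
  have hk' : ∀ x, k (a x) = a (k x) := fun x => by
    rw [← Module.End.mul_apply, ← hk, Module.End.mul_apply]
  have hw : ∀ w : D.W, (D.pr (a (w : V)) : V) = a (w : V) := fun w => by
    rw [D.coe_pr, hs', D.fix, D.half]
  rw [D.ext_apply]
  simp only [LinearMap.comp_apply, Submodule.subtype_apply]
  rw [hw, hw, hk', ← map_add, ← D.recompose]

/-- The extension of units. -/
def Φ : (Module.End F D.W)ˣ →* (Module.End F V)ˣ := Units.map D.ext

theorem Φ_val (h : (Module.End F D.W)ˣ) : (D.Φ h : Module.End F V) = D.ext h := rfl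

theorem Φ_injective : Function.Injective D.Φ := fun _ _ e =>
  Units.ext (D.ext_injective (congrArg Units.val e))

theorem exists_Φ {g : (Module.End F V)ˣ} (hs : (g : Module.End F V) * σ = σ * g)
    (hk : (g : Module.End F V) * k = k * g) : ∃ h, D.Φ h = g := by
  have inv : ∀ t : Module.End F V, (g : Module.End F V) * t = t * g → ((g⁻¹ : (Module.End F V)ˣ) : Module.End F V) * t = t * g⁻¹ :=
    fun t ht => by
      calc ((g⁻¹ : (Module.End F V)ˣ) : Module.End F V) * t
          = ((g⁻¹ : (Module.End F V)ˣ) : Module.End F V) * (t * g) * g⁻¹ := by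
            rw [mul_assoc, Units.mul_inv_cancel_right]
        _ = t * g⁻¹ := by rw [← ht, Units.inv_mul_cancel_left]
  obtain ⟨a, ha⟩ := D.exists_ext hs hk
  obtain ⟨a', ha'⟩ := D.exists_ext (inv _ hs) (inv _ hk)
  refine ⟨⟨a, a', D.ext_injective ?_, D.ext_injective ?_⟩, Units.ext ha⟩
  · rw [map_mul, ha, ha', Units.mul_inv, map_one]
  · rw [map_mul, ha, ha', Units.inv_mul, map_one]

/-- The alternating form on the fixed space. -/
def form : LinearMap.BilinForm F D.W := LinearMap.compl₁₂ B D.W.subtype (k ∘ₗ D.W.subtype)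

theorem form_apply (u v : D.W) : D.form u v = B (u : V) (k (v : V)) := rfl

theorem form_alt (u : D.W) : D.form u u = 0 := by
  have h := D.B_k_left (u : V) (u : V)
  rw [D.sym, ← D.form_apply] at h
  have h2 : (2 : F) * D.form u u = 0 := by linear_combination h
  exact (mul_eq_zero.mp h2).resolve_left D.two

theorem B_eq (u v : V) : B u v = D.form (D.pr u) (D.pr' v) - D.form (D.pr' u) (D.pr v) := by
  conv_lhs => rw [D.recompose u, D.recompose v]
  simp only [map_add, LinearMap.add_apply, D.iso, D.B_W, D.B_k_left, D.form_apply]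
  ring

theorem form_nd (u : D.W) (hu : u ≠ 0) : ∃ w, D.form u w ≠ 0 := by
  obtain ⟨v, hv⟩ := D.nd (u : V) fun e => hu (Subtype.ext e)
  rw [D.B_eq, D.pr_coe, D.pr'_coe, map_zero, LinearMap.zero_apply, sub_zero] at hv
  exact ⟨_, hv⟩

theorem mem_spSub {h : (Module.End F D.W)ˣ} :
    h ∈ Sym78.spSub D.form ↔ ∀ u v, B ((D.Φ h : Module.End F V) u) ((D.Φ h : Module.End F V) v) = B u v := by
  constructor
  · intro hh u v
    rw [D.Φ_val, D.B_eq, D.pr_ext, D.pr_ext, D.pr'_ext, D.pr'_ext, hh, hh, ← D.B_eq]
  · intro hh u v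
    have hk : k (D.ext (h : Module.End F D.W) (v : V)) = D.ext (h : Module.End F D.W) (k (v : V)) := by
      rw [← Module.End.mul_apply, ← D.ext_k, Module.End.mul_apply]
    rw [D.form_apply, D.form_apply, ← D.ext_coe, ← D.ext_coe, hk]
    exact hh _ _

/-- The space is two copies of the fixed space. -/
def prodEquiv : V ≃ₗ[F] D.W × D.W :=
  { D.pr.prod D.pr' with
    invFun := fun x => (x.1 : V) + k (x.2 : V)
    left_inv := fun v => (D.recompose v).symm
    right_inv := fun x => by
      refine Prod.ext ?_ ?_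
      · show D.pr ((x.1 : V) + k (x.2 : V)) = x.1
        rw [map_add, D.pr_coe, D.pr_k, D.pr'_coe, neg_zero, add_zero]
      · show D.pr' ((x.1 : V) + k (x.2 : V)) = x.2
        rw [map_add, D.pr'_coe, D.pr'_k, D.pr_coe, zero_add] }

theorem finrank_eq [FiniteDimensional F V] : finrank F V = 2 * finrank F D.W := by
  rw [LinearEquiv.finrank_eq D.prodEquiv, Module.finrank_prod, two_mul]

end QFrame

end Cfsg.Agent.Lib.SympCent35
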