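import Cfsg.Agent.Lib.SympCent35.Quat

/-!
An overgroup of the normaliser in the orthogonal case normalises the group or contains the centraliser of every
quaternion pair, and not every element of the derived group normalises it.
-/

set_option autoImplicit false
set_option linter.unusedSectionVars false
set_option linter.style.haveILetI false

namespace Cfsg.Agent.Lib.SympCent35

open Module
open scoped commutatorElement

universe u v

variable {F : Type u} [Field F] [Fintype F] {V : Type v} [AddCommGroup V] [Module F V] [Nontrivial V] [Finite V]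
  [Finite (Module.End F V)ˣ]

/-- The subgroup contains the centraliser of the pair in the isometry group. -/
def CentIn (U M : Subgroup (Module.End F V)ˣ) (b₁ b₂ : (Module.End F V)ˣ) : Prop :=
  ∀ g ∈ U, g * b₁ = b₁ * g → g * b₂ = b₂ * g → g ∈ M

namespace OrthAmb

variable {B : LinearMap.BilinForm F V} {R : Subgroup (Module.End F V)ˣ}
  {adj : Module.End F V → Module.End F V} {U G₀ : Subgroup (Module.End F V)ˣ} {j : ℕ}
  (h : OrthAmb B R adj U G₀ j) {x y : F} (hxy : x * x + y * y = -1) (hp : (Fintype.card F).Prime) (hj : 3 ≤ j)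

include h

theorem conj_mem {g x : (Module.End F V)ˣ} (hg : g ∈ U) (hx : x ∈ G₀) : g * x * g⁻¹ ∈ G₀ := by
  have hc : ⁅g, x⁆ * x ∈ G₀ :=
    G₀.mul_mem (h.amb.comm_le (Subgroup.commutator_mem_commutator hg (h.amb.le_U hx))) hx
  rwa [commutatorElement_def, inv_mul_cancel_right] at hc

/-- Two commuting pairs exist. -/
theorem exists_inner {b₁ b₂ : (Module.End F V)ˣ} (hb : QPair R b₁ b₂) :
    ∃ c₁ c₂, QPair R c₁ c₂ ∧ c₁ * b₁ = b₁ * c₁ ∧ c₁ * b₂ = b₂ * c₁ ∧ c₂ * b₁ = b₁ * c₂ ∧ c₂ * b₂ = b₂ * c₂ := by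
  classical
  haveI := h.amb.finA
  set Fr := h.amb.frame
  have hbig := h.amb.big
  let S₀ := Submodule.span (ZMod 2) ({Fr.cls b₁, Fr.cls b₂, Fr.cls b₂} : Set Fr.A)
  have hS₀ : finrank (ZMod 2) S₀ ≤ 3 := Fr.qspace.finrank_span_three _ _ _
  obtain ⟨v, hv, hvS⟩ := Fr.qspace.exists_ns (S := S₀) 0 (Or.inl (by omega))
  have hv1 : QuadraticMap.polarBilin Fr.q v (Fr.cls b₁) = 0 := by
    rw [hvS _ (Submodule.subset_span (by simp)), map_zero, LinearMap.zero_apply]
  have hv2 : QuadraticMap.polarBilin Fr.q v (Fr.cls b₂) = 0 := by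
    rw [hvS _ (Submodule.subset_span (by simp)), map_zero, LinearMap.zero_apply]
  have hvn : v ∉ Submodule.span (ZMod 2) ({Fr.cls b₁, Fr.cls b₂} : Set Fr.A) := by
    intro hmem
    obtain ⟨a, b, rfl⟩ := Submodule.mem_span_pair.mp hmem
    have h12 : QuadraticMap.polarBilin Fr.q (Fr.cls b₁) (Fr.cls b₂) = 1 := by rw [Fr.bil_cls hb.m₁ hb.m₂, hb.ac]
    simp only [map_add, LinearMap.add_apply, map_smul, LinearMap.smul_apply, QSpace.bil_self, h12,
      QSpace.bil_comm (Fr.cls b₂) (Fr.cls b₁), smul_eq_mul, mul_zero, mul_one, add_zero, zero_add] at hv1 hv2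
    rw [hv1, hv2, zero_smul, zero_smul, add_zero, map_zero] at hv
    exact zero_ne_one hv
  obtain ⟨v₀, hv₀, hv₀v⟩ := Fr.qspace.exists_sep hvn
  let S := Submodule.span (ZMod 2) ({Fr.cls b₁, Fr.cls b₂, v} : Set Fr.A)
  have hS : finrank (ZMod 2) S ≤ 3 := Fr.qspace.finrank_span_three _ _ _
  obtain ⟨w, hw, hwS⟩ := Fr.qspace.exists_ns (S := S) v₀ (Or.inl (by omega))
  obtain ⟨c₁, hc₁, rfl⟩ := Fr.cls_surj v
  obtain ⟨c₂, hc₂, rfl⟩ := Fr.cls_surj w
  rw [Fr.q_cls hc₁, Fr.sqc_one hc₁] at hv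
  rw [Fr.q_cls hc₂, Fr.sqc_one hc₂] at hw
  rw [Fr.bil_cls hc₁ hb.m₁] at hv1
  rw [Fr.bil_cls hc₁ hb.m₂] at hv2
  refine ⟨c₁, c₂, ⟨hc₁, hc₂, hv, hw, ?_⟩, anti_eq_zero.mp hv1, anti_eq_zero.mp hv2, anti_eq_zero.mp ?_,
    anti_eq_zero.mp ?_⟩
  · rw [anti_comm, ← Fr.bil_cls hc₂ hc₁, hwS _ (Submodule.subset_span (by simp)), hv₀v]
  · rw [← Fr.bil_cls hc₂ hb.m₁, hwS _ (Submodule.subset_span (by simp)),
      hv₀ _ (Submodule.subset_span (by simp))]
  · rw [← Fr.bil_cls hc₂ hb.m₂, hwS _ (Submodule.subset_span (by simp)),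
      hv₀ _ (Submodule.subset_span (by simp))]

theorem exists_qpair : ∃ b₁ b₂, QPair R b₁ b₂ := by
  classical
  haveI := h.amb.finA
  set Fr := h.amb.frame
  have hbig := h.amb.big
  obtain ⟨v, hv, -⟩ := Fr.qspace.exists_ns (S := ⊥) 0 (Or.inl (by rw [finrank_bot]; omega))
  have hvn : v ∉ (⊥ : Submodule (ZMod 2) Fr.A) := fun e => by
    rw [Submodule.mem_bot] at e; rw [e, map_zero] at hv; exact zero_ne_one hv
  obtain ⟨v₀, -, hv₀v⟩ := Fr.qspace.exists_sep hvn
  let S := Submodule.span (ZMod 2) ({v, v, v} : Set Fr.A)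
  have hS : finrank (ZMod 2) S ≤ 3 := Fr.qspace.finrank_span_three _ _ _
  obtain ⟨w, hw, hwS⟩ := Fr.qspace.exists_ns (S := S) v₀ (Or.inl (by omega))
  obtain ⟨c₁, hc₁, rfl⟩ := Fr.cls_surj v
  obtain ⟨c₂, hc₂, rfl⟩ := Fr.cls_surj w
  rw [Fr.q_cls hc₁, Fr.sqc_one hc₁] at hv
  rw [Fr.q_cls hc₂, Fr.sqc_one hc₂] at hw
  refine ⟨c₂, c₁, hc₂, hc₁, hw, hv, ?_⟩
  rw [← Fr.bil_cls hc₂ hc₁, hwS _ (Submodule.subset_span (by simp)), hv₀v]

variable {b₁ b₂ : (Module.End F V)ˣ} (hb : QPair R b₁ b₂) {σ k : Module.End F V} (D : Adapted B σ k b₁ b₂)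

include hj hb D

/-- The centraliser of a pair in the isometry group lies in the derived group. -/
theorem spSub_le : Sym78.spSub D.fr.form ≤ G₀.comap D.fr.Φ := by
  haveI : Module.Finite F V := Module.Finite.of_finite
  haveI : Finite D.fr.W := Finite.of_injective _ Subtype.val_injective
  obtain ⟨i, rfl⟩ : ∃ i, j = i + 1 := ⟨j - 1, by omega⟩
  have E := h.ext hb D
  obtain ⟨b, hbR, hb2, hb1, hbn⟩ := E.exists_invol (by omega)
  refine Sym78T.spSub_le_of_full E (Sym78.full_of_involution E.alt E.nondeg E.two_ne ?_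
    (K := G₀.comap D.fr.Φ) (b := b) ?_ (E.le hbR) hb2 hb1 hbn)
  · intro g v c hg x hx
    show D.fr.Φ (g * x * g⁻¹) ∈ G₀
    rw [map_mul, map_mul, map_inv]
    exact h.conj_mem ((h.mem_U_iff hb D g).mpr (hg.mem_spSub E.alt)) hx
  · exact h.amb.R_le hbR

/-- An element normalising the induced group extends to one normalising the group. -/
theorem normalizes_of {c : (Module.End F D.fr.W)ˣ}
    (hc : c ∈ Subgroup.normalizer (R.comap D.fr.Φ : Set (Module.End F D.fr.W)ˣ)) :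
    D.fr.Φ c ∈ Subgroup.normalizer (R : Set (Module.End F V)ˣ) := by
  haveI := h.amb.finite
  refine Subgroup.mem_normalizer_fintype fun z hz => ?_
  obtain ⟨d, w, hdR, rfl, hw⟩ := h.decomp hb D hz
  obtain ⟨e1, e2⟩ := h.Φ_comm hb D c
  have hcw : D.fr.Φ c * w = w * D.fr.Φ c := by
    rcases hw with rfl | rfl | rfl | rfl
    · rw [one_mul, mul_one]
    · exact e1
    · exact e2
    · rw [← mul_assoc, e1, mul_assoc, e2, ← mul_assoc]
  have hwR : w ∈ R := by
    rcases hw with rfl | rfl | rfl | rfl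
    exacts [R.one_mem, hb.m₁, hb.m₂, R.mul_mem hb.m₁ hb.m₂]
  have key : D.fr.Φ c * (D.fr.Φ d * w) * (D.fr.Φ c)⁻¹ = D.fr.Φ (c * d * c⁻¹) * w := by
    rw [map_mul, map_mul, map_inv, mul_assoc _ _ w, (Commute.inv_left (show Commute (D.fr.Φ c) w from hcw)).eq]
    simp only [mul_assoc]
  show D.fr.Φ c * (D.fr.Φ d * w) * (D.fr.Φ c)⁻¹ ∈ R
  rw [key]
  exact R.mul_mem ((Subgroup.mem_normalizer_iff.mp hc d).mp hdR) hwR

include hp in
/-- An overgroup of the normaliser either permutes the commuting part of the group or contains the whole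
centraliser. -/
theorem dichotomy {M : Subgroup (Module.End F V)ˣ} (hMU : M ≤ U)
    (hN : ∀ g ∈ G₀, g ∈ Subgroup.normalizer (R : Set (Module.End F V)ˣ) → g ∈ M) :
    (∀ g ∈ M, g * b₁ = b₁ * g → g * b₂ = b₂ * g → ∀ z ∈ R, anti z b₁ = 0 → anti z b₂ = 0 → g * z * g⁻¹ ∈ R) ∨
      CentIn U M b₁ b₂ := by
  haveI : Finite D.fr.W := Finite.of_injective _ Subtype.val_injective
  haveI : Module.Finite F V := Module.Finite.of_finite
  let L : Subgroup (Module.End F D.fr.W)ˣ := M.comap D.fr.Φ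
  have hL : L ≤ Sym78.spSub D.fr.form := fun c hc => (h.mem_U_iff hb D c).mp (hMU hc)
  have hmax := Sym78T.maxAt.{u, v} hp j (by omega) (fun i hi _ => Sym78T.stepAt F i hi) _ _ _ (h.ext hb D)
  have hNL : Subgroup.normalizer (R.comap D.fr.Φ : Set (Module.End F D.fr.W)ˣ) ⊓ Sym78.spSub D.fr.form ≤ L :=
    fun c hc => hN _ (h.spSub_le hj hb D hc.2) (h.normalizes_of hj hb D hc.1)
  rcases hmax.2 L hNL hL with e | e
  · left
    intro g hg h1 h2 z hz z1 z2
    obtain ⟨c, rfl⟩ := h.exists_pre hb D h1 h2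
    obtain ⟨d, rfl⟩ := h.exists_pre hb D (anti_eq_zero.mp z1) (anti_eq_zero.mp z2)
    have hc : c ∈ L := hg
    rw [e] at hc
    rw [← map_inv, ← map_mul, ← map_mul]
    exact (Subgroup.mem_normalizer_iff.mp hc.1 d).mp hz
  · right
    intro g hg h1 h2
    obtain ⟨c, rfl⟩ := h.exists_pre hb D h1 h2
    have hc : c ∈ L := by rw [e]; exact (h.mem_U_iff hb D c).mp hg
    exact hc

/-- Not every element of the derived group normalises the group. -/
theorem not_normalizes : ¬ G₀ ≤ Subgroup.normalizer (R : Set (Module.End F V)ˣ) := by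
  intro hall
  haveI : Finite D.fr.W := Finite.of_injective _ Subtype.val_injective
  haveI : Module.Finite F V := Module.Finite.of_finite
  refine (Sym78T.normalizer_lt (h.ext hb D) (by omega)).not_ge fun c hc => ⟨?_, hc⟩
  refine Subgroup.mem_normalizer_iff.mpr fun d => ?_
  show D.fr.Φ d ∈ R ↔ D.fr.Φ (c * d * c⁻¹) ∈ R
  rw [map_mul, map_mul, map_inv]
  exact Subgroup.mem_normalizer_iff.mp (hall (h.spSub_le hj hb D hc)) _

omit hb D

include hp hxy in
/-- An overgroup of the normaliser normalises the group or contains the centraliser of every pair. -/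
theorem normalizes_or_cent {M : Subgroup (Module.End F V)ˣ} (hMU : M ≤ U)
    (hN : ∀ g ∈ G₀, g ∈ Subgroup.normalizer (R : Set (Module.End F V)ˣ) → g ∈ M) :
    M ≤ Subgroup.normalizer (R : Set (Module.End F V)ˣ) ∨ ∀ b₁ b₂, QPair R b₁ b₂ → CentIn U M b₁ b₂ := by
  classical
  by_cases hq : ∀ b₁ b₂, QPair R b₁ b₂ → ∀ g ∈ M, g * b₁ = b₁ * g → g * b₂ = b₂ * g →
      ∀ z ∈ R, anti z b₁ = 0 → anti z b₂ = 0 → g * z * g⁻¹ ∈ R
  · left
    refine Over.normalizes (F := F) (adj := adj) (U := U) (G₀ := G₀) ⟨h.amb, hMU, hN, Or.inr ?_, ?_⟩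
    · obtain ⟨T, hT, hTq⟩ := h.half
      exact ⟨T, by rw [hT, h.amb.frame.finrank_A h.card], hTq⟩
    · exact fun a ha b hb s1 s2 hab => hq a b ⟨ha, hb, s1, s2, hab⟩
  · right
    push Not at hq
    obtain ⟨a₁, a₂, ha, g, hg, h1, h2, z, hz, z1, z2, hgz⟩ := hq
    obtain ⟨σ, k, D⟩ := h.exists_adapted ha hxy
    have hcent := (h.dichotomy hp hj ha D hMU hN).resolve_left fun e => hgz (e g hg h1 h2 z hz z1 z2)
    intro b₁ b₂ hb t ht t1 t2
    obtain ⟨u, huG, huN, hu1, hu2⟩ :=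
      h.amb.exists_conj_pair ha.m₁ ha.m₂ hb.m₁ hb.m₂ ha.s₁ ha.s₂ hb.s₁ hb.s₂ ha.ac hb.ac
    have hu : u ∈ M := hN u huG huN
    have key : ∀ a b, a ∈ R → b ∈ R → h.amb.frame.cls (u * a * u⁻¹) = h.amb.frame.cls b → t * b = b * t →
        u⁻¹ * t * u * a = a * (u⁻¹ * t * u) := by
      intro a b haR hbR e tb
      have hcomm : t * (u * a * u⁻¹) = u * a * u⁻¹ * t := by
        rcases (h.amb.frame.cls_eq_iff ((Subgroup.mem_normalizer_iff.mp huN a).mp haR) hbR).mp e with e' | e' <;>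
          rw [e']
        · exact tb
        · rw [mul_neg, neg_mul, tb]
      calc u⁻¹ * t * u * a = u⁻¹ * (t * (u * a * u⁻¹)) * u := by group
        _ = a * (u⁻¹ * t * u) := by rw [hcomm]; group
    have hMt := hcent (u⁻¹ * t * u) (U.mul_mem (U.mul_mem (U.inv_mem (h.amb.le_U huG)) ht) (h.amb.le_U huG))
      (key _ _ ha.m₁ hb.m₁ hu1 t1) (key _ _ ha.m₂ hb.m₂ hu2 t2)
    have := M.mul_mem (M.mul_mem hu hMt) (M.inv_mem hu)
    rwa [show u * (u⁻¹ * t * u) * u⁻¹ = t by group] at this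

end OrthAmb

end Cfsg.Agent.Lib.SympCent35
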