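import Cfsg.Agent.Lib.SympCent35.Big
import Cfsg.Agent.Lib.MaxClass.Degree

/-!
The hypotheses of the maximality statement in the form used here.
-/

set_option autoImplicit false
set_option linter.unusedSectionVars false
set_option linter.style.haveILetI false

namespace Cfsg.Agent.Lib.SympCent35

open Module Matrix
open Cfsg Cfsg.Geo
open scoped commutatorElement

variable {F : Type*} [Field F] [Fintype F] {n : ℕ}

/-- A group with centre `±1`, commutators `±1` and the degree of a group of symplectic type spans the algebra. -/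
theorem span_eq_top {k : ℕ} (R : Subgroup (GL (Fin n) F)) [Finite R] (hcard : Nat.card R = 2 ^ (1 + 2 * k))
    (hn : n = 2 ^ k) (h2 : (2 : F) ≠ 0) (hZ : Nat.card (Subgroup.center R) = 2)
    (hneg : ∀ a : R, a ∉ Subgroup.center R → ∃ b : R, (b : GL (Fin n) F) * a = -((a : GL (Fin n) F) * b)) :
    Submodule.span F ((fun g : GL (Fin n) F => (g : Matrix (Fin n) (Fin n) F)) '' (R : Set (GL (Fin n) F))) = ⊤ := by
  classical
  set Z := Subgroup.center R with hZdef
  haveI : Fintype (R ⧸ Z) := Fintype.ofFinite _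
  let v : R ⧸ Z → Matrix (Fin n) (Fin n) F := fun a => ((a.out : R) : GL (Fin n) F)
  have hN : Fintype.card (R ⧸ Z) = n * n := by
    have h := Subgroup.card_eq_card_quotient_mul_card_subgroup Z
    rw [hcard, hZ, Nat.card_eq_fintype_card (α := R ⧸ Z)] at h
    have hnn : n * n = 2 ^ (2 * k) := by rw [two_mul, pow_add, ← hn]
    have : 2 ^ (1 + 2 * k) = 2 ^ (2 * k) * 2 := by rw [add_comm, pow_succ]
    omega
  have htr : ∀ x : R, x ∉ Z → Matrix.trace ((x : GL (Fin n) F) : Matrix (Fin n) (Fin n) F) = 0 := by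
    intro x hx
    obtain ⟨y, hy⟩ := hneg x hx
    have e : ((y : GL (Fin n) F) : Matrix (Fin n) (Fin n) F) * ((x : GL (Fin n) F) : Matrix (Fin n) (Fin n) F) *
        (((y : GL (Fin n) F)⁻¹ : GL (Fin n) F) : Matrix (Fin n) (Fin n) F) =
        -((x : GL (Fin n) F) : Matrix (Fin n) (Fin n) F) := by
      rw [← Units.val_mul, hy, Units.val_neg, Units.val_mul, neg_mul, Units.mul_inv_cancel_right]
    have h3 := congrArg Matrix.trace e
    rw [Matrix.trace_mul_cycle, Units.inv_mul, Matrix.one_mul, Matrix.trace_neg] at h3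
    have h4 : (2 : F) * Matrix.trace ((x : GL (Fin n) F) : Matrix (Fin n) (Fin n) F) = 0 := by
      linear_combination h3
    exact (mul_eq_zero.mp h4).resolve_left h2
  have hli : LinearIndependent F v := by
    rw [Fintype.linearIndependent_iff]
    intro c hc a
    have e := congrArg (fun X => Matrix.trace ((((a.out : R) : GL (Fin n) F)⁻¹ : GL (Fin n) F).val * X)) hc
    simp only [Matrix.mul_sum, Matrix.mul_smul, Matrix.trace_sum, Matrix.trace_smul, Matrix.mul_zero,
      Matrix.trace_zero, smul_eq_mul] at e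
    rw [Finset.sum_eq_single a] at e
    · simp only [v] at e
      rw [Units.inv_mul, Matrix.trace_one, Fintype.card_fin] at e
      refine (mul_eq_zero.mp e).resolve_right ?_
      rw [hn, Nat.cast_pow, Nat.cast_ofNat]
      exact pow_ne_zero _ h2
    · intro b _ hb
      refine mul_eq_zero_of_right _ ?_
      simp only [v]
      rw [← Units.val_mul, ← Subgroup.coe_inv, ← Subgroup.coe_mul]
      refine htr _ fun hmem => hb ?_
      rw [← QuotientGroup.out_eq' a, ← QuotientGroup.out_eq' b]
      exact (QuotientGroup.eq.mpr hmem).symm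
    · exact fun h => absurd (Finset.mem_univ a) h
  refine Submodule.eq_top_of_finrank_eq (le_antisymm (Submodule.finrank_le _) ?_)
  have h1 : finrank F (Submodule.span F (Set.range v)) = n * n := by rw [finrank_span_eq_card hli, hN]
  rw [Module.finrank_matrix, Module.finrank_self, mul_one, Fintype.card_fin, ← h1]
  refine Submodule.finrank_mono (Submodule.span_mono ?_)
  rintro _ ⟨a, rfl⟩
  exact ⟨_, (a.out).2, rfl⟩

/-- The orthogonal normaliser statement. -/
theorem isMaximalIn_orthogonal (hn : 13 ≤ n) (Q : QuadraticForm F (Fin n → F))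
    (hQ : (QuadraticMap.polarBilin Q).Nondegenerate) {p k : ℕ} (hp : p.Prime) (hpo : Odd p)
    (hF : Fintype.card F = p) (R : Subgroup (GL (Fin n) F)) (hR : IsSymplecticTypeGroup 2 R)
    (hirr : ActsAbsolutelyIrreducibly (matrixSet R)) (hRD : R ≤ isometryGroup F ⇑Q)
    (hcard : Nat.card R = 2 ^ (1 + 2 * k)) (hZ : Nat.card (Subgroup.center R) = 2) (hpt : IsOfPlusType k R) :
    IsMaximalIn (omegaGL ⇑Q) (subgroupNormalizer R ⊓ omegaGL ⇑Q) := by
  classical
  haveI : Fact p.Prime := ⟨hp⟩
  haveI : CharP F p := charP_of_card_eq_prime hF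
  haveI : Nonempty (Fin n) := ⟨⟨0, by omega⟩⟩
  haveI : Nontrivial (Fin n → F) := Function.nontrivial
  haveI : Finite (Module.End F (Fin n → F))ˣ :=
    Finite.of_equiv _ (Matrix.GeneralLinearGroup.toLin (n := Fin n) (R := F)).toEquiv
  haveI : Finite R := Nat.finite_of_card_ne_zero (by rw [hcard]; positivity)
  have hp2 : (2 : ℕ) ≠ p := fun e => by subst e; exact absurd hpo (by decide)
  have h2 : (2 : F) ≠ 0 := fun e => hp2 ((Nat.prime_dvd_prime_iff_eq hp Nat.prime_two).mp
    ((CharP.cast_eq_zero_iff F p 2).mp (by exact_mod_cast e))).symm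
  have hclass : commutator R ≤ Subgroup.center R :=
    MaxClass.commutator_le_center_of_exponent_four hR.pGroup hR.cyclic_of_characteristic
      (by rw [hR.exponent_eq]; norm_num) hZ
  have hn0 : 0 < n := by omega
  have hcen : ∀ a : R, a ∈ Subgroup.center R → (a : GL (Fin n) F) = 1 ∨ (a : GL (Fin n) F) = -1 := by
    intro a ha
    obtain ⟨c, hc⟩ := (mem_scalars_iff _).mp (MaxClass.center_mem_scalars hirr ha)
    have hsq : a ^ 2 = 1 := by
      have : (⟨a, ha⟩ : Subgroup.center R) ^ Nat.card (Subgroup.center R) = 1 := pow_card_eq_one'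
      rw [hZ] at this
      exact congrArg Subtype.val this
    have hsq' := congrArg (fun x : R => ((x : GL (Fin n) F) : Matrix (Fin n) (Fin n) F)) hsq
    simp only [SubgroupClass.coe_pow, Units.val_pow_eq_pow_val, hc, _root_.smul_pow, one_pow,
      OneMemClass.coe_one, Units.val_one] at hsq'
    have h1 : (c : F) ^ 2 = 1 := by simpa using congrFun (congrFun hsq' ⟨0, hn0⟩) ⟨0, hn0⟩
    rcases sq_eq_one_iff.mp h1 with h | h
    · left; exact Units.ext (by simp [hc, h])
    · right; exact Units.ext (by simp [hc, h])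
  have hnegR : (-1 : GL (Fin n) F) ∈ R := by
    obtain ⟨x, y, hxy, -⟩ := Nat.card_eq_two_iff.mp hZ
    rcases hcen x x.2 with h | h
    · rcases hcen y y.2 with h' | h'
      · exact absurd (Subtype.ext (Subtype.ext (h.trans h'.symm))) hxy
      · exact h' ▸ (y : R).2
    · exact h ▸ (x : R).2
  have hcm : ∀ a b : R, ⁅a, b⁆ ∈ Subgroup.center R := fun a b =>
    hclass (Subgroup.commutator_mem_commutator (Subgroup.mem_top a) (Subgroup.mem_top b))
  have hcc : ∀ a ∈ R, ∀ b ∈ R, a * b = b * a ∨ a * b = -(b * a) := by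
    intro a ha b hb
    have h : ((⁅(⟨a, ha⟩ : R), ⟨b, hb⟩⁆ : R) : GL (Fin n) F) = a * b * a⁻¹ * b⁻¹ := rfl
    rcases hcen _ (hcm ⟨a, ha⟩ ⟨b, hb⟩) with e | e <;> rw [h] at e
    · exact Or.inl (mul_inv_eq_iff_eq_mul.mp (mul_inv_eq_one.mp e))
    · right
      rw [mul_inv_eq_iff_eq_mul, mul_inv_eq_iff_eq_mul] at e
      rw [e, neg_one_mul, neg_mul]
  have hsqc : ∀ a ∈ R, ∀ b ∈ R, (a * a) * b = b * (a * a) := by
    intro a ha b hb
    rcases hcc a ha b hb with e | e
    · rw [mul_assoc, e, ← mul_assoc, e, mul_assoc]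
    · rw [mul_assoc, e, mul_neg, ← mul_assoc, e, neg_mul, neg_neg, mul_assoc]
  have hsq : ∀ a ∈ R, a * a = 1 ∨ a * a = -1 := fun a ha =>
    hcen ⟨a * a, mul_mem ha ha⟩ (Subgroup.mem_center_iff.mpr fun b =>
      Subtype.ext (hsqc a ha b b.2).symm)
  have hdim : n = 2 ^ k := by
    simpa using MaxClass.symplecticType_degree_of_class hp2 hR hirr hZ hclass (by rw [hcard]; ring)
  have hk4 : 4 ≤ k := by
    by_contra hlt
    have : 2 ^ k ≤ 2 ^ 3 := Nat.pow_le_pow_right (by norm_num) (by omega)
    omega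
  have hneg : ∀ a : R, a ∉ Subgroup.center R → ∃ b : R, (b : GL (Fin n) F) * a = -((a : GL (Fin n) F) * b) := by
    intro a ha
    rw [Subgroup.mem_center_iff] at ha
    push Not at ha
    obtain ⟨b, hb⟩ := ha
    exact ⟨b, (hcc b b.2 a a.2).resolve_left fun e => hb (Subtype.ext e)⟩
  have hspan := span_eq_top R hcard hdim h2 hZ hneg
  -- transport
  obtain ⟨ψ, hψ⟩ : ∃ ψ : GL (Fin n) F ≃* (Module.End F (Fin n → F))ˣ,
      ψ = Matrix.GeneralLinearGroup.toLin := ⟨_, rfl⟩
  have hψv : ∀ g, (ψ g : Module.End F (Fin n → F)) = Matrix.toLinAlgEquiv' (g : Matrix (Fin n) (Fin n) F) :=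
    fun g => by rw [hψ]; rfl
  have hψneg : ∀ g, ψ (-g) = -ψ g := fun g => Units.ext (by
    rw [hψv, Units.val_neg, Units.val_neg, hψv, map_neg])
  obtain ⟨B, hBdef⟩ : ∃ B, B = QuadraticMap.polarBilin Q := ⟨_, rfl⟩
  have hB : B.Nondegenerate := hBdef ▸ hQ
  have hsym : ∀ u v, B u v = B v u := fun u v => by rw [hBdef]; exact QuadraticMap.polar_comm _ u v
  obtain ⟨adj, hadj⟩ : ∃ adj : Module.End F (Fin n → F) → Module.End F (Fin n → F),
      ∀ X u v, B (adj X u) v = B u (X v) :=
    ⟨fun X => LinearMap.BilinForm.leftAdjointOfNondegenerate B hB X,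
      fun X u v => LinearMap.BilinForm.isAdjointPairLeftAdjointOfNondegenerate B hB X u v⟩
  have huniq : ∀ Y X : Module.End F (Fin n → F), (∀ u v, B (Y u) v = B u (X v)) → Y = adj X := fun Y X hY =>
    LinearMap.ext fun u => by
      by_contra hne
      exact sub_ne_zero.mpr hne (hB.1 _ fun v => by rw [map_sub, LinearMap.sub_apply, hY, hadj, sub_self])
  let R' := R.map ψ.toMonoidHom
  let U := endImage (isometryGroup F ⇑Q)
  let G₀ := endImage (omegaGL ⇑Q)
  have hR'card : Nat.card R' = 2 ^ (1 + 2 * k) := by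
    rw [Subgroup.card_map_of_injective (f := ψ.toMonoidHom) ψ.injective, hcard]
  have hFr : Frame F R' := by
    refine ⟨Nat.finite_of_card_ne_zero (by rw [hR'card]; positivity), h2, ⟨-1, hnegR, ?_⟩, ?_, ?_, ?_⟩
    · show ψ (-1) = -1
      rw [hψneg, map_one]
    · rintro _ ⟨a, ha, rfl⟩
      rcases hsq a ha with e | e
      · exact Or.inl (by rw [← map_mul, e, map_one])
      · exact Or.inr (by rw [← map_mul, e]; show ψ (-1) = -1; rw [hψneg, map_one])
    · rintro _ ⟨a, ha, rfl⟩ h1 hm1
      obtain ⟨b, hb⟩ := hneg ⟨a, ha⟩ fun hc => by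
        rcases hcen _ hc with e | e
        · exact h1 (by rw [show a = 1 from e]; exact map_one _)
        · exact hm1 (by rw [show a = -1 from e]; show ψ (-1) = -1; rw [hψneg, map_one])
      refine ⟨ψ b, ⟨b, b.2, rfl⟩, fun e => ?_⟩
      have e' : a * (b : GL (Fin n) F) = (b : GL (Fin n) F) * a := ψ.injective (by simpa using e)
      rw [← e'] at hb
      have e3 : ((a * (b : GL (Fin n) F) : GL (Fin n) F) : Matrix (Fin n) (Fin n) F) = 0 := by
        have e4 := congrArg Units.val hb
        rw [Units.val_neg] at e4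
        have : (2 : F) • ((a * (b : GL (Fin n) F) : GL (Fin n) F) : Matrix (Fin n) (Fin n) F) = 0 := by
          rw [two_smul]; nth_rw 1 [e4]; rw [neg_add_cancel]
        exact (smul_eq_zero.mp this).resolve_left h2
      exact Units.ne_zero _ e3
    · have himg : (fun x : (Module.End F (Fin n → F))ˣ => (x : Module.End F (Fin n → F))) '' (R' : Set _) =
          (Matrix.toLinAlgEquiv' (R := F) (n := Fin n)).toLinearMap ''
            ((fun g : GL (Fin n) F => (g : Matrix (Fin n) (Fin n) F)) '' (R : Set (GL (Fin n) F))) := by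
        rw [Subgroup.coe_map, Set.image_image, Set.image_image]
        exact Set.image_congr fun g _ => hψv g
      rw [himg, ← Submodule.map_span, hspan, Submodule.map_top, LinearMap.range_eq_top]
      exact (Matrix.toLinAlgEquiv' (R := F) (n := Fin n)).surjective
  have hiso : ∀ g, g ∈ U ↔ ∀ u v, B ((g : Module.End F (Fin n → F)) u) ((g : Module.End F (Fin n → F)) v) = B u v :=
    fun g => by rw [hBdef]; exact mem_endImage_iso h2 g
  have hR'U : R' ≤ U := by
    show R.map ψ.toMonoidHom ≤ (isometryGroup F ⇑Q).map _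
    rw [hψ]; exact Subgroup.map_mono hRD
  have hGU : G₀ ≤ U := Subgroup.map_mono (by
    rintro _ ⟨g, -, rfl⟩; exact g.2)
  have hcomm : ⁅U, U⁆ ≤ G₀ := by
    show ⁅endImage _, endImage _⁆ ≤ endImage _
    rw [endImage, endImage, ← Subgroup.map_commutator]
    refine Subgroup.map_mono ?_
    rw [omegaGL, Omega, commutator_def, Subgroup.map_commutator, ← MonoidHom.range_eq_map, Subgroup.range_subtype]
  have hA : finrank (ZMod 2) hFr.A = 2 * k := by
    haveI := hFr.fin
    exact hFr.finrank_A hR'card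
  have hamb : Amb F R' adj U G₀ := by
    refine ⟨hFr, fun a b => (huniq _ _ fun u v => by simp [hadj]).symm,
      fun a b => (huniq _ _ fun u v => by simp [hadj]).symm, fun c a => (huniq _ _ fun u v => by simp [hadj]).symm,
      fun x hx => (huniq _ _ fun u v => ?_).symm, fun g => ?_, hcomm, hGU, by rw [hA]; omega⟩
    · have e := (hiso x).mp (hR'U hx) (((x⁻¹ : (Module.End F (Fin n → F))ˣ) : Module.End F (Fin n → F)) u) v
      rw [← Module.End.mul_apply, Units.mul_inv, Module.End.one_apply] at e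
      exact e.symm
    · rw [hiso]
      constructor
      · intro hg
        refine LinearMap.ext fun u => ?_
        by_contra hne
        refine sub_ne_zero.mpr hne (hB.1 _ fun v => ?_)
        rw [map_sub, LinearMap.sub_apply, Module.End.mul_apply, hadj, hg, Module.End.one_apply, sub_self]
      · intro hg u v
        rw [← hadj, ← Module.End.mul_apply, hg, Module.End.one_apply]
  obtain ⟨j, rfl⟩ : ∃ j, k = j + 1 := ⟨k - 1, by omega⟩
  have hOrth : OrthAmb (QuadraticMap.polarBilin Q) R' adj U G₀ j := by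
    refine ⟨hamb, hBdef ▸ hsym, fun v hv => ?_, hBdef ▸ hiso, hR'card, by rw [finrank_fin_fun, hdim], ?_⟩
    · by_contra h0
      push Not at h0
      exact hv (hQ.1 v h0)
    · obtain ⟨E, hE, hEsq, hEcard⟩ := hpt
      haveI := hFr.fin
      let cl : E → hFr.A := fun e => hFr.cls (ψ (e.1 : GL (Fin n) F))
      have hm : ∀ e : E, ψ (e.1 : GL (Fin n) F) ∈ R' := fun e => ⟨_, e.1.2, rfl⟩
      have hadd : ∀ e e', cl (e * e') = cl e + cl e' := fun e e' => by
        show hFr.cls (ψ ((e.1 : GL (Fin n) F) * (e'.1 : GL (Fin n) F))) = _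
        rw [map_mul, hFr.cls_mul (hm e) (hm e')]
      have hone : cl 1 = 0 := by show hFr.cls (ψ 1) = 0; rw [map_one, hFr.cls_one]
      let S : Submodule (ZMod 2) hFr.A :=
        { carrier := Set.range cl
          zero_mem' := ⟨1, hone⟩
          add_mem' := by rintro _ _ ⟨e, rfl⟩ ⟨e', rfl⟩; exact ⟨e * e', hadd e e'⟩
          smul_mem' := by
            rintro c _ ⟨e, rfl⟩
            rcases two_cases c with rfl | rfl
            · exact ⟨1, by rw [hone, zero_smul]⟩
            · exact ⟨e, (one_smul _ _).symm⟩ }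
      have hSq : ∀ x ∈ S, hFr.q x = 0 := by
        rintro _ ⟨e, rfl⟩
        rw [hFr.q_cls (hm e), hFr.sqc_zero (hm e), ← map_mul, ← Subgroup.coe_mul, hEsq e.1 e.2,
          OneMemClass.coe_one, map_one]
      have hiso' : S ≤ LinearMap.BilinForm.orthogonal (QuadraticMap.polarBilin hFr.q) S := fun x hx =>
        LinearMap.BilinForm.mem_orthogonal_iff.mpr fun y hy => by
          have e := hSq _ (S.add_mem hy hx)
          rw [QSpace.map_add', hSq y hy, hSq x hx, zero_add, zero_add] at e
          exact e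
      have hub := Submodule.finrank_mono hiso'
      rw [hFr.qspace.finrank_orth, hA] at hub
      let f : E →* Multiplicative S :=
        { toFun := fun e => Multiplicative.ofAdd ⟨cl e, e, rfl⟩
          map_one' := congrArg Multiplicative.ofAdd (Subtype.ext hone)
          map_mul' := fun e e' => congrArg Multiplicative.ofAdd (Subtype.ext (hadd e e')) }
      have hker : Nat.card f.ker ≤ 2 := by
        have : Nat.card f.ker = ((fun t : f.ker => (t.1.1 : GL (Fin n) F)) '' Set.univ).ncard := by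
          rw [Set.ncard_image_of_injective _ (fun t t' ht => Subtype.ext (Subtype.ext (Subtype.ext ht))),
            Set.ncard_univ]
        rw [this]
        refine (Set.ncard_le_ncard (t := ({1, -1} : Set (GL (Fin n) F))) ?_ (Set.toFinite _)).trans
          ((Set.ncard_insert_le _ _).trans (by rw [Set.ncard_singleton]))
        rintro _ ⟨t, -, rfl⟩
        have : cl t.1 = 0 := congrArg Subtype.val (congrArg Multiplicative.toAdd (MonoidHom.mem_ker.mp t.2))
        rcases (hFr.cls_eq_zero (hm t.1)).mp this with e | e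
        · left; exact ψ.injective (by rw [e, map_one])
        · right; exact ψ.injective (by rw [e, hψneg, map_one])
      have hlow : 2 ^ (j + 1 + 1) ≤ 2 * Nat.card S := by
        rw [← hEcard, Subgroup.card_eq_card_quotient_mul_card_subgroup f.ker,
          Nat.card_congr (QuotientGroup.quotientKerEquivRange f).toEquiv, mul_comm]
        exact Nat.mul_le_mul hker
          ((Subgroup.card_le_card_group f.range).trans (Nat.card_congr Multiplicative.toAdd).le)
      rw [Module.natCard_eq_pow_finrank (K := ZMod 2), Nat.card_zmod, pow_succ, mul_comm] at hlow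
      have hge := (Nat.pow_le_pow_iff_right one_lt_two).mp (Nat.le_of_mul_le_mul_left hlow two_pos)
      exact ⟨S, by omega, hSq⟩
  obtain ⟨x, y, hxy⟩ : ∃ x y : F, x * x + y * y = -1 := by
    obtain ⟨a, b, hab⟩ := CharP.sq_add_sq F p (-1)
    exact ⟨a, b, by rw [← pow_two, ← pow_two, hab, Int.cast_neg, Int.cast_one]⟩
  have hN : Subgroup.normalizer (R' : Set (Module.End F (Fin n → F))ˣ) ⊓ G₀ =
      (subgroupNormalizer R ⊓ omegaGL ⇑Q).map ψ.toMonoidHom := by
    rw [Subgroup.map_inf_eq _ _ _ ψ.injective, subgroupNormalizer, Subgroup.map_equiv_normalizer_eq R ψ]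
    show Subgroup.normalizer ((R.map ψ.toMonoidHom : Subgroup _) : Set (Module.End F (Fin n → F))ˣ) ⊓
      (omegaGL ⇑Q).map _ = _
    rw [hψ]
  have hG₀ : G₀ = (omegaGL ⇑Q).map ψ.toMonoidHom := by rw [hψ]; rfl
  refine ⟨lt_of_le_of_ne inf_le_right fun heq => ?_, fun M hM1 hM2 => ?_⟩
  · obtain ⟨b₁, b₂, hb⟩ := hOrth.exists_qpair
    obtain ⟨σ, κ, D⟩ := hOrth.exists_adapted hb hxy
    refine hOrth.not_normalizes (by omega) hb D fun g hg => ?_
    rw [hG₀, ← heq, ← hN] at hg
    exact hg.1
  have h1 : Subgroup.normalizer (R' : Set (Module.End F (Fin n → F))ˣ) ⊓ G₀ ≤ M.map ψ.toMonoidHom :=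
    hN ▸ Subgroup.map_mono hM1
  have h2M : M.map ψ.toMonoidHom ≤ G₀ := hG₀ ▸ Subgroup.map_mono hM2
  rcases hOrth.normalizes_or_cent hxy (hF ▸ hp) (by omega) (h2M.trans hGU) (fun g hg hgn => h1 ⟨hgn, hg⟩) with e | e
  · left
    refine le_antisymm (Subgroup.map_le_map_iff_of_injective (f := ψ.toMonoidHom) ψ.injective |>.mp ?_) hM1
    rw [← hN]
    exact le_inf e h2M
  · right
    refine le_antisymm hM2 (Subgroup.map_le_map_iff_of_injective (f := ψ.toMonoidHom) ψ.injective |>.mp ?_)
    rw [← hG₀]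
    exact hOrth.omega_le (by omega) rfl rfl hxy h2M (fun g hg hgn => h1 ⟨hgn, hg⟩) e

end Cfsg.Agent.Lib.SympCent35
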